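import Mathlib.GroupTheory.Transfer
import Cfsg.Agent.Lib.H75.SylowNumber

set_option autoImplicit false

/-! Groups in which every `p`-element centralizes a Sylow `p`-subgroup. -/

namespace H75.PCentral

open Subgroup H75.SylowNumber

variable {G : Type*} [Group G] {p : ℕ} [Fact p.Prime]

/-- If `p ∤ |G : C|` and `Q ≤ C` is a `p`-subgroup there is a Sylow subgroup `R` of `G` with `Q ≤ R ≤ C`. -/
theorem exists_sylow_between [Finite G] (C Q : Subgroup G) (hC : ¬ p ∣ C.index) (hQ : IsPGroup p Q)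
    (hQC : Q ≤ C) : ∃ R : Sylow p G, Q ≤ R ∧ (R : Subgroup G) ≤ C := by
  have h1 : IsPGroup p (Q.subgroupOf C) := hQ.comap_of_injective C.subtype (Subgroup.subtype_injective C)
  obtain ⟨R, hR⟩ := h1.exists_le_sylow
  have h2 : IsPGroup p ((R : Subgroup C).map C.subtype) := R.isPGroup'.map _
  have h3 : ¬ p ∣ ((R : Subgroup C).map C.subtype).index := by
    rw [Subgroup.index_map_subtype]
    intro h
    rcases (Fact.out : p.Prime).dvd_mul.1 h with h | h
    · exact R.not_dvd_index h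
    · exact hC h
  refine ⟨h2.toSylow h3, ?_, ?_⟩
  · intro q hq
    exact ⟨⟨q, hQC hq⟩, hR hq, rfl⟩
  · rintro _ ⟨r, _, rfl⟩
    exact r.2

theorem not_dvd_relIndex_of_normal [Finite G] (C N : Subgroup G) [N.Normal] (hC : ¬ p ∣ C.index) :
    ¬ p ∣ C.relIndex N := by
  obtain ⟨R, -, hR⟩ := exists_sylow_between (p := p) C ⊥ hC IsPGroup.of_bot bot_le
  obtain ⟨Q, hQ⟩ := exists_sylow_inf R N
  intro h
  have h1 : C.relIndex N ∣ (R : Subgroup G).relIndex N := relIndex_dvd_of_le_left N hR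
  apply Q.not_dvd_index
  rw [hQ]
  exact h.trans h1

/-- Central Sylow subgroup: a retraction (up to a `p'`-power) onto it, invariant under automorphisms
fixing it pointwise. -/
theorem exists_retraction [Finite G] (P : Sylow p G) (hP : (P : Subgroup G) ≤ center G) :
    ∃ (ρ : G →* G) (m : ℕ), (∀ g, ρ g ∈ (P : Subgroup G)) ∧ ¬ p ∣ m ∧ (∀ z ∈ (P : Subgroup G), ρ z = z ^ m) ∧
      ∀ φ : MulAut G, (∀ z ∈ (P : Subgroup G), φ z = z) → ∀ g, ρ (φ g) = ρ g := by
  have hN : normalizer (P : Set G) ≤ centralizer (P : Set G) := by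
    intro g _
    rw [Subgroup.mem_centralizer_iff]
    intro z hz
    exact (Subgroup.mem_center_iff.1 (hP hz) g).symm
  let τ := MonoidHom.transferSylow P hN
  have hpow : ∀ z (hz : z ∈ (P : Subgroup G)), ((τ z : (P : Subgroup G)) : G) = z ^ P.index := by
    intro z hz
    have := MonoidHom.transferSylow_eq_pow P hN z hz
    exact congrArg Subtype.val this
  have hcompl := MonoidHom.ker_transferSylow_isComplement' P hN
  refine ⟨(P : Subgroup G).subtype.comp τ, P.index, fun g => (τ g).2, P.not_dvd_index, hpow, ?_⟩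
  intro φ hφ g
  -- decompose g = k * z
  obtain ⟨⟨k, z⟩, hkz, -⟩ := hcompl.existsUnique g
  have hk : (k : G) ∈ τ.ker := k.2
  have hφk : φ (k : G) ∈ τ.ker := by
    rw [MonoidHom.mem_ker] at hk ⊢
    -- order of k prime to p
    have h1 : orderOf (k : G) ∣ Nat.card τ.ker := by
      rw [Subgroup.orderOf_coe]; exact orderOf_dvd_natCard k
    have h2 : ¬ p ∣ Nat.card τ.ker := MonoidHom.not_dvd_card_ker_transferSylow P hN
    obtain ⟨n, hn⟩ := (IsPGroup.iff_orderOf.1 P.isPGroup') (τ (φ (k : G)))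
    have h3 : orderOf (τ (φ (k : G))) ∣ orderOf (k : G) := by
      apply orderOf_dvd_of_pow_eq_one
      rw [← map_pow, ← map_pow, pow_orderOf_eq_one, map_one, map_one]
    rw [hn] at h3
    rcases Nat.eq_zero_or_pos n with h0 | h0
    · rw [h0, pow_zero] at hn
      exact orderOf_eq_one_iff.1 hn
    · exact absurd ((dvd_pow_self p h0.ne').trans (h3.trans h1)) h2
  show ((τ (φ g) : (P : Subgroup G)) : G) = τ g
  rw [MonoidHom.mem_ker] at hφk hk
  have hg : g = (k : G) * (z : G) := hkz.symm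
  rw [hg, map_mul, map_mul, map_mul, hφ z z.2, hφk, hk]

/-- Step 3: if `x` is a `p`-element in a `p`-subgroup `T` of `N⟨x⟩`, and `x` centralizes a commutative
Sylow subgroup of `N`, then `T` is commutative. -/
theorem comm_of_centralizes [Finite G] (N : Subgroup G) [N.Normal] (x : G)
    (hG : ∀ g : G, ∃ n ∈ N, ∃ k : ℤ, g = n * x ^ k)
    (Q : Subgroup G) (hQN : Q ≤ N) (hQp : IsPGroup p Q) (hQi : ¬ p ∣ Q.relIndex N)
    (hQc : ∀ a ∈ Q, ∀ b ∈ Q, a * b = b * a) (hxQ : ∀ a ∈ Q, x * a = a * x)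
    (hx : IsPGroup p (zpowers x)) (T : Subgroup G) (hT : IsPGroup p T) :
    ∀ a ∈ T, ∀ b ∈ T, a * b = b * a := by
  -- Q⟨x⟩ is a p-group
  have hQx : IsPGroup p (Q ⊔ zpowers x : Subgroup G) := by
    apply hQp.to_sup_of_normal_left' hx
    rw [zpowers_le]
    apply H75.Basic.mem_normalizer_of_conj_mem
    intro z hz
    rw [hxQ z hz, mul_inv_cancel_right]; exact hz
  obtain ⟨S2, hS2⟩ := hQx.exists_le_sylow
  have hS2N : (S2 : Subgroup G) ⊓ N = Q := by
    have h1 : Q ≤ (S2 : Subgroup G) ⊓ N := le_inf (le_sup_left.trans hS2) hQN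
    have h2 : IsPGroup p ((S2 : Subgroup G) ⊓ N : Subgroup G) := S2.isPGroup'.to_inf_left
    have h3 : Q.relIndex ((S2 : Subgroup G) ⊓ N) = 1 := by
      have h4 : Q.relIndex ((S2 : Subgroup G) ⊓ N) ∣ Q.relIndex N := by
        rw [← relIndex_mul_relIndex Q ((S2 : Subgroup G) ⊓ N) N h1 inf_le_right]
        exact dvd_mul_right _ _
      obtain ⟨k, hk⟩ := IsPGroup.iff_card.1 h2
      have h5 : Q.relIndex ((S2 : Subgroup G) ⊓ N) ∣ p ^ k := hk ▸ relIndex_dvd_card _ _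
      obtain ⟨j, hj, hj2⟩ := (Nat.dvd_prime_pow Fact.out).1 h5
      rcases Nat.eq_zero_or_pos j with h0 | h0
      · rw [hj2, h0, pow_zero]
      · exfalso
        apply hQi
        refine dvd_trans ?_ h4
        rw [hj2]
        exact dvd_pow_self p h0.ne'
    exact le_antisymm (relIndex_eq_one.1 h3) h1
  have hS2c : ∀ a ∈ (S2 : Subgroup G), ∀ b ∈ (S2 : Subgroup G), a * b = b * a := by
    have hxS : x ∈ (S2 : Subgroup G) := hS2 (le_sup_right (a := Q) (mem_zpowers x))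
    have hdec : ∀ a ∈ (S2 : Subgroup G), ∃ q ∈ Q, ∃ k : ℤ, a = q * x ^ k := by
      intro a ha
      obtain ⟨n, hn, k, rfl⟩ := hG a
      refine ⟨n, ?_, k, rfl⟩
      rw [← hS2N]
      refine ⟨?_, hn⟩
      have := (S2 : Subgroup G).mul_mem ha ((S2 : Subgroup G).inv_mem ((S2 : Subgroup G).zpow_mem hxS k))
      rw [mul_inv_cancel_right] at this
      exact this
    intro a ha b hb
    obtain ⟨q, hq, k, rfl⟩ := hdec a ha
    obtain ⟨r, hr, l, rfl⟩ := hdec b hb
    have hc1 : Commute x q := hxQ q hq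
    have hc2 : Commute x r := hxQ r hr
    have hc3 : Commute q r := hQc q hq r hr
    have e1 : Commute (x ^ k) r := hc2.zpow_left k
    have e2 : Commute (x ^ l) q := hc1.zpow_left l
    have e3 : Commute (x ^ k) (x ^ l) := (Commute.refl x).zpow_zpow k l
    have : Commute (q * x ^ k) (r * x ^ l) :=
      Commute.mul_left (Commute.mul_right hc3 e2.symm) (Commute.mul_right e1 e3)
    exact this
  obtain ⟨S1, hS1⟩ := hT.exists_le_sylow
  obtain ⟨g, hg⟩ := MulAction.exists_smul_eq G S1 S2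
  intro a ha b hb
  have hmem : ∀ c ∈ T, g * c * g⁻¹ ∈ (S2 : Subgroup G) := by
    intro c hc
    rw [← hg, Sylow.coe_subgroup_smul]
    exact (H75.Basic.mem_conj_smul _ _ _).2 ⟨c, hS1 hc, rfl⟩
  have h1 := hS2c _ (hmem a ha) _ (hmem b hb)
  have h2 : g * (a * b) * g⁻¹ = g * (b * a) * g⁻¹ := by
    calc g * (a * b) * g⁻¹ = (g * a * g⁻¹) * (g * b * g⁻¹) := by group
      _ = (g * b * g⁻¹) * (g * a * g⁻¹) := h1
      _ = g * (b * a) * g⁻¹ := by group
  simpa using h2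

omit [Fact p.Prime] in
theorem isPGroup_zpowers_of_mem {P : Subgroup G} (hP : IsPGroup p P) {x : G} (hx : x ∈ P) :
    IsPGroup p (zpowers x) := hP.to_le (zpowers_le.2 hx)

theorem exists_orderOf_of_mem {P : Subgroup G} (hP : IsPGroup p P) {x : G} (hx : x ∈ P) :
    ∃ k, orderOf x = p ^ k := by
  obtain ⟨k, hk⟩ := (IsPGroup.iff_orderOf.1 hP) ⟨x, hx⟩
  exact ⟨k, by rw [← hk, ← Subgroup.orderOf_coe]⟩

/-- Step 3 in `G`: `P` centralizes `P ∩ N`. -/
theorem centralizes_inf [Finite G] (N : Subgroup G) [hNn : N.Normal]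
    (hgood : ∀ x : G, (∃ k, orderOf x = p ^ k) → ¬ p ∣ (centralizer ({x} : Set G)).index)
    (hN : ∀ P : Sylow p G, ∀ a ∈ (P : Subgroup G), a ∈ N → ∀ b ∈ (P : Subgroup G), b ∈ N → a * b = b * a)
    (P : Sylow p G) (x : G) (hx : x ∈ (P : Subgroup G)) (z : G) (hz : z ∈ (P : Subgroup G)) (hzN : z ∈ N) :
    x * z = z * x := by
  have hxp := exists_orderOf_of_mem P.isPGroup' hx
  have hxz : IsPGroup p (zpowers x) := isPGroup_zpowers_of_mem P.isPGroup' hx
  obtain ⟨R, -, hR⟩ := exists_sylow_between (p := p) _ ⊥ (hgood x hxp) IsPGroup.of_bot bot_le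
  -- work in H = N ⊔ ⟨x⟩
  set H : Subgroup G := N ⊔ zpowers x with hH
  have hNH : N ≤ H := le_sup_left
  have hxH : x ∈ H := le_sup_right (a := N) (mem_zpowers x)
  have hmemH : ∀ h ∈ H, ∃ n ∈ N, ∃ k : ℤ, h = n * x ^ k := by
    intro h hh
    rw [hH, Subgroup.mem_sup_of_normal_left] at hh
    obtain ⟨n, hn, y, hy, rfl⟩ := hh
    obtain ⟨k, rfl⟩ := mem_zpowers_iff.1 hy
    exact ⟨n, hn, k, rfl⟩
  have key := comm_of_centralizes (p := p) (G := H) (N.subgroupOf H) ⟨x, hxH⟩ ?_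
    (((R : Subgroup G) ⊓ N).subgroupOf H) (Subgroup.comap_mono inf_le_right) ?_ ?_ ?_ ?_ ?_
    ((P : Subgroup G).subgroupOf H) ?_
  · have := key ⟨x, hxH⟩ hx ⟨z, hNH hzN⟩ hz
    exact congrArg Subtype.val this
  · rintro ⟨g, hg⟩
    obtain ⟨n, hn, k, rfl⟩ := hmemH g hg
    refine ⟨⟨n, hNH hn⟩, hn, k, ?_⟩
    apply Subtype.ext
    push_cast
    rfl
  · exact (R.isPGroup'.to_inf_left (K := N)).comap_of_injective H.subtype (Subgroup.subtype_injective H)
  · have e : (((R : Subgroup G) ⊓ N).subgroupOf H).relIndex (N.subgroupOf H) = (R : Subgroup G).relIndex N := by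
      rw [relIndex_subgroupOf hNH, inf_relIndex_right]
    rw [e]
    obtain ⟨Q, hQ⟩ := exists_sylow_inf R N
    have := Q.not_dvd_index
    rw [hQ] at this
    exact this
  · rintro ⟨a, ha⟩ ha' ⟨b, hb⟩ hb'
    apply Subtype.ext
    exact hN R a ha'.1 ha'.2 b hb'.1 hb'.2
  · rintro ⟨a, ha⟩ ha'
    apply Subtype.ext
    have := hR ha'.1
    rw [Subgroup.mem_centralizer_singleton_iff] at this
    exact this.symm
  · have : IsPGroup p ((zpowers x).subgroupOf H) := hxz.comap_of_injective H.subtype (Subgroup.subtype_injective H)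
    apply this.to_le
    rw [zpowers_le]
    exact mem_zpowers x
  · exact P.isPGroup'.comap_of_injective H.subtype (Subgroup.subtype_injective H)

/-- Core theorem: every `p`-element has `p'`-class size, `N ⊴ G`, Sylow `p`-subgroups of `N` and of `G/N`
commutative; then Sylow `p`-subgroups of `G` are commutative. -/
theorem comm_of_normal [Finite G] (N : Subgroup G) [hNn : N.Normal]
    (hgood : ∀ x : G, (∃ k, orderOf x = p ^ k) → ¬ p ∣ (centralizer ({x} : Set G)).index)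
    (hN : ∀ P : Sylow p G, ∀ a ∈ (P : Subgroup G), a ∈ N → ∀ b ∈ (P : Subgroup G), b ∈ N → a * b = b * a)
    (hGN : ∀ P : Sylow p G, ∀ a ∈ (P : Subgroup G), ∀ b ∈ (P : Subgroup G), a * b * a⁻¹ * b⁻¹ ∈ N)
    (P : Sylow p G) : ∀ x ∈ (P : Subgroup G), ∀ y ∈ (P : Subgroup G), x * y = y * x := by
  intro x hx y hy
  set P0 : Subgroup G := (P : Subgroup G) ⊓ N with hP0
  set C : Subgroup G := centralizer (P0 : Set G) with hC
  set M : Subgroup G := C ⊓ N with hM
  have hcent := centralizes_inf (p := p) N hgood hN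
  have hPC : (P : Subgroup G) ≤ C := by
    intro a ha
    rw [hC, mem_centralizer_iff]
    rintro z ⟨hz1, hz2⟩
    exact (hcent P a ha z hz1 hz2).symm
  have hP0M : P0 ≤ M := by
    refine le_inf (inf_le_left.trans hPC) inf_le_right
  have hP0p : IsPGroup p P0 := P.isPGroup'.to_inf_left
  -- Sylow subgroup of M
  have hidx : ¬ p ∣ P0.relIndex N := by
    obtain ⟨Q, hQ⟩ := exists_sylow_inf P N
    have := Q.not_dvd_index
    rw [hQ] at this
    rw [hP0, inf_relIndex_right]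
    exact this
  have hidxM : ¬ p ∣ (P0.subgroupOf M).index := by
    intro h
    apply hidx
    rw [← relIndex_mul_relIndex P0 M N hP0M inf_le_right]
    exact dvd_mul_of_dvd_left h _
  have hP0pM : IsPGroup p (P0.subgroupOf M) :=
    hP0p.comap_of_injective M.subtype (Subgroup.subtype_injective M)
  obtain ⟨ρ, m, hρP, hm, hρz, hρinv⟩ := exists_retraction (hP0pM.toSylow hidxM) (by
    intro z hz
    rw [mem_center_iff]
    intro g
    apply Subtype.ext
    have hg : (g : G) ∈ C := g.2.1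
    rw [hC, mem_centralizer_iff] at hg
    exact (hg z hz).symm)
  have hconjM : ∀ c ∈ C, ∀ w ∈ M, c * w * c⁻¹ ∈ M := by
    intro c hc w hw
    exact ⟨C.mul_mem (C.mul_mem hc hw.1) (C.inv_mem hc), hNn.conj_mem _ hw.2 c⟩
  have hCM : C ≤ normalizer (M : Set G) := by
    intro c hc
    exact H75.Basic.mem_normalizer_of_conj_mem M c (hconjM c hc)
  have hinv : ∀ (c : G) (hc : c ∈ C) (w : G) (hw : w ∈ M), ρ ⟨c * w * c⁻¹, hconjM c hc w hw⟩ = ρ ⟨w, hw⟩ := by
    intro c hc w hw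
    have := hρinv (M.normalizerMonoidHom ⟨c, hCM hc⟩) (by
      intro z hz
      apply Subtype.ext
      have hc' := hc
      rw [hC, mem_centralizer_iff] at hc'
      have h2 : (z : G) * c = c * z := hc' z hz
      show c * (z : G) * c⁻¹ = z
      rw [← h2, mul_inv_cancel_right]) ⟨w, hw⟩
    rw [← this]
    rfl
  -- the subgroup D
  have hxC : x ∈ C := hPC hx
  let D : Subgroup G :=
    { carrier := {c | c ∈ C ∧ x * c * x⁻¹ * c⁻¹ ∈ M}
      one_mem' := ⟨C.one_mem, by simp [M.one_mem]⟩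
      mul_mem' := by
        rintro c d ⟨hc, hc2⟩ ⟨hd, hd2⟩
        refine ⟨C.mul_mem hc hd, ?_⟩
        have e : x * (c * d) * x⁻¹ * (c * d)⁻¹ = (x * c * x⁻¹ * c⁻¹) * (c * (x * d * x⁻¹ * d⁻¹) * c⁻¹) := by group
        rw [e]
        exact M.mul_mem hc2 (hconjM c hc _ hd2)
      inv_mem' := by
        rintro c ⟨hc, hc2⟩
        refine ⟨C.inv_mem hc, ?_⟩
        have e : x * c⁻¹ * x⁻¹ * (c⁻¹)⁻¹ = c⁻¹ * (x * c * x⁻¹ * c⁻¹)⁻¹ * (c⁻¹)⁻¹ := by group
        rw [e]
        exact hconjM _ (C.inv_mem hc) _ (M.inv_mem hc2) }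
  let f : D →* M := MonoidHom.mk' (fun c => ρ ⟨x * c * x⁻¹ * (c : G)⁻¹, c.2.2⟩) (by
    rintro ⟨c, hc, hc2⟩ ⟨d, hd, hd2⟩
    rw [← hinv c hc _ hd2, ← map_mul]
    congr 1
    apply Subtype.ext
    show x * (c * d) * x⁻¹ * (c * d)⁻¹ = (x * c * x⁻¹ * c⁻¹) * (c * (x * d * x⁻¹ * d⁻¹) * c⁻¹)
    group)
  -- Sylow R of G, centralizing x and P0
  have hxp := exists_orderOf_of_mem P.isPGroup' hx
  have hP0x : P0 ≤ centralizer ({x} : Set G) := by
    rintro z ⟨hz1, hz2⟩
    rw [mem_centralizer_singleton_iff]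
    exact (hcent P x hx z hz1 hz2).symm
  obtain ⟨R, hR1, hR2⟩ := exists_sylow_between (p := p) _ P0 (hgood x hxp) hP0p hP0x
  have hRN : (R : Subgroup G) ⊓ N = P0 := by
    have h1 : P0 ≤ (R : Subgroup G) ⊓ N := le_inf hR1 inf_le_right
    have h2 : IsPGroup p ((R : Subgroup G) ⊓ N : Subgroup G) := R.isPGroup'.to_inf_left
    have h4 : P0.relIndex ((R : Subgroup G) ⊓ N) ∣ P0.relIndex N := by
      rw [← relIndex_mul_relIndex P0 ((R : Subgroup G) ⊓ N) N h1 inf_le_right]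
      exact dvd_mul_right _ _
    obtain ⟨k, hk⟩ := IsPGroup.iff_card.1 h2
    have h5 : P0.relIndex ((R : Subgroup G) ⊓ N) ∣ p ^ k := hk ▸ relIndex_dvd_card _ _
    obtain ⟨j, hj, hj2⟩ := (Nat.dvd_prime_pow Fact.out).1 h5
    rcases Nat.eq_zero_or_pos j with h0 | h0
    · exact le_antisymm (relIndex_eq_one.1 (by rw [hj2, h0, pow_zero])) h1
    · exact absurd (dvd_trans (hj2 ▸ dvd_pow_self p h0.ne') h4) hidx
  have hRC : (R : Subgroup G) ≤ C := by
    intro r hr
    rw [hC, mem_centralizer_iff]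
    intro z hz
    have hz' : z ∈ (R : Subgroup G) ⊓ N := by rw [hRN]; exact hz
    exact (hcent R r hr z hz'.1 hz'.2).symm
  have hRx : ∀ r ∈ (R : Subgroup G), x * r * x⁻¹ * r⁻¹ = 1 := by
    intro r hr
    have := hR2 hr
    rw [mem_centralizer_singleton_iff] at this
    rw [← this]; group
  have hRD : (R : Subgroup G) ≤ D := fun r hr => ⟨hRC hr, by rw [hRx r hr]; exact M.one_mem⟩
  have hRker : (R : Subgroup G).subgroupOf D ≤ f.ker := by
    rintro ⟨r, hrD⟩ hr
    rw [MonoidHom.mem_ker]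
    show ρ _ = 1
    have : (⟨x * r * x⁻¹ * r⁻¹, hrD.2⟩ : M) = 1 := Subtype.ext (hRx r hr)
    rw [this, map_one]
  have hker1 : ¬ p ∣ f.ker.index := by
    intro h
    have h1 : f.ker.index ∣ (R : Subgroup G).relIndex D := index_dvd_of_le hRker
    exact R.not_dvd_index (h.trans (h1.trans (relIndex_dvd_index_of_le hRD)))
  have hker2 : ∃ k, f.ker.index = p ^ k := by
    rw [index_ker]
    have : f.range ≤ P0.subgroupOf M := by
      rintro _ ⟨c, rfl⟩
      exact hρP _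
    exact IsPGroup.iff_card.1 (hP0pM.to_le this)
  have hkertop : f.ker = ⊤ := by
    obtain ⟨k, hk⟩ := hker2
    rw [← index_eq_one, hk]
    rcases Nat.eq_zero_or_pos k with h0 | h0
    · rw [h0, pow_zero]
    · exact absurd (hk ▸ dvd_pow_self p h0.ne') hker1
  -- now y
  have hyN : x * y * x⁻¹ * y⁻¹ ∈ N := hGN P x hx y hy
  have hyP : x * y * x⁻¹ * y⁻¹ ∈ (P : Subgroup G) :=
    (P : Subgroup G).mul_mem ((P : Subgroup G).mul_mem ((P : Subgroup G).mul_mem hx hy) ((P : Subgroup G).inv_mem hx))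
      ((P : Subgroup G).inv_mem hy)
  have hyP0 : x * y * x⁻¹ * y⁻¹ ∈ P0 := ⟨hyP, hyN⟩
  have hyD : y ∈ D := ⟨hPC hy, hP0M hyP0⟩
  have hfy : f ⟨y, hyD⟩ = 1 := by
    have : (⟨y, hyD⟩ : D) ∈ f.ker := by rw [hkertop]; trivial
    exact this
  have hfy2 : (⟨x * y * x⁻¹ * y⁻¹, hyD.2⟩ : M) ^ m = 1 := by
    rw [← hρz ⟨x * y * x⁻¹ * y⁻¹, hyD.2⟩ hyP0]
    exact hfy
  have hord := orderOf_dvd_of_pow_eq_one hfy2
  obtain ⟨k, hk⟩ := (IsPGroup.iff_orderOf.1 hP0p) ⟨_, hyP0⟩
  have hk' : orderOf (⟨x * y * x⁻¹ * y⁻¹, hyD.2⟩ : M) = p ^ k := by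
    rw [← hk, ← Subgroup.orderOf_coe, ← Subgroup.orderOf_coe]
  have h1 : x * y * x⁻¹ * y⁻¹ = 1 := by
    rcases Nat.eq_zero_or_pos k with h0 | h0
    · rw [h0, pow_zero] at hk
      have := orderOf_eq_one_iff.1 hk
      exact congrArg Subtype.val this
    · rw [hk'] at hord
      exact absurd ((dvd_pow_self p h0.ne').trans hord) hm
  have h2 : x * y * x⁻¹ = y := mul_inv_eq_one.1 h1
  exact mul_inv_eq_iff_eq_mul.1 h2

end H75.PCentral
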