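import Mathlib

set_option autoImplicit false
set_option linter.all false

/-! `π`-homogeneous groups: basics (towards S3258). -/

namespace H75.PH

open Subgroup

universe u

/-- `π`-numbers -/
def Pi (π : Set ℕ) (n : ℕ) : Prop := ∀ p : ℕ, p.Prime → p ∣ n → p ∈ π

/-- `π'`-numbers -/
def Pd (π : Set ℕ) (n : ℕ) : Prop := ∀ p : ℕ, p.Prime → p ∣ n → p ∉ π

section numbers

variable {π : Set ℕ} {m n : ℕ}

theorem Pi.mono (h : Pi π n) (hm : m ∣ n) : Pi π m := fun p hp hpm => h p hp (hpm.trans hm)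

theorem Pd.mono (h : Pd π n) (hm : m ∣ n) : Pd π m := fun p hp hpm => h p hp (hpm.trans hm)

theorem Pi.mul (h : Pi π m) (h' : Pi π n) : Pi π (m * n) := fun p hp hpm =>
  ((Nat.Prime.dvd_mul hp).1 hpm).elim (h p hp) (h' p hp)

theorem Pd.mul (h : Pd π m) (h' : Pd π n) : Pd π (m * n) := fun p hp hpm =>
  ((Nat.Prime.dvd_mul hp).1 hpm).elim (h p hp) (h' p hp)

theorem Pi.one : Pi π 1 := fun p hp h => absurd (Nat.dvd_one.1 h) hp.ne_one

theorem Pd.one : Pd π 1 := fun p hp h => absurd (Nat.dvd_one.1 h) hp.ne_one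

theorem coprime_of (h : Pi π m) (h' : Pd π n) : Nat.Coprime m n := by
  rw [Nat.coprime_iff_gcd_eq_one]
  by_contra hne
  obtain ⟨p, hp, hpd⟩ := Nat.exists_prime_and_dvd hne
  exact h' p hp (hpd.trans (Nat.gcd_dvd_right _ _)) (h p hp (hpd.trans (Nat.gcd_dvd_left _ _)))

theorem Pd.not_two (h2 : 2 ∈ π) (h : Pd π n) : ¬ 2 ∣ n := fun hd => h 2 Nat.prime_two hd h2

theorem Pd.odd (h2 : 2 ∈ π) (h : Pd π n) : Odd n := by
  rw [← Nat.not_even_iff_odd, even_iff_two_dvd]; exact h.not_two h2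

theorem Pi.pow {p : ℕ} (hp : p.Prime) (h : p ∈ π) (k : ℕ) : Pi π (p ^ k) := fun q hq hqk => by
  rw [(Nat.prime_dvd_prime_iff_eq hq hp).1 (hq.dvd_of_dvd_pow hqk)]; exact h

theorem Pd.pow {p : ℕ} (hp : p.Prime) (h : p ∉ π) (k : ℕ) : Pd π (p ^ k) := fun q hq hqk => by
  rw [(Nat.prime_dvd_prime_iff_eq hq hp).1 (hq.dvd_of_dvd_pow hqk)]; exact h

theorem eq_one_of_both (h : Pi π n) (h' : Pd π n) : n = 1 := by
  have := coprime_of h h'
  rwa [Nat.coprime_self] at this

end numbers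

section conj

variable {G : Type u} [Group G]

theorem orderOf_conj (g x : G) : orderOf (g * x * g⁻¹) = orderOf x :=
  orderOf_injective (MulAut.conj g).toMonoidHom (MulAut.conj g).injective x

/-- the conjugate `g A g⁻¹` -/
def cj (g : G) (A : Subgroup G) : Subgroup G := A.map (MulAut.conj g).toMonoidHom

theorem mem_cj {g x : G} {A : Subgroup G} : x ∈ cj g A ↔ g⁻¹ * x * g ∈ A := by
  unfold cj
  constructor
  · rintro ⟨y, hy, rfl⟩
    have : g⁻¹ * ((MulAut.conj g).toMonoidHom y) * g = y := by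
      show g⁻¹ * (g * y * g⁻¹) * g = y
      group
    rw [this]; exact hy
  · intro h
    refine ⟨_, h, ?_⟩
    show g * (g⁻¹ * x * g) * g⁻¹ = x
    group

theorem conj_mem_cj {g x : G} {A : Subgroup G} (h : x ∈ A) : g * x * g⁻¹ ∈ cj g A := by
  rw [mem_cj]
  have : g⁻¹ * (g * x * g⁻¹) * g = x := by group
  rwa [this]

theorem cj_one (A : Subgroup G) : cj 1 A = A := by
  ext x; rw [mem_cj]; simp

theorem cj_mul (a b : G) (A : Subgroup G) : cj (a * b) A = cj a (cj b A) := by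
  ext x; rw [mem_cj, mem_cj, mem_cj]
  have : (a * b)⁻¹ * x * (a * b) = b⁻¹ * (a⁻¹ * x * a) * b := by group
  rw [this]

theorem cj_inv_cj (a : G) (A : Subgroup G) : cj a⁻¹ (cj a A) = A := by
  rw [← cj_mul, inv_mul_cancel, cj_one]

theorem cj_cj_inv (a : G) (A : Subgroup G) : cj a (cj a⁻¹ A) = A := by
  rw [← cj_mul, mul_inv_cancel, cj_one]

theorem cj_mono {g : G} {A B : Subgroup G} (h : A ≤ B) : cj g A ≤ cj g B := Subgroup.map_mono h

theorem cj_le_iff {g : G} {A B : Subgroup G} : cj g A ≤ B ↔ ∀ x ∈ A, g * x * g⁻¹ ∈ B := by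
  constructor
  · intro h x hx; exact h (conj_mem_cj hx)
  · intro h x hx
    rw [mem_cj] at hx
    have := h _ hx
    have e : g * (g⁻¹ * x * g) * g⁻¹ = x := by group
    rwa [e] at this

theorem card_cj (g : G) (A : Subgroup G) : Nat.card (cj g A) = Nat.card A :=
  Nat.card_congr (A.equivMapOfInjective _ (MulAut.conj g).injective).symm.toEquiv

theorem cj_eq_of_le [Finite G] {g : G} {A : Subgroup G} (h : cj g A ≤ A) : cj g A = A :=
  Subgroup.eq_of_le_of_card_ge h (card_cj g A).ge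

theorem mem_normalizer_iff_cj {g : G} {A : Subgroup G} : g ∈ normalizer (A : Set G) ↔ cj g A = A := by
  rw [Subgroup.mem_normalizer_iff]
  constructor
  · intro h
    ext x
    rw [mem_cj, h (g⁻¹ * x * g)]
    have : g * (g⁻¹ * x * g) * g⁻¹ = x := by group
    rw [this]
  · intro h x
    have h1 : g * x * g⁻¹ ∈ cj g A ↔ x ∈ A := by
      rw [mem_cj]
      have : g⁻¹ * (g * x * g⁻¹) * g = x := by group
      rw [this]
    rw [h] at h1
    exact h1.symm

theorem cj_of_mem {g : G} {A : Subgroup G} (h : g ∈ A) : cj g A = A :=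
  mem_normalizer_iff_cj.1 (Subgroup.le_normalizer h)

theorem isPGroup_cj {p : ℕ} {g : G} {A : Subgroup G} (h : IsPGroup p A) : IsPGroup p (cj g A) := h.map _

theorem mem_cent_iff {x g : G} : g ∈ centralizer ({x} : Set G) ↔ g * x = x * g :=
  Subgroup.mem_centralizer_singleton_iff

theorem mem_cent_conj {x g c : G} (h : c ∈ centralizer ({x} : Set G)) :
    g * c * g⁻¹ ∈ centralizer ({g * x * g⁻¹} : Set G) := by
  rw [mem_cent_iff] at h ⊢
  calc g * c * g⁻¹ * (g * x * g⁻¹) = g * (c * x) * g⁻¹ := by group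
    _ = g * (x * c) * g⁻¹ := by rw [h]
    _ = g * x * g⁻¹ * (g * c * g⁻¹) := by group

theorem cj_cent (g x : G) : cj g (centralizer ({x} : Set G)) = centralizer ({g * x * g⁻¹} : Set G) := by
  ext c
  rw [mem_cj]
  constructor
  · intro h
    have := mem_cent_conj (g := g) h
    have e : g * (g⁻¹ * c * g) * g⁻¹ = c := by group
    rwa [e] at this
  · intro h
    have := mem_cent_conj (g := g⁻¹) h
    have e : g⁻¹ * c * g⁻¹⁻¹ = g⁻¹ * c * g := by group
    have e' : g⁻¹ * (g * x * g⁻¹) * g⁻¹⁻¹ = x := by group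
    rwa [e, e'] at this

end conj

section sylow

variable {G : Type u} [Group G] [Finite G]

/-- `T` is a Sylow 2-subgroup of `H` -/
def Syl (T H : Subgroup G) : Prop := T ≤ H ∧ IsPGroup 2 T ∧ ¬ 2 ∣ T.relIndex H

instance fact2 : Fact (Nat.Prime 2) := ⟨Nat.prime_two⟩

theorem syl_of_sylow {H : Subgroup G} (P : Sylow 2 H) : Syl ((P : Subgroup H).map H.subtype) H := by
  refine ⟨Subgroup.map_subtype_le _, P.2.map _, ?_⟩
  rw [Subgroup.relIndex, Subgroup.subgroupOf, Subgroup.comap_map_eq_self_of_injective H.subtype_injective]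
  exact P.not_dvd_index

theorem exists_syl {A H : Subgroup G} (hA : A ≤ H) (h2 : IsPGroup 2 A) : ∃ T, A ≤ T ∧ Syl T H := by
  obtain ⟨P, hP⟩ := IsPGroup.exists_le_sylow (P := A.subgroupOf H)
    (h2.comap_of_injective _ H.subtype_injective)
  refine ⟨(P : Subgroup H).map H.subtype, ?_, syl_of_sylow P⟩
  intro a ha
  exact ⟨⟨a, hA ha⟩, hP (by rw [Subgroup.mem_subgroupOf]; exact ha), rfl⟩

/-- a Sylow subgroup in Mathlib form -/
theorem Syl.sylow {T H : Subgroup G} (h : Syl T H) : ∃ P : Sylow 2 H, (P : Subgroup H) = T.subgroupOf H := by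
  have h1 : IsPGroup 2 (T.subgroupOf H) := h.2.1.comap_of_injective _ H.subtype_injective
  exact ⟨h1.toSylow h.2.2, rfl⟩

theorem Syl.conj_le {T H A : Subgroup G} (h : Syl T H) (hA : A ≤ H) (h2 : IsPGroup 2 A) :
    ∃ g ∈ H, cj g A ≤ T := by
  obtain ⟨P, hP⟩ := h.sylow
  obtain ⟨Q, hQ⟩ := IsPGroup.exists_le_sylow (P := A.subgroupOf H)
    (h2.comap_of_injective _ H.subtype_injective)
  obtain ⟨g, hg⟩ := MulAction.exists_smul_eq H Q P
  refine ⟨g, g.2, cj_le_iff.2 fun x hx => ?_⟩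
  have h1 : (⟨x, hA hx⟩ : H) ∈ (Q : Subgroup H) := hQ (by rw [Subgroup.mem_subgroupOf]; exact hx)
  have h2 : g * ⟨x, hA hx⟩ * g⁻¹ ∈ (P : Subgroup H) := by
    rw [← hg, Sylow.coe_subgroup_smul]
    exact Subgroup.smul_mem_pointwise_smul _ (MulAut.conj g) _ h1
  rw [hP, Subgroup.mem_subgroupOf] at h2
  exact h2

theorem card_eq_of_syl {T S H : Subgroup G} (h : Syl T H) (h' : Syl S H) : Nat.card T = Nat.card S := by
  obtain ⟨P, hP⟩ := h.sylow
  obtain ⟨Q, hQ⟩ := h'.sylow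
  have h1 := Sylow.card_eq_multiplicity P
  have h2 := Sylow.card_eq_multiplicity Q
  have h3 : Nat.card (T.subgroupOf H) = Nat.card T := Nat.card_congr (Subgroup.subgroupOfEquivOfLe h.1).toEquiv
  have h4 : Nat.card (S.subgroupOf H) = Nat.card S := Nat.card_congr (Subgroup.subgroupOfEquivOfLe h'.1).toEquiv
  rw [← h3, ← h4, ← hP, ← hQ]
  exact h1.trans h2.symm

theorem Syl.conj {T S H : Subgroup G} (h : Syl T H) (h' : Syl S H) : ∃ g ∈ H, cj g S = T := by
  obtain ⟨g, hg, hle⟩ := h.conj_le h'.1 h'.2.1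
  refine ⟨g, hg, Subgroup.eq_of_le_of_card_ge hle ?_⟩
  rw [card_cj, card_eq_of_syl h h']

theorem Syl.max {T H A : Subgroup G} (h : Syl T H) (hTA : T ≤ A) (hA : A ≤ H) (h2 : IsPGroup 2 A) : A = T := by
  obtain ⟨g, hg, hle⟩ := h.conj_le hA h2
  symm
  refine Subgroup.eq_of_le_of_card_ge hTA ?_
  rw [← card_cj g A]
  exact Subgroup.card_le_of_le hle

theorem Syl.mono {T H K : Subgroup G} (h : Syl T K) (hT : T ≤ H) (hHK : H ≤ K) : Syl T H :=
  ⟨hT, h.2.1, fun hd => h.2.2 (hd.trans ⟨_, (Subgroup.relIndex_mul_relIndex T H K hT hHK).symm⟩)⟩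

theorem syl_top (P : Sylow 2 G) : Syl (P : Subgroup G) ⊤ := by
  refine ⟨le_top, P.2, ?_⟩
  rw [Subgroup.relIndex_top_right]
  exact P.not_dvd_index

theorem Syl.cj {T H : Subgroup G} (h : Syl T H) {g : G} (hg : g ∈ H) : Syl (cj g T) H := by
  refine ⟨?_, isPGroup_cj h.2.1, ?_⟩
  · have := cj_mono (g := g) h.1
    rwa [cj_of_mem hg] at this
  · have h1 : (PH.cj g T).relIndex H = T.relIndex H := by
      have := Subgroup.relIndex_map_map_of_injective T H (f := (MulAut.conj g).toMonoidHom) (MulAut.conj g).injective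
      have h2 : H.map (MulAut.conj g).toMonoidHom = H := cj_of_mem hg
      rw [h2] at this
      exact this
    rw [h1]; exact h.2.2

end sylow

end H75.PH
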