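import Mathlib
import Cfsg.Agent.Lib.H75.PH1

set_option autoImplicit false
set_option linter.all false

/-! `π`-closed subgroups and the minimal situation (towards S3258). -/

namespace H75.PH

open Subgroup

universe u

section cl

variable {G : Type u} [Group G] [Finite G] {π : Set ℕ} {H K T : Subgroup G}

/-- `H` is `π'`-closed -/
def Cl (π : Set ℕ) (H : Subgroup G) : Prop := ∃ K : Subgroup G, ∀ x : G, x ∈ K ↔ x ∈ H ∧ Pd π (orderOf x)

/-- the subgroup generated by the `π'`-elements -/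
def Oc (π : Set ℕ) (H : Subgroup G) : Subgroup G := closure {x | x ∈ H ∧ Pd π (orderOf x)}

theorem mem_Oc (h : Cl π H) {x : G} : x ∈ Oc π H ↔ x ∈ H ∧ Pd π (orderOf x) := by
  obtain ⟨K, hK⟩ := h
  have : Oc π H = K := by
    unfold Oc
    have : {x | x ∈ H ∧ Pd π (orderOf x)} = (K : Set G) := by ext x; exact (hK x).symm
    rw [this, closure_eq]
  rw [this, hK]

theorem Oc_le (H : Subgroup G) : Oc π H ≤ H := (closure_le _).2 fun x hx => hx.1

theorem Cl.mono (h : Cl π H) (hK : K ≤ H) : Cl π K := ⟨Oc π H ⊓ K, fun x => by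
  rw [mem_inf, mem_Oc h]; exact ⟨fun hx => ⟨hx.2, hx.1.2⟩, fun hx => ⟨⟨hK hx.1, hx.2⟩, hx.1⟩⟩⟩

theorem Oc_mono (hK : K ≤ H) : Oc π K ≤ Oc π H := closure_mono fun x hx => ⟨hK hx.1, hx.2⟩

theorem card_Oc (h : Cl π H) : Pd π (Nat.card (Oc π H)) := by
  intro p hp hd hpπ
  haveI : Fact p.Prime := ⟨hp⟩
  obtain ⟨x, hx⟩ := exists_prime_orderOf_dvd_card' (G := Oc π H) p hd
  have h1 := ((mem_Oc h).1 x.2).2
  have : orderOf (x : G) = p := by rw [Subgroup.orderOf_coe, hx]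
  rw [this] at h1
  exact h1 p hp dvd_rfl hpπ

theorem conj_mem_Oc (h : Cl π H) {g x : G} (hg : g ∈ normalizer (H : Set G)) (hx : x ∈ Oc π H) :
    g * x * g⁻¹ ∈ Oc π H := by
  rw [mem_Oc h] at hx ⊢
  exact ⟨(mem_normalizer_iff.1 hg x).1 hx.1, by rw [orderOf_conj]; exact hx.2⟩

theorem pi_relIndex (h : Cl π H) : Pi π ((Oc π H).relIndex H) := by
  intro p hp hd
  by_contra hpπ
  haveI : Fact p.Prime := ⟨hp⟩
  let S : Sylow p H := default
  have h1 : (S : Subgroup H) ≤ (Oc π H).subgroupOf H := by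
    intro x hx
    rw [mem_subgroupOf, mem_Oc h]
    refine ⟨x.2, ?_⟩
    obtain ⟨k, hk⟩ := IsPGroup.iff_orderOf.1 S.2 ⟨x, hx⟩
    have : orderOf (x : G) = p ^ k := by
      rw [Subgroup.orderOf_coe, ← hk]; exact (Subgroup.orderOf_mk x hx).symm
    rw [this]; exact Pd.pow hp hpπ k
  have h2 : ((Oc π H).subgroupOf H).index ∣ (S : Subgroup H).index := Subgroup.index_dvd_of_le h1
  exact S.not_dvd_index (hd.trans h2)

/-- every `π`-subgroup is 2-closed -/
def PCl (π : Set ℕ) (G : Type u) [Group G] : Prop :=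
  ∀ H : Subgroup G, Pi π (Nat.card H) → ∀ P : Sylow 2 H, (P : Subgroup H).Normal

theorem pcl_syl (h : PCl π G) {J T : Subgroup G} (hJ : Pi π (Nat.card J)) (hT : Syl T J) {g : G}
    (hg : g ∈ J) : cj g T = T := by
  obtain ⟨P, hP⟩ := hT.sylow
  have hn := h J hJ P
  apply cj_eq_of_le
  rw [cj_le_iff]
  intro x hx
  have h1 : (⟨x, hT.1 hx⟩ : J) ∈ (P : Subgroup J) := by rw [hP, mem_subgroupOf]; exact hx
  have h2 := hn.conj_mem _ h1 ⟨g, hg⟩
  rw [hP, mem_subgroupOf] at h2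
  exact h2

theorem factor (hP : PCl π G) (h2 : 2 ∈ π) (hH : Cl π H) (hT : Syl T H) {h : G} (hh : h ∈ H) :
    ∃ n ∈ H, cj n T = T ∧ ∃ o ∈ Oc π H, h = n * o := by
  set N := (Oc π H).subgroupOf H with hN
  haveI : N.Normal := ⟨fun x hx g => by
    rw [mem_subgroupOf] at hx ⊢
    exact conj_mem_Oc hH (le_normalizer g.2) hx⟩
  have hcN : Nat.card N = Nat.card (Oc π H) := Nat.card_congr (subgroupOfEquivOfLe (Oc_le H)).toEquiv
  have hcop : (Nat.card N).Coprime N.index := by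
    rw [hcN]
    exact (coprime_of (pi_relIndex hH) (card_Oc hH)).symm
  obtain ⟨J', hJ'⟩ := Subgroup.exists_right_complement'_of_coprime hcop
  set J := J'.map H.subtype with hJ
  have hcJ : Nat.card J = N.index := by
    rw [hJ'.symm.index_eq_card]
    exact Nat.card_congr (J'.equivMapOfInjective _ H.subtype_injective).symm.toEquiv
  have hJpi : Pi π (Nat.card J) := by rw [hcJ]; exact pi_relIndex hH
  have hJH : J ≤ H := map_subtype_le _
  have hdec : ∀ x ∈ H, ∃ j ∈ J, ∃ o ∈ Oc π H, x = j * o := by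
    intro x hx
    obtain ⟨⟨a, b⟩, hab, -⟩ := (isComplement_iff_existsUnique.1 hJ') (⟨x, hx⟩ : H)⁻¹
    refine ⟨((b : H) : G)⁻¹, inv_mem ⟨b, b.2, rfl⟩, ((a : H) : G)⁻¹, inv_mem ?_, ?_⟩
    · exact a.2
    · have := congrArg (fun y : H => (y : G)⁻¹) hab
      simp at this
      rw [← this]
  obtain ⟨T', -, hT'⟩ := exists_syl (A := (⊥ : Subgroup G)) (H := J) bot_le IsPGroup.of_bot
  have hT'H : Syl T' H := by
    refine ⟨hT'.1.trans hJH, hT'.2.1, ?_⟩
    rw [← Subgroup.relIndex_mul_relIndex T' J H hT'.1 hJH, Nat.prime_two.dvd_mul]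
    rintro (h | h)
    · exact hT'.2.2 h
    · have h3 : J.relIndex H = Nat.card (Oc π H) := by
        rw [relIndex, hJ, subgroupOf, comap_map_eq_self_of_injective H.subtype_injective,
          hJ'.index_eq_card, hcN]
      rw [h3] at h
      exact (card_Oc hH).not_two h2 h
  obtain ⟨h0, hh0, e0⟩ := hT'H.conj hT
  obtain ⟨j, hj, o, ho, rfl⟩ := hdec h0 hh0
  have e1 : cj o T = T' := by
    rw [cj_mul] at e0
    have := congrArg (cj j⁻¹) e0
    rwa [cj_inv_cj, pcl_syl hP hJpi hT' (inv_mem hj)] at this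
  have hoH := Oc_le H ho
  obtain ⟨j1, hj1, o1, ho1, e2⟩ := hdec (o * h * o⁻¹) (mul_mem (mul_mem hoH hh) (inv_mem hoH))
  refine ⟨o⁻¹ * j1 * o, mul_mem (mul_mem (inv_mem hoH) (hJH hj1)) hoH, ?_, o⁻¹ * o1 * o,
    mul_mem (mul_mem (inv_mem ho) ho1) ho, ?_⟩
  · rw [cj_mul, cj_mul, e1, pcl_syl hP hJpi hT' hj1, ← e1, cj_inv_cj]
  · calc h = o⁻¹ * (o * h * o⁻¹) * o := by group
      _ = o⁻¹ * (j1 * o1) * o := by rw [e2]
      _ = _ := by group

end cl

theorem card_lt {G : Type u} [Group G] [Finite G] {A B : Subgroup G} (h : A < B) : Nat.card A < Nat.card B := by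
  by_contra hc
  exact h.ne (Subgroup.eq_of_le_of_card_ge h.le (not_lt.1 hc))

/-- the minimal situation -/
structure Ctx (π : Set ℕ) (G : Type u) [Group G] [Finite G] : Prop where
  two : 2 ∈ π
  cl : PCl π G
  hom : ∀ H : Subgroup G, H ≠ ⊥ → Pi π (Nat.card H) →
    Pi π ((centralizer (H : Set G)).relIndex (normalizer (H : Set G)))
  simple : IsSimpleGroup G
  nab : ¬ ∀ a b : G, a * b = b * a
  sub : ∀ H : Subgroup G, H ≠ ⊤ → Cl π H
  ft : ∀ (H : Type u) [Group H] [Finite H], Odd (Nat.card H) → Group.IsSolvable H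

section ctx

variable {G : Type u} [Group G] [Finite G] {π : Set ℕ} {H K T : Subgroup G}

theorem Ctx.normal (C : Ctx π G) (h : H.Normal) : H = ⊥ ∨ H = ⊤ := by
  haveI := C.simple
  exact IsSimpleGroup.eq_bot_or_eq_top_of_normal H h

theorem Ctx.cen (C : Ctx π G) : Subgroup.center G = ⊥ := by
  rcases C.normal (H := Subgroup.center G) inferInstance with h | h
  · exact h
  · exfalso
    apply C.nab
    intro a b
    have : b ∈ Subgroup.center G := by rw [h]; trivial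
    exact (mem_center_iff.1 this a)

theorem Ctx.cent_ne_top (C : Ctx π G) {x : G} (hx : x ≠ 1) : centralizer ({x} : Set G) ≠ ⊤ := by
  intro h
  apply hx
  have : x ∈ Subgroup.center G := by
    rw [mem_center_iff]
    intro g
    have : g ∈ centralizer ({x} : Set G) := by rw [h]; trivial
    exact mem_cent_iff.1 this
  rw [C.cen] at this
  exact mem_bot.1 this

theorem Ctx.ne_top (C : Ctx π G) {p : ℕ} [Fact p.Prime] (hT : IsPGroup p T) : T ≠ ⊤ := by
  rintro rfl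
  haveI := C.simple.toNontrivial
  have h1 : IsPGroup p G := hT.of_equiv Subgroup.topEquiv
  haveI := h1.center_nontrivial
  exact (Subgroup.nontrivial_iff_ne_bot _).1 ‹Nontrivial (Subgroup.center G)› C.cen

theorem Ctx.norm_ne_top (C : Ctx π G) (h1 : T ≠ ⊥) (h2 : T ≠ ⊤) : normalizer (T : Set G) ≠ ⊤ := by
  intro h
  rcases C.normal (Subgroup.normalizer_eq_top_iff.1 h) with h | h
  · exact h1 h
  · exact h2 h

theorem Ctx.even (C : Ctx π G) : 2 ∣ Nat.card G := by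
  by_contra h
  have h1 : Odd (Nat.card G) := by rw [← Nat.not_even_iff_odd, even_iff_two_dvd]; exact h
  have h2 := C.ft G h1
  haveI := C.simple
  apply C.nab
  intro a b
  exact (IsSimpleGroup.comm_iff_isSolvable.2 h2) a b

/-- a 2-group and `O(N(T))` commute -/
theorem comm_Oc (h2 : 2 ∈ π) (hT : IsPGroup 2 T) {N : Subgroup G} (hN : Cl π N)
    (hTN : N ≤ normalizer (T : Set G)) (hTN' : T ≤ N) {t o : G} (ht : t ∈ T) (ho : o ∈ Oc π N) : o * t = t * o := by
  have h3 : o * t * o⁻¹ * t⁻¹ ∈ T :=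
    mul_mem ((mem_normalizer_iff.1 (hTN (Oc_le N ho)) t).1 ht) (inv_mem ht)
  have h4 : o * t * o⁻¹ * t⁻¹ ∈ Oc π N := by
    have : o * t * o⁻¹ * t⁻¹ = o * (t * o⁻¹ * t⁻¹) := by group
    rw [this]
    exact mul_mem ho (conj_mem_Oc hN (le_normalizer (hTN' ht)) (inv_mem ho))
  have h5 : o * t * o⁻¹ * t⁻¹ = 1 := by
    obtain ⟨k, hk⟩ := IsPGroup.iff_orderOf.1 hT ⟨_, h3⟩
    rw [Subgroup.orderOf_mk] at hk
    have h6 := ((mem_Oc hN).1 h4).2
    rw [hk] at h6
    rw [← orderOf_eq_one_iff, hk]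
    exact eq_one_of_both (Pi.pow Nat.prime_two h2 k) h6
  have := mul_inv_eq_one.1 h5
  rw [mul_inv_eq_iff_eq_mul] at this
  exact this

theorem norm_growth {P T : Subgroup G} (hP : IsPGroup 2 P) (hT : T < P) :
    T < normalizer (T : Set G) ⊓ P := by
  haveI : Group.IsNilpotent P := hP.isNilpotent
  have h1 := Group.normalizerCondition_of_isNilpotent (G := P)
  have h2 : T.subgroupOf P < ⊤ := by
    rw [lt_top_iff_ne_top, Ne, subgroupOf_eq_top]
    exact not_le_of_gt hT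
  have h3 := h1 _ h2
  obtain ⟨x, hx, hx'⟩ := SetLike.exists_of_lt h3
  refine lt_of_le_of_ne (le_inf le_normalizer hT.le) fun e => ?_
  apply hx'
  rw [mem_subgroupOf, e]
  refine ⟨?_, x.2⟩
  show (x : G) ∈ normalizer (T : Set G)
  rw [Subgroup.mem_normalizer_iff] at hx ⊢
  intro y
  constructor
  · intro hy
    have := (hx ⟨y, hT.le hy⟩).1 (by rw [mem_subgroupOf]; exact hy)
    rw [mem_subgroupOf] at this; exact this
  · intro hy
    have hyP : y ∈ P := by
      have := P.mul_mem (P.mul_mem (inv_mem x.2) (hT.le hy)) x.2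
      have e : (x : G)⁻¹ * (x * y * (x : G)⁻¹) * x = y := by group
      rwa [e] at this
    have := (hx ⟨y, hyP⟩).2 (by rw [mem_subgroupOf]; exact hy)
    rw [mem_subgroupOf] at this; exact this

/-- `N_G(P)` controls the fusion in `P` -/
theorem Ctx.control (C : Ctx π G) (P : Sylow 2 G) : ∀ (n : ℕ) (T : Subgroup G), Nat.card P - Nat.card T = n →
    T ≤ P → ∀ g : G, cj g T ≤ P → ∃ m : G, cj m (P : Subgroup G) = P ∧ ∀ t ∈ T, m * t * m⁻¹ = g * t * g⁻¹ := by
  intro n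
  induction n using Nat.strong_induction_on with
  | _ n ih =>
  intro T hn hT g hg
  by_cases hTP : T = P
  · refine ⟨g, ?_, fun t ht => rfl⟩
    rw [hTP] at hg
    exact cj_eq_of_le hg
  by_cases hT1 : T = ⊥
  · refine ⟨1, cj_one _, fun t ht => ?_⟩
    rw [hT1, mem_bot] at ht
    rw [ht]; simp
  have hTlt : T < P := lt_of_le_of_ne hT hTP
  set T1 := cj g T with hT1d
  have hT1lt : T1 < P := by
    refine lt_of_le_of_ne hg fun e => hTP ?_
    apply Subgroup.eq_of_le_of_card_ge hT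
    rw [← card_cj g T, ← hT1d, e]
  have hT1b : T1 ≠ ⊥ := by
    intro e
    apply hT1
    rw [← Subgroup.card_eq_one, ← card_cj g T, ← hT1d, e, Subgroup.card_bot]
  have hT1t : T1 ≠ ⊤ := fun e => by rw [e] at hT1lt; exact not_top_lt hT1lt
  set N := normalizer (T1 : Set G) with hN
  have hNt : N ≠ ⊤ := C.norm_ne_top hT1b hT1t
  have hNc := C.sub N hNt
  have hA := norm_growth P.2 hT1lt
  have hD := norm_growth P.2 hTlt
  set A := N ⊓ (P : Subgroup G) with hAd
  set D := normalizer (T : Set G) ⊓ (P : Subgroup G) with hDd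
  have hAP : A ≤ P := inf_le_right
  have hDP : D ≤ P := inf_le_right
  have hBN : cj g D ≤ N := by
    rw [cj_le_iff]
    intro x hx
    rw [hN, mem_normalizer_iff_cj, hT1d, ← cj_mul]
    have : g * x * g⁻¹ * g = g * x := by group
    rw [this, cj_mul, mem_normalizer_iff_cj.1 hx.1]
  obtain ⟨R, hAR, hR⟩ := exists_syl (H := N) (A := A) inf_le_left (P.2.to_le hAP)
  obtain ⟨h, hh, hBR⟩ := hR.conj_le hBN (isPGroup_cj (P.2.to_le hDP))
  obtain ⟨n1, hn1, hn1R, c, hc, rfl⟩ := factor C.cl C.two hNc hR hh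
  have hcB : cj (c * g) D ≤ R := by
    have h3 := cj_mono (g := n1⁻¹) hBR
    rw [cj_mul, cj_inv_cj, ← cj_mul] at h3
    have h4 : cj n1⁻¹ R = R := by rw [← hn1R, cj_inv_cj, hn1R]
    rwa [h4] at h3
  obtain ⟨x0, -, hx0⟩ := (syl_top P).conj_le (A := R) le_top hR.2.1
  have hcardA : Nat.card P - Nat.card A < n := by
    have h5 : Nat.card T1 < Nat.card A := card_lt hA
    have h6 : Nat.card A ≤ Nat.card P := Subgroup.card_le_of_le hAP
    rw [hT1d, card_cj] at h5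
    omega
  have hcardD : Nat.card P - Nat.card D < n := by
    have h5 : Nat.card T < Nat.card D := card_lt hD
    have h6 : Nat.card D ≤ Nat.card P := Subgroup.card_le_of_le hDP
    omega
  obtain ⟨m1, hm1, hm1'⟩ := ih _ hcardA A rfl hAP x0 ((cj_mono hAR).trans hx0)
  obtain ⟨m2, hm2, hm2'⟩ := ih _ hcardD D rfl hDP (x0 * (c * g)) (by
    rw [cj_mul]; exact (cj_mono hcB).trans hx0)
  refine ⟨m1⁻¹ * m2, ?_, ?_⟩
  · rw [cj_mul, hm2, ← hm1, cj_inv_cj, hm1]
  · intro t ht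
    have e1 := hm2' t (hD.le ht)
    have hgt : g * t * g⁻¹ ∈ T1 := conj_mem_cj ht
    have e2 := hm1' _ (hA.le hgt)
    have e3 : c * (g * t * g⁻¹) = (g * t * g⁻¹) * c :=
      comm_Oc C.two (P.2.to_le hg) hNc le_rfl le_normalizer hgt hc
    calc m1⁻¹ * m2 * t * (m1⁻¹ * m2)⁻¹ = m1⁻¹ * (m2 * t * m2⁻¹) * m1 := by group
      _ = m1⁻¹ * (x0 * (c * g) * t * (x0 * (c * g))⁻¹) * m1 := by rw [e1]
      _ = m1⁻¹ * (x0 * (c * (g * t * g⁻¹) * c⁻¹) * x0⁻¹) * m1 := by group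
      _ = m1⁻¹ * (x0 * (g * t * g⁻¹) * x0⁻¹) * m1 := by rw [e3]; group
      _ = m1⁻¹ * (m1 * (g * t * g⁻¹) * m1⁻¹) * m1 := by rw [e2]
      _ = g * t * g⁻¹ := by group

end ctx

end H75.PH
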