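import Mathlib.GroupTheory.IsSubnormal
import Mathlib.GroupTheory.Nilpotent
import Mathlib.GroupTheory.Sylow
import Cfsg.Agent.Lib.H75.Basic
import Cfsg.Agent.Lib.H11.SubnormalJoin

set_option autoImplicit false
set_option linter.all false

/-! Wielandt's zipper lemma in the form "unique maximal subgroup". -/

namespace H75.Zipper

open Subgroup Pointwise

variable {G : Type*} [Group G]

theorem exists_conj_le_normalizer {H : Subgroup G} (h : H.IsSubnormal) (hn : ¬ H.Normal) :
    ∃ x : G, x ∉ normalizer (H : Set G) ∧ ∀ s ∈ H, x * s * x⁻¹ ∈ normalizer (H : Set G) := by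
  classical
  obtain ⟨n, f, hmono, hnorm, h0, htop⟩ := IsSubnormal.isSubnormal_iff.1 h
  have hex : ∃ i, ¬ (f i ≤ normalizer (H : Set G)) := by
    refine ⟨n, fun h1 => hn ?_⟩
    rw [htop, top_le_iff, normalizer_eq_top_iff] at h1
    exact h1
  set i := Nat.find hex with hi
  have hi1 : ¬ (f i ≤ normalizer (H : Set G)) := Nat.find_spec hex
  have hi0 : i ≠ 0 := by
    intro h1
    rw [h1, h0] at hi1
    exact hi1 le_normalizer
  obtain ⟨j, hj⟩ := Nat.exists_eq_succ_of_ne_zero hi0
  have hj1 : f j ≤ normalizer (H : Set G) := by
    by_contra hcon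
    exact Nat.find_min hex (by omega : j < i) hcon
  rw [hj] at hi1
  obtain ⟨x, hx1, hx2⟩ := SetLike.not_le_iff_exists.1 hi1
  refine ⟨x, hx2, fun s hs => hj1 ?_⟩
  have hle : f j ≤ f (j + 1) := hmono (Nat.le_succ j)
  have h2 := (normal_subgroupOf_iff_le_normalizer hle).1 (hnorm j)
  have h3 : s ∈ f j := by
    have : f 0 ≤ f j := hmono (Nat.zero_le j)
    rw [h0] at this
    exact this hs
  exact (mem_normalizer_iff.1 (h2 hx1) s).1 h3

theorem subgroupOf_conj {S H : Subgroup G} (h : (S.subgroupOf H).IsSubnormal) (x : G) :
    ((MulAut.conj x • S).subgroupOf (MulAut.conj x • H)).IsSubnormal := by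
  let e : H ≃* (MulAut.conj x • H : Subgroup G) := Subgroup.equivSMul (MulAut.conj x) H
  have h1 := h.map (f := e.toMonoidHom) e.surjective
  have h2 : (S.subgroupOf H).map e.toMonoidHom = (MulAut.conj x • S).subgroupOf (MulAut.conj x • H) := by
    ext y
    constructor
    · rintro ⟨z, hz, rfl⟩
      rw [mem_subgroupOf]
      exact (H75.Basic.mem_conj_smul _ _ _).2 ⟨z, hz, rfl⟩
    · intro hy
      rw [mem_subgroupOf] at hy
      obtain ⟨z, hz, hzy⟩ := (H75.Basic.mem_conj_smul _ _ _).1 hy
      obtain ⟨w, hw, hwy⟩ := (H75.Basic.mem_conj_smul _ _ _).1 y.2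
      have hzw : z = w := by
        have : x * z * x⁻¹ = x * w * x⁻¹ := by rw [hzy, hwy]
        exact mul_left_cancel (mul_right_cancel this)
      subst hzw
      refine ⟨⟨z, hw⟩, hz, ?_⟩
      apply Subtype.ext
      exact hzy
  rw [← h2]; exact h1

/-- Wielandt's zipper lemma. -/
theorem zipper [Finite G] (S : Subgroup G)
    (h : ∀ H : Subgroup G, S ≤ H → H ≠ ⊤ → (S.subgroupOf H).IsSubnormal) (hns : ¬ S.IsSubnormal) :
    ∀ M K : Subgroup G, IsCoatom M → IsCoatom K → S ≤ M → S ≤ K → M = K := by
  -- induction on the index of S
  have main : ∀ (n : ℕ) (S : Subgroup G), S.index ≤ n →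
      (∀ H : Subgroup G, S ≤ H → H ≠ ⊤ → (S.subgroupOf H).IsSubnormal) → ¬ S.IsSubnormal →
      ∀ M K : Subgroup G, IsCoatom M → IsCoatom K → S ≤ M → S ≤ K → M = K := by
    intro n
    induction n with
    | zero =>
      intro S hS
      exact absurd (Nat.le_zero.1 hS) index_ne_zero_of_finite
    | succ n ih =>
      intro S hS h hns
      have hnn : ¬ S.Normal := fun h1 => hns h1.isSubnormal
      have hNtop : normalizer (S : Set G) ≠ ⊤ := fun h1 => hnn (normalizer_eq_top_iff.1 h1)
      obtain ⟨M0, hM0, hNM0⟩ := (eq_top_or_exists_le_coatom (normalizer (S : Set G))).resolve_left hNtop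
      have key : ∀ K : Subgroup G, IsCoatom K → S ≤ K → K = M0 := by
        intro K hK hSK
        by_cases hn : (S.subgroupOf K).Normal
        · have h1 := (normal_subgroupOf_iff_le_normalizer hSK).1 hn
          rcases hK.le_iff.1 (h1.trans hNM0) with h2 | h2
          · exact absurd h2 hM0.1
          · exact h2.symm
        · obtain ⟨⟨x, hxK⟩, hx1, hx2⟩ := exists_conj_le_normalizer (h K hSK hK.1) hn
          -- translate
          have hxN : x ∉ normalizer (S : Set G) := by
            intro h1
            apply hx1
            rw [← subgroupOf_normalizer_eq hSK]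
            exact h1
          have hconjN : MulAut.conj x • S ≤ normalizer (S : Set G) := by
            intro y hy
            obtain ⟨s, hs, rfl⟩ := (H75.Basic.mem_conj_smul _ _ _).1 hy
            have h1 := hx2 ⟨s, hSK hs⟩ hs
            rw [← subgroupOf_normalizer_eq hSK] at h1
            exact h1
          have hconjK : MulAut.conj x • S ≤ K := by
            intro y hy
            obtain ⟨s, hs, rfl⟩ := (H75.Basic.mem_conj_smul _ _ _).1 hy
            exact K.mul_mem (K.mul_mem hxK (hSK hs)) (K.inv_mem hxK)
          set T : Subgroup G := S ⊔ MulAut.conj x • S with hT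
          have hTN : T ≤ normalizer (S : Set G) := sup_le le_normalizer hconjN
          have hTK : T ≤ K := sup_le hSK hconjK
          have hST : S < T := by
            refine lt_of_le_of_ne le_sup_left ?_
            intro h1
            apply hxN
            apply H75.Basic.mem_normalizer_of_conj_mem
            intro z hz
            have h2 : MulAut.conj x • S ≤ T := le_sup_right
            rw [← h1] at h2
            exact h2 ((H75.Basic.mem_conj_smul _ _ _).2 ⟨z, hz, rfl⟩)
          have hTidx : T.index ≤ n := by
            have := index_strictAnti hST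
            omega
          have hTh : ∀ H : Subgroup G, T ≤ H → H ≠ ⊤ → (T.subgroupOf H).IsSubnormal := by
            intro H hTH hH
            have h1 := h H (le_sup_left.trans hTH) hH
            have hxH : MulAut.conj x • S ≤ H := le_sup_right.trans hTH
            have h2 : S ≤ MulAut.conj x⁻¹ • H := by
              intro s hs
              rw [H75.Basic.mem_conj_smul', inv_inv]
              exact hxH ((H75.Basic.mem_conj_smul _ _ _).2 ⟨s, hs, rfl⟩)
            have h3 : MulAut.conj x⁻¹ • H ≠ ⊤ := by
              intro h4
              apply hH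
              rw [eq_top_iff]
              intro y _
              have : x⁻¹ * y * x⁻¹⁻¹ ∈ MulAut.conj x⁻¹ • H := by rw [h4]; trivial
              rw [H75.Basic.mem_conj_smul'] at this
              have e : x⁻¹⁻¹ * (x⁻¹ * y * x⁻¹⁻¹) * x⁻¹ = y := by group
              rwa [e] at this
            have h4 := subgroupOf_conj (h _ h2 h3) x
            have h5 : MulAut.conj x • MulAut.conj x⁻¹ • H = H := by
              rw [map_inv, smul_inv_smul]
            rw [h5] at h4
            have h6 : T.subgroupOf H = S.subgroupOf H ⊔ (MulAut.conj x • S).subgroupOf H := by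
              rw [hT]
              exact subgroupOf_sup (le_sup_left.trans hTH) hxH
            rw [h6]
            exact H11.SubnormalJoin.sup _ _ h1 h4
          have hTns : ¬ T.IsSubnormal := by
            intro h1
            apply hns
            refine IsSubnormal.step S T hST.le h1 ?_
            rw [normal_subgroupOf_iff_le_normalizer hST.le]
            exact hTN
          exact ih T hTidx hTh hTns K M0 hK hM0 hTK (hTN.trans hNM0)
      intro M K hM hK hSM hSK
      rw [key M hM hSM, key K hK hSK]
  exact main _ S le_rfl h hns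

end H75.Zipper
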