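import Cfsg.Agent.Lib.H69.IC0
import Cfsg.Agent.Lib.H27.Tricho
import Cfsg.Agent.Lib.H41.IcP1
import Cfsg.Agent.Lib.H8.IcP3

/-! S1315 piece P4 (helper75): the diagonal 2-component. -/

set_option autoImplicit false
set_option linter.unusedSectionVars false

open Subgroup Cfsg H26.LocalFitting H69.IC
open scoped commutatorElement Pointwise

universe u

namespace H75.IcP4

variable {G : Type u} [Group G] [Finite G]

open H27.Tricho H37.PCOf H26.Basic

/-- the diagonal subgroup is a `2`-component of `C(a)` -/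
theorem diag_pc {a : G} (haa : a * a = 1) {D : Subgroup G} (hD : IsComponent D)
    (hopp : H26.OPPrime.opp 2 D = D)
    (hcomm : ⁅D, MulAut.conj a • D⁆ = ⊥) :
    IsPComponentOf 2 (diag hcomm).range (centralizer ({a} : Set G)) := by
  have hDa := isComponent_conj hD a
  set R := (diag hcomm).range with hR
  have hRC : R ≤ centralizer {a} := (diag_le haa hcomm).trans inf_le_right
  have hRF : R ≤ D ⊔ MulAut.conj a • D := (diag_le haa hcomm).trans inf_le_left
  have hmapR : (⊤ : Subgroup D).map (diag hcomm) = R := by rw [hR, MonoidHom.range_eq_map]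
  have hoppT : H26.OPPrime.opp 2 (⊤ : Subgroup D) = ⊤ := by
    apply Subgroup.map_injective D.subtype_injective
    rw [H26.OPPrime.map_opp, ← MonoidHom.range_eq_map, Subgroup.range_subtype, hopp]
  have hoppR : H26.OPPrime.opp 2 R = R := by
    rw [← hmapR, ← H26.OPPrime.map_opp, hoppT]
  have hRne : R ≠ ⊥ := by
    intro h
    have h1 : ∀ x : D, (x : G) * (a * x * a⁻¹) = 1 := by
      intro x
      have : diag hcomm x ∈ R := ⟨x, rfl⟩
      rw [h, Subgroup.mem_bot] at this
      exact this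
    have h2 : D ≤ MulAut.conj a • D := by
      intro x hx
      have h3 := h1 ⟨x, hx⟩
      have h4 : x = (a * x * a⁻¹)⁻¹ := eq_inv_of_mul_eq_one_left h3
      rw [h4]
      exact inv_mem (conj_mem_smul hx)
    apply H26.Components.not_commutative hD
    have h5 : ⁅D, D⁆ ≤ ⁅D, MulAut.conj a • D⁆ := commutator_mono le_rfl h2
    rw [hcomm] at h5
    exact le_bot_iff.mp h5
  have hRnt : Nontrivial R := (Subgroup.nontrivial_iff_ne_bot R).mpr hRne
  have hRqs : IsQuasisimple R :=
    H26.Quasisimple.of_surjective hD.2 (diag hcomm).rangeRestrict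
      (diag hcomm).rangeRestrict_surjective
  have hQS : QS 2 R := by
    refine ⟨?_, hoppR⟩
    have hnt : Nontrivial (R ⧸ pPrimeCore 2 R) := by
      by_contra hcon
      rw [not_nontrivial_iff_subsingleton] at hcon
      have h1 : pPrimeCore 2 R = ⊤ := QuotientGroup.subgroup_eq_top_of_subsingleton _ hcon
      have h2 := H1.Cores.coprime_card_pPrimeCore (G := R) 2
      rw [h1, Subgroup.card_top] at h2
      exact hRne (by rw [← hoppR]; exact opp_eq_bot h2)
    exact H26.Quasisimple.of_surjective hRqs (QuotientGroup.mk' (pPrimeCore 2 R))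
      (QuotientGroup.mk'_surjective _)
  rw [pcOf_iff]
  refine ⟨?_, hQS⟩
  -- subnormality
  set F := D ⊔ MulAut.conj a • D with hF
  have hFl : F ≤ layer G := sup_le (H26.Components.le_layer hD) (H26.Components.le_layer hDa)
  have h1 : SN F (layer G) := by
    apply SN.of_normal hFl
    have hx1 := H26.Components.layer_le_normalizer hD
    have hx2 := H26.Components.layer_le_normalizer hDa
    intro g hg
    apply H37.PCOf.mem_normalizer_of_smul_eq
    rw [hF, Subgroup.smul_sup, H37.PCOf.smul_eq_of_mem_normalizer (hx1 hg),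
      H37.PCOf.smul_eq_of_mem_normalizer (hx2 hg)]
  have h2 : SN (layer G) (⊤ : Subgroup G) := by
    apply SN.of_normal le_top
    rw [Subgroup.normalizer_eq_top]
  have h3 : SN F (⊤ : Subgroup G) := h1.trans h2
  have h4 := h3.inf (centralizer ({a} : Set G))
  rw [top_inf_eq] at h4
  refine SN.trans ?_ h4
  apply SN.of_normal (le_inf hRF hRC)
  refine (fixed_le haa hcomm).trans (sup_le Subgroup.le_normalizer ?_)
  refine le_trans ?_ (centralizer_le_normalizer (R : Set G))
  rw [← Subgroup.commutator_eq_bot_iff_le_centralizer]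
  have hZF : ⁅D ⊔ MulAut.conj a • D, D ⊓ MulAut.conj a • D⁆ = ⊥ := by
    apply commutator_sup_left_eq_bot
    · exact commutator_eq_bot_mono hcomm le_rfl inf_le_right
    · rw [Subgroup.commutator_comm]
      exact commutator_eq_bot_mono hcomm inf_le_left le_rfl
  rw [Subgroup.commutator_comm]
  exact commutator_eq_bot_mono hZF hRF le_rfl

theorem diag_comp_of
    (big_of_QS : ∀ {M : Subgroup G}, H37.PCOf.QS 2 M → Big M (sq M))
    (transfer : ∀ {D : Type u} [Group D] {M E : Subgroup G} {s : ℕ}, Big M s → ∀ (ψ : ↥M →* D),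
      Function.Surjective ψ → ∀ (φ : ↥E →* D), Function.Surjective φ → (Nat.card φ.ker).Coprime 2 →
      H26.OPPrime.opp 2 E = E → Big E s)
    (lift : ∀ {t : G}, t * t = 1 → ∀ {D : Subgroup (G ⧸ pPrimeCore 2 G)},
      IsPComponentOf 2 D (centralizer ({(QuotientGroup.mk' (pPrimeCore 2 G)) t} : Set _)) →
      ∃ E : Subgroup G, IsPComponentOf 2 E (centralizer ({t} : Set G)) ∧ E.map (QuotientGroup.mk' (pPrimeCore 2 G)) = D)
    {t : G} (ht : t * t = 1) {M : Subgroup G} (hM : IsPComponent 2 M) (htM : t ∉ normalizer (M : Set G)) :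
    ∃ E : Subgroup G, IsPComponentOf 2 E (centralizer ({t} : Set G)) ∧ Big E (sq M) ∧
      (∀ m ∈ M, ∃ e ∈ E, (m * (t * m * t⁻¹)) * e⁻¹ ∈ pPrimeCore 2 G) ∧
      (∀ e ∈ E, ∃ m ∈ M, (m * (t * m * t⁻¹)) * e⁻¹ ∈ pPrimeCore 2 G) := by
  set q := QuotientGroup.mk' (pPrimeCore 2 G) with hq
  have hker : q.ker = pPrimeCore 2 G := QuotientGroup.ker_mk' _
  set a := q t with ha
  have haa : a * a = 1 := by rw [ha, ← map_mul, ht, map_one]
  have hMQ : QS 2 M := (isPComponent_iff.mp hM).2
  have hMb : IsComponent (M.map q) := hM.2.1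
  have hoppb : H26.OPPrime.opp 2 (M.map q) = M.map q := by
    rw [← H26.OPPrime.map_opp, hMQ.opp_eq]
  have hconj : (MulAut.conj t • M).map q = MulAut.conj a • (M.map q) := by
    ext x
    constructor
    · rintro ⟨y, hy, rfl⟩
      rw [SetLike.mem_coe, H1.SZ.mem_conj_smul] at hy
      rw [H1.SZ.mem_conj_smul]
      exact ⟨_, hy, by simp [ha]⟩
    · intro hx
      rw [H1.SZ.mem_conj_smul] at hx
      obtain ⟨y, hy, hyx⟩ := hx
      refine ⟨t * y * t⁻¹, ?_, ?_⟩
      · rw [SetLike.mem_coe, H1.SZ.mem_conj_smul]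
        have : t⁻¹ * (t * y * t⁻¹) * t = y := by group
        rw [this]; exact hy
      · rw [map_mul, map_mul, hyx, map_inv, ← ha]; group
  have hMt : IsPComponent 2 (MulAut.conj t • M) := by
    have h1 := pcOf_top.mpr hM
    have h2 := smul_pc' h1 (g := t) (by rw [Subgroup.normalizer_eq_top]; trivial)
    exact pcOf_top.mp h2
  have hne : M.map q ≠ MulAut.conj a • (M.map q) := by
    intro h
    apply htM
    apply H37.PCOf.mem_normalizer_of_smul_eq
    apply H26.PComponents.eq_of_map_eq hMt hM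
    show (MulAut.conj t • M).map q = M.map q
    rw [hconj, ← h]
  have hcomm : ⁅M.map q, MulAut.conj a • (M.map q)⁆ = ⊥ :=
    H26.Components.commutator_eq_bot_of_ne hMb (isComponent_conj hMb a) hne
  obtain ⟨E, hE, hEmap⟩ := lift ht (diag_pc haa hMb hoppb hcomm)
  have hkey : ∀ m (hm : m ∈ M), diag hcomm ⟨q m, ⟨m, hm, rfl⟩⟩ = q (m * (t * m * t⁻¹)) := by
    intro m hm
    rw [diag_apply]; simp [ha]
  have hmem : ∀ x e : G, q x = q e → x * e⁻¹ ∈ pPrimeCore 2 G := by
    intro x e h
    rw [← hker, MonoidHom.mem_ker, map_mul, h, map_inv, mul_inv_cancel]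
  have hEQ : QS 2 E := (pcOf_iff.mp hE).2
  refine ⟨E, hE, ?_, ?_, ?_⟩
  · let ψ : M →* (diag hcomm).range :=
      (diag hcomm).rangeRestrict.comp (q.subgroupMap M)
    have hψ : Function.Surjective ψ :=
      (diag hcomm).rangeRestrict_surjective.comp (q.subgroupMap_surjective M)
    let φ : E →* (diag hcomm).range :=
      (MulEquiv.subgroupCongr hEmap).toMonoidHom.comp (q.subgroupMap E)
    have hφ : Function.Surjective φ :=
      (MulEquiv.subgroupCongr hEmap).surjective.comp (q.subgroupMap_surjective E)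
    refine transfer (big_of_QS hMQ) ψ hψ φ hφ ?_ hEQ.opp_eq
    have h1 : φ.ker.map E.subtype ≤ pPrimeCore 2 G := by
      rintro _ ⟨x, hx, rfl⟩
      rw [← hker, MonoidHom.mem_ker]
      have h2 : φ x = 1 := hx
      have h3 := congrArg Subtype.val h2
      exact h3
    have h2 : Nat.card (φ.ker.map E.subtype) = Nat.card φ.ker :=
      Subgroup.card_map_of_injective E.subtype_injective
    rw [← h2]
    exact Nat.Coprime.coprime_dvd_left (Subgroup.card_dvd_of_le h1) (H1.Cores.coprime_card_pPrimeCore 2)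
  · intro m hm
    have h1 : diag hcomm ⟨q m, ⟨m, hm, rfl⟩⟩ ∈ (diag hcomm).range := ⟨_, rfl⟩
    rw [← hEmap, hkey m hm] at h1
    obtain ⟨e, he, hee⟩ := h1
    exact ⟨e, he, hmem _ _ hee.symm⟩
  · intro e he
    have h1 : q e ∈ (diag hcomm).range := by rw [← hEmap]; exact ⟨e, he, rfl⟩
    obtain ⟨⟨_, m, hm, rfl⟩, hx⟩ := h1
    refine ⟨m, hm, hmem _ _ ?_⟩
    rw [← hkey m hm]
    exact hx

theorem diag_comp {t : G} (ht : t * t = 1) {M : Subgroup G} (hM : IsPComponent 2 M) (htM : t ∉ normalizer (M : Set G)) :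
    ∃ E : Subgroup G, IsPComponentOf 2 E (centralizer ({t} : Set G)) ∧ Big E (sq M) ∧
      (∀ m ∈ M, ∃ e ∈ E, (m * (t * m * t⁻¹)) * e⁻¹ ∈ pPrimeCore 2 G) ∧
      (∀ e ∈ E, ∃ m ∈ M, (m * (t * m * t⁻¹)) * e⁻¹ ∈ pPrimeCore 2 G) :=
  diag_comp_of (fun h => H41.IcP1.big_of_QS h)
    (fun hM ψ hψ φ hφ hk hE => H41.IcP1.transfer hM ψ hψ φ hφ hk hE)
    (fun ht _ hD => H8.IcP3.lift ht hD) ht hM htM

end H75.IcP4
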