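import Mathlib

/-! S5316 piece T, part B (helper75): transvections and strongly embedded subgroups. -/

set_option autoImplicit false

namespace H75.MXB

variable {V : Type*} [CommGroup V]

/-- `v ↦ v⁻¹ t(v)` -/
def lam (t : MulAut V) : V →* V where
  toFun v := v⁻¹ * t v
  map_one' := by simp
  map_mul' a b := by
    simp only [map_mul, mul_inv]
    exact mul_mul_mul_comm _ _ _ _

theorem t_eq (t : MulAut V) (v : V) : t v = v * lam t v := by simp [lam]

theorem lam_eq_one {t : MulAut V} {v : V} : lam t v = 1 ↔ t v = v := by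
  rw [t_eq t v, mul_eq_left]

theorem lam_conj (g t : MulAut V) (v : V) : lam (g * t * g⁻¹) v = g (lam t (g⁻¹ v)) := by
  simp [lam, MulAut.mul_apply]

theorem comm_apply {t s : MulAut V} (F1 : ∀ v, lam s (lam s v) = 1) (F2 : ∀ v, lam s (lam t v) = 1) (u : V) :
    (t * s * t⁻¹ * s⁻¹) u = u * lam t (lam s u) := by
  obtain ⟨v, rfl⟩ : ∃ v, u = s (t v) := ⟨t⁻¹ (s⁻¹ u), by simp⟩
  have e : (t * s * t⁻¹ * s⁻¹) (s (t v)) = t (s v) := by simp [MulAut.mul_apply]
  rw [e]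
  have h1 : t (s v) = v * lam s v * (lam t v * lam t (lam s v)) := by
    rw [t_eq s v, t_eq t, map_mul]
  have h2 : s (t v) = v * lam t v * lam s v := by
    rw [t_eq t v, t_eq s, map_mul, F2, mul_one]
  have h3 : lam s (s (t v)) = lam s v := by
    rw [h2, map_mul, map_mul, F1, F2, mul_one, mul_one]
  rw [h3, h1, h2]
  simp only [mul_assoc, mul_left_comm, mul_comm]

theorem pow_apply {t : MulAut V} (F3 : ∀ v, lam t (lam t v) = 1) (k : ℕ) (v : V) :
    (t ^ k) v = v * (lam t v) ^ k := by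
  induction k with
  | zero => simp
  | succ k ih =>
    rw [pow_succ', MulAut.mul_apply, ih, map_mul, map_pow, t_eq t v]
    have : t (lam t v) = lam t v := lam_eq_one.1 (F3 v)
    rw [this, pow_succ', mul_assoc]

variable {p : ℕ} [hp : Fact p.Prime]

theorem key (hexp : ∀ v : V, v ^ p = 1) {A M : Subgroup (MulAut V)} (hMA : M ≤ A)
    (hse : ∀ g ∈ A, g ∉ M → ∀ x ∈ M, g * x * g⁻¹ ∈ M → (∃ k : ℕ, x ^ p ^ k = 1) → x = 1)
    {t : MulAut V} (ht : t ∈ M) (ht1 : t ≠ 1) (F3 : ∀ v, lam t (lam t v) = 1) {g : MulAut V} (hg : g ∈ A)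
    (hgM : g ∉ M) (F2 : ∀ v, lam (g * t * g⁻¹) (lam t v) = 1) : False := by
  have htp : t ^ p = 1 := by
    ext v
    rw [pow_apply F3, hexp, mul_one, MulAut.one_apply]
  have ha : ∀ y ∈ A, ∀ x ∈ M, x ≠ 1 → x ^ p = 1 → y * x = x * y → y ∈ M := by
    intro y hy x hx hx1 hxp hyx
    by_contra hyM
    apply hx1
    refine hse y hy hyM x hx ?_ ⟨1, by rwa [pow_one]⟩
    rw [hyx, mul_inv_cancel_right]; exact hx
  obtain ⟨s, hs⟩ : ∃ s, s = g * t * g⁻¹ := ⟨_, rfl⟩
  rw [← hs] at F2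
  have hsA : s ∈ A := by rw [hs]; exact mul_mem (mul_mem hg (hMA ht)) (inv_mem hg)
  have hsM : s ∉ M := by
    intro h
    rw [hs] at h
    exact ht1 (hse g hg hgM t ht h ⟨1, by rwa [pow_one]⟩)
  have F1 : ∀ v, lam s (lam s v) = 1 := by
    intro v
    rw [hs, lam_conj, lam_conj]
    have : g⁻¹ (g (lam t (g⁻¹ v))) = lam t (g⁻¹ v) := by simp
    rw [this, F3, map_one]
  obtain ⟨c, hc⟩ : ∃ c, c = t * s * t⁻¹ * s⁻¹ := ⟨_, rfl⟩
  have hcu : ∀ u, c u = u * lam t (lam s u) := by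
    intro u; rw [hc]; exact comm_apply F1 F2 u
  have hct : c * t = t * c := by
    ext u
    rw [MulAut.mul_apply, MulAut.mul_apply, hcu, hcu]
    have h1 : lam s (t u) = lam s u := by rw [t_eq t u, map_mul, F2, mul_one]
    rw [h1, map_mul]
    congr 1
    exact (lam_eq_one.1 (F3 _)).symm
  have hcs : c * s = s * c := by
    ext u
    rw [MulAut.mul_apply, MulAut.mul_apply, hcu, hcu]
    have h1 : lam s (s u) = lam s u := by rw [t_eq s u, map_mul, F1, mul_one]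
    rw [h1, map_mul]
    congr 1
    exact (lam_eq_one.1 (F2 _)).symm
  by_cases hc1 : c = 1
  · apply hsM
    apply ha s hsA t ht ht1 htp
    rw [hc] at hc1
    have h1 : t * s * t⁻¹ = s := mul_inv_eq_one.1 hc1
    exact (mul_inv_eq_iff_eq_mul.1 h1).symm
  · have hcA : c ∈ A := by
      rw [hc]; exact mul_mem (mul_mem (mul_mem (hMA ht) hsA) (inv_mem (hMA ht))) (inv_mem hsA)
    have hcM : c ∈ M := ha c hcA t ht ht1 htp hct
    have hcp : c ^ p = 1 := by
      have h1 : c⁻¹ * t = s * t * s⁻¹ := by rw [hc]; group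
      have h2 : (c⁻¹ * t) ^ p = 1 := by
        rw [h1, conj_pow, htp]; group
      have h3 : Commute c⁻¹ t := Commute.inv_left hct
      rw [h3.mul_pow, htp, mul_one, inv_pow, inv_eq_one] at h2
      exact h2
    exact hsM (ha s hsA c hcM hc1 hcp hcs.symm)

theorem lemB (hexp : ∀ v : V, v ^ p = 1) {A M P : Subgroup (MulAut V)} (hPM : P ≤ M) (hMA : M ≤ A)
    {g0 : MulAut V} (hg0 : g0 ∈ A) (hg0M : g0 ∉ M)
    (hse : ∀ g ∈ A, g ∉ M → ∀ x ∈ M, g * x * g⁻¹ ∈ M → (∃ k : ℕ, x ^ p ^ k = 1) → x = 1)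
    (hPp : IsPGroup p P) {t : MulAut V} (htP : t ∈ P) (ht1 : t ≠ 1) {X : Subgroup V} (hX : Nat.card X = p)
    (htX : ∀ v, v⁻¹ * t v ∈ X) (hPX : ∀ y ∈ P, ∀ x ∈ X, y x = x) : P = Subgroup.zpowers t := by
  have hlamX : ∀ v, lam t v ∈ X := htX
  have F3 : ∀ v, lam t (lam t v) = 1 := fun v => lam_eq_one.2 (hPX t htP _ (hlamX v))
  -- a generator of X
  have gen : ∀ (Y : Subgroup V), Nat.card Y = p → ∀ y ∈ Y, y ≠ 1 → ∀ z ∈ Y, ∃ k : ℕ, z = y ^ k := by
    intro Y hY y hy hy1 z hz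
    haveI : Finite Y := Nat.finite_of_card_ne_zero (by rw [hY]; exact hp.out.ne_zero)
    have h1 : (⟨z, hz⟩ : Y) ∈ Subgroup.zpowers (⟨y, hy⟩ : Y) :=
      mem_zpowers_of_prime_card (p := p) hY (by intro h; exact hy1 (congrArg Subtype.val h))
    rw [← mem_powers_iff_mem_zpowers] at h1
    obtain ⟨k, hk⟩ := h1
    exact ⟨k, (congrArg Subtype.val hk).symm⟩
  obtain ⟨x0, hx0, hx01⟩ : ∃ x ∈ X, x ≠ 1 := by
    by_contra h
    push Not at h
    have : X = ⊥ := (Subgroup.eq_bot_iff_forall X).2 h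
    rw [this, Subgroup.card_bot] at hX
    exact hp.out.ne_one hX.symm
  have hkey : ∀ g ∈ A, g ∉ M → (g * t * g⁻¹) x0 ≠ x0 := by
    intro g hg hgM h
    apply key hexp hMA hse (hPM htP) ht1 F3 hg hgM
    intro v
    obtain ⟨k, hk⟩ := gen X hX x0 hx0 hx01 _ (hlamX v)
    rw [lam_eq_one, hk, map_pow, h]
  apply le_antisymm
  · intro y hy
    by_contra hyt
    set s := g0 * t * g0⁻¹ with hs
    set v' := g0 x0 with hv'
    have hg0i : g0⁻¹ ∉ M := fun h => hg0M (by simpa using inv_mem h)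
    have htv' : t v' ≠ v' := by
      intro h
      apply hkey g0⁻¹ (inv_mem hg0) hg0i
      rw [MulAut.mul_apply, MulAut.mul_apply, inv_inv, ← hv', h, hv']
      simp
    have hl : lam t v' ≠ 1 := fun h => htv' (lam_eq_one.1 h)
    -- lam s maps into Y = g0 X
    let Y : Subgroup V := X.map (g0 : V ≃* V).toMonoidHom
    have hY : Nat.card Y = p := by
      rw [Subgroup.card_map_of_injective (g0 : V ≃* V).injective]; exact hX
    have hsY : ∀ v, lam s v ∈ Y := by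
      intro v
      rw [hs, lam_conj]
      exact ⟨_, hlamX _, rfl⟩
    have hsx0 : lam s x0 ≠ 1 := fun h => hkey g0 hg0 hg0M (lam_eq_one.1 h)
    obtain ⟨k, hk⟩ := gen Y hY _ (hsY x0) hsx0 _ (hsY (y v'))
    -- x = x0 ^ k
    obtain ⟨i, hi⟩ := gen X hX _ (hlamX v') hl ((x0 ^ k)⁻¹) (inv_mem (pow_mem hx0 k))
    set z := y * t ^ i with hz
    have hzP : z ∈ P := mul_mem hy (pow_mem htP i)
    have hz1 : z ≠ 1 := by
      intro h
      apply hyt
      have : y = (t ^ i)⁻¹ := eq_inv_of_mul_eq_one_left h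
      rw [this]
      exact inv_mem (pow_mem (Subgroup.mem_zpowers t) i)
    have hzv : z v' = y v' * (x0 ^ k)⁻¹ := by
      rw [hz, MulAut.mul_apply, pow_apply F3, ← hi, map_mul]
      congr 1
      exact hPX y hy _ (inv_mem (pow_mem hx0 k))
    have hfix : s (z v') = z v' := by
      rw [← lam_eq_one, hzv, map_mul, map_inv, map_pow, ← hk, mul_inv_cancel]
    obtain ⟨j, hj⟩ := hPp ⟨z, hzP⟩
    have hj' : z ^ p ^ j = 1 := congrArg Subtype.val hj
    set h := g0⁻¹ * z * g0 with hh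
    have hhA : h ∈ A := mul_mem (mul_mem (inv_mem hg0) (hMA (hPM hzP))) hg0
    have hhM : h ∉ M := by
      intro hhM
      apply hz1
      have e1 : g0 * h * g0⁻¹ = z := by rw [hh]; group
      have h1 : h = 1 := by
        apply hse g0 hg0 hg0M h hhM (by rw [e1]; exact hPM hzP)
        refine ⟨j, ?_⟩
        have e2 : h = g0⁻¹ * z * (g0⁻¹)⁻¹ := by rw [hh, inv_inv]
        rw [e2, conj_pow, hj']; group
      rw [← e1, h1]; group
    apply hkey h⁻¹ (inv_mem hhA) (fun hc => hhM (by simpa using inv_mem hc))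
    have e3 : h⁻¹ * t * h⁻¹⁻¹ = g0⁻¹ * z⁻¹ * s * z * g0 := by rw [hh, hs]; group
    rw [e3]
    simp only [MulAut.mul_apply]
    rw [← hv', hfix]
    simp [hv']
  · rw [Subgroup.zpowers_le]; exact htP

end H75.MXB
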