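import Mathlib
import Cfsg.Agent.Lib.H37.AutOdd
import Cfsg.Agent.Lib.H1.Frat
import Cfsg.Agent.Lib.H1.Cores

/-!
# Automorphisms of 2-groups with few fixed points (H75.Ch8Aut)
-/

set_option autoImplicit false
set_option linter.all false

open Subgroup
open scoped commutatorElement

namespace H75.Ch8Aut

variable {X : Type*} [Group X] [Finite X]

/-- fixed points modulo an invariant normal subgroup -/
theorem card_fix_le (F : Subgroup X) (φ : MulAut X) :
    Nat.card {x : X // x⁻¹ * φ x ∈ F} ≤ Nat.card F * Nat.card {x : X // φ x = x} := by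
  classical
  rw [← Nat.card_prod]
  let c : F → X := fun f => if h : ∃ x : X, x⁻¹ * φ x = f then h.choose else 1
  have hc : ∀ (x : X) (hx : x⁻¹ * φ x ∈ F), (c ⟨_, hx⟩)⁻¹ * φ (c ⟨_, hx⟩) = x⁻¹ * φ x := by
    intro x hx
    have h : ∃ y : X, y⁻¹ * φ y = ((⟨_, hx⟩ : F) : X) := ⟨x, rfl⟩
    simp only [c, dif_pos h]
    exact h.choose_spec
  have hfix : ∀ (x : X) (hx : x⁻¹ * φ x ∈ F), φ (x * (c ⟨_, hx⟩)⁻¹) = x * (c ⟨_, hx⟩)⁻¹ := by
    intro x hx
    have h1 := hc x hx
    set y := c ⟨_, hx⟩ with hy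
    have h2 : φ y = y * (x⁻¹ * φ x) := by rw [← h1]; group
    rw [map_mul, map_inv, h2]; group
  refine Nat.card_le_card_of_injective (fun x : {x : X // x⁻¹ * φ x ∈ F} =>
    ((⟨_, x.2⟩ : F), (⟨x.1 * (c ⟨_, x.2⟩)⁻¹, hfix x.1 x.2⟩ : {x : X // φ x = x}))) ?_
  rintro ⟨x, hx⟩ ⟨y, hy⟩ hxy
  simp only [Prod.mk.injEq, Subtype.mk.injEq] at hxy
  apply Subtype.ext
  obtain ⟨h1, h2⟩ := hxy
  have h3 : c ⟨_, hx⟩ = c ⟨_, hy⟩ := by congr 1; exact Subtype.ext h1
  rw [h3] at h2
  exact mul_right_cancel h2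

theorem index_le_four (hX : IsPGroup 2 X) (φ : MulAut X)
    (h2 : ∀ x, x⁻¹ * φ (φ x) ∈ frattini X) (hfix : Nat.card {x : X // φ x = x} ≤ 2) :
    (frattini X).index ≤ 4 := by
  have : Fact (Nat.Prime 2) := ⟨Nat.prime_two⟩
  have hnil : Group.IsNilpotent X := hX.isNilpotent
  set F := frattini X with hF
  have hsq : ∀ x : X, x * x ∈ F := fun x => by
    have := H1.Frat.pow_mem_frattini hX x
    rwa [pow_two] at this
  have hcomm : commutator X ≤ F := H1.Frat.commutator_le_frattini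
  have hc : ∀ x y : X, x⁻¹ * y⁻¹ * x * y ∈ F := by
    intro x y
    apply hcomm
    have : x⁻¹ * y⁻¹ * x * y = ⁅x⁻¹, y⁻¹⁆ := by rw [commutatorElement_def]; group
    rw [this]
    exact Subgroup.commutator_mem_commutator (mem_top _) (mem_top _)
  have hmkc : ∀ a b : X, ((a * b : X) : X ⧸ F) = ((b * a : X) : X ⧸ F) := by
    intro a b
    rw [QuotientGroup.eq]
    have := hc b a
    have e : (a * b)⁻¹ * (b * a) = b⁻¹ * a⁻¹ * b * a := by group
    rw [e]; exact this
  let C : Subgroup X :=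
    { carrier := {x | x⁻¹ * φ x ∈ F}
      one_mem' := by simp
      mul_mem' := by
        intro a b ha hb
        have e : (a * b)⁻¹ * φ (a * b) = (b⁻¹ * (a⁻¹ * φ a) * b) * (b⁻¹ * φ b) := by
          rw [map_mul]; group
        show (a * b)⁻¹ * φ (a * b) ∈ F
        rw [e]
        refine mul_mem ?_ hb
        have := (inferInstance : F.Normal).conj_mem _ ha b⁻¹
        simpa using this
      inv_mem' := by
        intro a ha
        show (a⁻¹)⁻¹ * φ a⁻¹ ∈ F
        have e : (a⁻¹)⁻¹ * φ a⁻¹ = a * (a⁻¹ * φ a)⁻¹ * a⁻¹ := by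
          rw [map_inv]; group
        rw [e]
        exact (inferInstance : F.Normal).conj_mem _ (inv_mem ha) a }
  have hCmem : ∀ x, x ∈ C ↔ x⁻¹ * φ x ∈ F := fun x => Iff.rfl
  have hCcard : Nat.card C ≤ Nat.card F * 2 :=
    (card_fix_le F φ).trans (Nat.mul_le_mul_left _ hfix)
  have hFC : F ≤ C := by
    intro x hx
    rw [hCmem]
    refine mul_mem (inv_mem hx) ?_
    have : F.map (φ : X →* X) = F := (Subgroup.characteristic_iff_map_eq.mp frattini_characteristic) φ
    rw [← this]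
    exact ⟨x, hx, rfl⟩
  let θ : X →* X ⧸ F :=
    { toFun := fun x => ((x * φ x : X) : X ⧸ F)
      map_one' := by simp
      map_mul' := by
        intro a b
        rw [map_mul]
        have e1 : a * b * (φ a * φ b) = a * (b * φ a) * φ b := by group
        have e2 : a * (φ a * b) * φ b = (a * φ a) * (b * φ b) := by group
        rw [e1, ← QuotientGroup.mk_mul, ← e2]
        rw [QuotientGroup.mk_mul, QuotientGroup.mk_mul, hmkc b (φ a), ← QuotientGroup.mk_mul,
          ← QuotientGroup.mk_mul] }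
  have hker : θ.ker = C := by
    ext x
    rw [MonoidHom.mem_ker, hCmem]
    show ((x * φ x : X) : X ⧸ F) = 1 ↔ _
    rw [QuotientGroup.eq_one_iff]
    have e : x * φ x = (x * x) * (x⁻¹ * φ x) := by group
    rw [e]
    exact Subgroup.mul_mem_cancel_left F (hsq x)
  have hran : θ.range ≤ C.map (QuotientGroup.mk' F) := by
    rintro _ ⟨x, rfl⟩
    refine ⟨x * φ x, ?_, rfl⟩
    show (x * φ x)⁻¹ * φ (x * φ x) ∈ F
    have e : (x * φ x)⁻¹ * φ (x * φ x) = ((φ x)⁻¹ * x⁻¹ * φ x * x) * (x⁻¹ * φ (φ x)) := by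
      rw [map_mul]; group
    rw [e]
    exact mul_mem (hc _ _) (h2 x)
  have h3 : Nat.card X = Nat.card θ.range * Nat.card C := by
    rw [← hker, mul_comm]
    have := θ.ker.card_mul_index
    rw [Subgroup.index_ker] at this
    exact this.symm
  have h4 : Nat.card θ.range * Nat.card F ≤ Nat.card C := by
    have h5 : Nat.card θ.range ≤ Nat.card (C.map (QuotientGroup.mk' F)) :=
      Subgroup.card_le_of_le hran
    have h6 : Nat.card (C.map (QuotientGroup.mk' F)) * Nat.card F = Nat.card C := by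
      rw [mul_comm]; exact H1.Cores.card_map_mk' F C hFC
    calc _ ≤ Nat.card (C.map (QuotientGroup.mk' F)) * Nat.card F := Nat.mul_le_mul_right _ h5
      _ = _ := h6
  have h5 := F.card_mul_index
  have hFpos : 0 < Nat.card F := Nat.card_pos
  have h6 : Nat.card F * F.index * Nat.card F ≤ (Nat.card F * 2) * (Nat.card F * 2) := by
    rw [h5, h3]
    calc Nat.card θ.range * Nat.card C * Nat.card F = (Nat.card θ.range * Nat.card F) * Nat.card C := by
          ring
      _ ≤ Nat.card C * Nat.card C := Nat.mul_le_mul_right _ h4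
      _ ≤ _ := Nat.mul_le_mul hCcard hCcard
  have h7 : (Nat.card F * Nat.card F) * F.index ≤ (Nat.card F * Nat.card F) * 4 := by
    calc _ = Nat.card F * F.index * Nat.card F := by ring
      _ ≤ _ := h6
      _ = _ := by ring
  exact Nat.le_of_mul_le_mul_left h7 (Nat.mul_pos hFpos hFpos)

theorem five_trivial (hX : IsPGroup 2 X) (hidx : (frattini X).index ≤ 4) (β : MulAut X) (k : ℕ)
    (hβ : β ^ (5 ^ k) = 1) : β = 1 := by
  classical
  haveI : Fact (Nat.Prime 2) := ⟨Nat.prime_two⟩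
  haveI : Fact (Nat.Prime 5) := ⟨Nat.prime_five⟩
  by_contra hne
  have hord : orderOf β ∣ 5 ^ k := orderOf_dvd_of_pow_eq_one hβ
  obtain ⟨j, hj, hj2⟩ := (Nat.dvd_prime_pow Nat.prime_five).mp hord
  have hj0 : j ≠ 0 := by
    rintro rfl
    rw [pow_zero, orderOf_eq_one_iff] at hj2
    exact hne hj2
  obtain ⟨i, rfl⟩ := Nat.exists_eq_succ_of_ne_zero hj0
  set γ := β ^ (5 ^ i) with hγ
  have hγo : orderOf γ = 5 := by
    rw [hγ, orderOf_pow, hj2, pow_succ, Nat.gcd_mul_right_left,
      Nat.mul_div_cancel_left _ (by positivity)]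
  obtain ⟨x, hx⟩ := H37.AutOdd.not_trivial_mod_frattini (p := 2) (q := 5) (by norm_num) hX γ hγo
  apply hx
  have hmap : (frattini X).map (γ : X →* X) = frattini X :=
    (Subgroup.characteristic_iff_map_eq.mp frattini_characteristic) γ
  let σ : X ⧸ frattini X ≃* X ⧸ frattini X := QuotientGroup.congr (frattini X) (frattini X) γ hmap
  have hσ : ∀ (n : ℕ) (y : X), ((σ.toEquiv : Equiv.Perm (X ⧸ frattini X)) ^ n) (y : X ⧸ frattini X) =
      (((γ ^ n) y : X) : X ⧸ frattini X) := by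
    intro n
    induction n with
    | zero => intro y; simp
    | succ n ih =>
      intro y
      rw [pow_succ', Equiv.Perm.mul_apply, ih, pow_succ', MulAut.mul_apply]
      rfl
  have h5 : (σ.toEquiv : Equiv.Perm (X ⧸ frattini X)) ^ 5 = 1 := by
    ext q
    obtain ⟨y, rfl⟩ := QuotientGroup.mk_surjective q
    rw [hσ, ← hγo, pow_orderOf_eq_one]
    rfl
  have h24 : orderOf (σ.toEquiv : Equiv.Perm (X ⧸ frattini X)) ∣ 24 := by
    have h1 := orderOf_dvd_natCard (σ.toEquiv : Equiv.Perm (X ⧸ frattini X))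
    rw [Nat.card_perm] at h1
    exact h1.trans ((Nat.factorial_dvd_factorial (show Nat.card (X ⧸ frattini X) ≤ 4 from hidx)).trans
      (by decide))
  have h1 : orderOf (σ.toEquiv : Equiv.Perm (X ⧸ frattini X)) = 1 := by
    have h2 := Nat.dvd_gcd (orderOf_dvd_of_pow_eq_one h5) h24
    norm_num at h2
    rw [orderOf_eq_one_iff]
    exact h2
  have h2 : (σ.toEquiv : Equiv.Perm (X ⧸ frattini X)) = 1 := orderOf_eq_one_iff.mp h1
  have h3 : σ (x : X ⧸ frattini X) = (x : X ⧸ frattini X) := congrFun (congrArg DFunLike.coe h2) _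
  have h4 : ((γ x : X) : X ⧸ frattini X) = (x : X ⧸ frattini X) := h3
  exact QuotientGroup.eq.mp h4.symm

end H75.Ch8Aut
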