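import Mathlib
import Cfsg.Agent.Lib.H4.FrobSchur
import Cfsg.Agent.Lib.H18.CharQuot
import Cfsg.Agent.Lib.H18.DetChar

/-!
# Characters of degree three of groups without linear characters (H75.Ch8)
-/

set_option autoImplicit false
set_option linter.all false

open Cfsg Representation
open scoped ComplexConjugate Matrix

namespace H75.Ch8

universe u v w

/-- the square formula for 3 x 3 matrices -/
theorem trace_sq (A : Matrix (Fin 3) (Fin 3) ℂ) :
    (A * A).trace = A.trace ^ 2 - 2 * A.adjugate.trace := by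
  rw [Matrix.adjugate_fin_three]
  simp [Matrix.trace_fin_three, Matrix.mul_apply, Fin.sum_univ_three]
  ring

variable {G : Type u} [Group G]

theorem det_M (hG : ∀ f : G →* ℂˣ, f = 1) {n : ℕ} (ρ : Representation ℂ G (Fin n → ℂ)) (g : G) :
    (H4.FrobSchur.M ρ g).det = 1 := by
  have h := H18.DetChar.detHom_apply ρ g
  rw [hG (H18.DetChar.detHom ρ)] at h
  rw [H4.FrobSchur.M, LinearMap.det_toMatrix', ← h]
  simp

theorem adj_M (hG : ∀ f : G →* ℂˣ, f = 1) {n : ℕ} (ρ : Representation ℂ G (Fin n → ℂ)) (g : G) :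
    H4.FrobSchur.M ρ g⁻¹ = (H4.FrobSchur.M ρ g).adjugate := by
  have h1 : H4.FrobSchur.M ρ g⁻¹ * H4.FrobSchur.M ρ g = 1 := by
    rw [← H4.FrobSchur.M_mul, inv_mul_cancel, H4.FrobSchur.M_one]
  have h2 : H4.FrobSchur.M ρ g * (H4.FrobSchur.M ρ g).adjugate = 1 := by
    rw [Matrix.mul_adjugate, det_M hG ρ g, one_smul]
  calc H4.FrobSchur.M ρ g⁻¹ = H4.FrobSchur.M ρ g⁻¹ *
        (H4.FrobSchur.M ρ g * (H4.FrobSchur.M ρ g).adjugate) := by rw [h2, mul_one]
    _ = (H4.FrobSchur.M ρ g).adjugate := by rw [← mul_assoc, h1, one_mul]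

/-- value at the square, for a representation of degree three -/
theorem rep_sq (hG : ∀ f : G →* ℂˣ, f = 1) (ρ : Representation ℂ G (Fin 3 → ℂ)) (g : G) :
    ρ.character (g * g) = ρ.character g ^ 2 - 2 * ρ.character g⁻¹ := by
  rw [H4.FrobSchur.char_eq_trace, H4.FrobSchur.char_eq_trace, H4.FrobSchur.char_eq_trace,
    H4.FrobSchur.M_mul, adj_M hG, trace_sq]

/-- the triple product as a map `V → Hom (V, V*)` -/
noncomputable def trip : (Fin 3 → ℂ) →ₗ[ℂ] ((Fin 3 → ℂ) →ₗ[ℂ] Module.Dual ℂ (Fin 3 → ℂ)) :=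
  (crossProduct (R := ℂ)).compr₂ (Matrix.toLinearMap₂' ℂ (1 : Matrix (Fin 3) (Fin 3) ℂ))

theorem trip_apply (a b c : Fin 3 → ℂ) : trip a b c = (crossProduct a b) ⬝ᵥ c := by
  simp [trip, Matrix.toLinearMap₂'_apply']

theorem trip_mulVec (A : Matrix (Fin 3) (Fin 3) ℂ) (a b c : Fin 3 → ℂ) :
    trip (A *ᵥ a) (A *ᵥ b) (A *ᵥ c) = A.det * trip a b c := by
  rw [trip_apply, trip_apply]
  simp [crossProduct, dotProduct, Matrix.mulVec, Matrix.det_fin_three, Fin.sum_univ_three]
  ring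

noncomputable def tripInt (hG : ∀ f : G →* ℂˣ, f = 1) (ρ : Representation ℂ G (Fin 3 → ℂ)) :
    IntertwiningMap ρ (ρ.linHom ρ.dual) :=
  ⟨trip, fun g => by
    apply LinearMap.ext; intro a
    apply LinearMap.ext; intro b
    apply LinearMap.ext; intro c
    simp only [LinearMap.comp_apply, Representation.linHom_apply, Representation.dual_apply,
      Module.Dual.transpose_apply]
    have hb : b = ρ g (ρ g⁻¹ b) := by
      rw [← Module.End.mul_apply, ← map_mul]; simp
    have hc : c = ρ g (ρ g⁻¹ c) := by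
      rw [← Module.End.mul_apply, ← map_mul]; simp
    conv_lhs => rw [hb, hc]
    rw [← H4.FrobSchur.M_mulVec ρ g a, ← H4.FrobSchur.M_mulVec ρ g (ρ g⁻¹ b),
      ← H4.FrobSchur.M_mulVec ρ g (ρ g⁻¹ c), trip_mulVec, det_M hG, one_mul]⟩

theorem trip_ne_zero : trip ≠ 0 := by
  intro h
  have h1 := congrFun (congrArg DFunLike.coe (congrFun (congrArg DFunLike.coe
    (congrFun (congrArg DFunLike.coe h) ![1, 0, 0])) ![0, 1, 0])) ![0, 0, 1]
  have h2 := trip_apply ![1, 0, 0] ![0, 1, 0] ![0, 0, 1]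
  rw [h1] at h2
  simp [crossProduct, dotProduct, Fin.sum_univ_three] at h2

theorem inner_ne_zero [Fintype G] (hG : ∀ f : G →* ℂˣ, f = 1)
    (ρ : Representation ℂ G (Fin 3 → ℂ)) :
    classInner (ρ.linHom ρ.dual).character ρ.character ≠ 0 := by
  rw [H4.CharOrth.classInner_char_char]
  have h : tripInt hG ρ ≠ 0 := by
    intro h
    exact trip_ne_zero (congrArg IntertwiningMap.toLinearMap h)
  have : Nontrivial (ρ.IntertwiningMap (ρ.linHom ρ.dual)) := ⟨⟨_, _, h⟩⟩
  have h3 := Module.finrank_pos (R := ℂ) (M := ρ.IntertwiningMap (ρ.linHom ρ.dual))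
  exact_mod_cast h3.ne'

/-- an irreducible character of degree three (no linear characters) -/
theorem irr_three [Fintype G] (hG : ∀ f : G →* ℂˣ, f = 1) {χ : G → ℂ} (hχ : IsIrrCharacter G χ)
    (h3 : χ 1 = 3) :
    (∀ g, χ (g * g) = χ g ^ 2 - 2 * χ g⁻¹) ∧
      classInner (fun g => χ g * χ g) (fun g => conj (χ g)) ≠ 0 := by
  obtain ⟨n, ρ, hρ, rfl⟩ := hχ
  have hn : n = 3 := by
    have := ρ.char_one
    rw [h3] at this
    simp at this
    exact_mod_cast this.symm
  subst hn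
  refine ⟨rep_sq hG ρ, ?_⟩
  have h := inner_ne_zero hG ρ
  have h1 : (ρ.linHom ρ.dual).character = fun g => conj (ρ.character g * ρ.character g) := by
    ext g
    rw [Representation.char_linHom, Representation.char_dual,
      H4.CharBasic.IsIrrCharacter.inv ⟨3, ρ, hρ, rfl⟩, map_mul]
  rw [h1] at h
  intro h0
  apply h
  have h2 := congrArg conj h0
  rw [map_zero] at h2
  rw [← h2]
  simp only [classInner, map_mul, map_sum, map_inv₀, Complex.conj_natCast, Complex.conj_conj]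

end H75.Ch8
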