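import Mathlib
import Cfsg.Agent.Lib.H75.Ch8Det

/-!
# Groups with an element `u` such that `χ(1) - χ(u) = 4` or `χ(u) = 0` for all nonprincipal `χ`
-/

set_option autoImplicit false
set_option linter.all false

open Cfsg
open scoped ComplexConjugate

namespace H75.Ch8

universe u v w

open H18.CharBasic H18.CharOrtho H18.CharQuot

variable {G : Type u} [Group G]

def Hyp (u : G) : Prop := ∀ χ : G → ℂ, IsIrrCharacter G χ → χ ≠ (fun _ => (1 : ℂ)) →
  (χ 1 - χ u = 4 ∨ χ u = 0)

theorem hom_trivial [Finite G] {u : G} (h : Hyp u) (f : G →* ℂˣ) : f = 1 := by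
  by_contra hf
  have h1 : (fun g => (f g : ℂ)) ≠ (fun _ => (1 : ℂ)) := by
    intro he
    apply hf
    ext g
    simpa using congrFun he g
  have hn := hom_norm_one f u
  rcases h _ (isIrrCharacter_of_hom f) h1 with h2 | h2
  · rw [map_one, Units.val_one] at h2
    have h3 : (f u : ℂ) = -3 := by linear_combination -h2
    rw [h3] at hn
    norm_num at hn
  · rw [h2] at hn
    norm_num at hn

theorem deg_one [Finite G] {u : G} (h : Hyp u) {Θ : G → ℂ} (hΘ : IsCharacter G Θ)
    (h1 : Θ 1 = 1) : Θ = fun _ => (1 : ℂ) := by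
  obtain ⟨f, hf⟩ := exists_hom_of_degree_one hΘ h1
  rw [hf, hom_trivial h f]
  ext g; simp

/-- the values of nonprincipal irreducible characters -/
theorem irr_val [Finite G] {u : G} (h : Hyp u) {φ : G → ℂ} (hφ : IsIrrCharacter G φ)
    (h1 : φ ≠ fun _ => (1 : ℂ)) : ∃ n : ℕ, 2 ≤ n ∧ φ 1 = n ∧ (φ u = n - 4 ∨ φ u = 0) := by
  obtain ⟨n, hn, hn1⟩ := exists_degree_pos hφ
  refine ⟨n, ?_, hn1, ?_⟩
  · by_contra hc
    have : n = 1 := by omega
    subst this
    exact h1 (deg_one h (isCharacter_of_isIrr hφ) (by simpa using hn1))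
  · rcases h φ hφ h1 with h2 | h2
    · left; rw [← hn1]; linear_combination -h2
    · right; exact h2

theorem re_lt [Finite G] {u : G} (h : Hyp u) {φ : G → ℂ} (hφ : IsIrrCharacter G φ)
    (h1 : φ ≠ fun _ => (1 : ℂ)) : (φ u).re < (φ 1).re := by
  obtain ⟨n, hn, hn1, h2⟩ := irr_val h hφ h1
  have hn' : (2 : ℝ) ≤ n := by exact_mod_cast hn
  rcases h2 with h2 | h2 <;> rw [h2, hn1] <;> simp <;> linarith

/-- a character with `Θ u = Θ 1` is constant -/
theorem const_of_re [Finite G] {u : G} (h : Hyp u) {Θ : G → ℂ} (hΘ : IsCharacter G Θ)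
    (h1 : (Θ 1).re ≤ (Θ u).re) : ∀ g, Θ g = Θ 1 := by
  obtain ⟨s, hs, rfl⟩ := exists_multiset hΘ
  have hle : ∀ t : Multiset (G → ℂ), (∀ φ ∈ t, IsIrrCharacter G φ) →
      (t.sum u).re ≤ (t.sum 1).re ∧ ((t.sum 1).re ≤ (t.sum u).re → ∀ g, t.sum g = t.sum 1) := by
    intro t
    induction t using Multiset.induction_on with
    | empty => intro _; simp
    | cons a t ih =>
      intro ht
      obtain ⟨h3, h4⟩ := ih fun φ hφ => ht φ (by simp [hφ])
      have ha := ht a (by simp)
      rw [Multiset.sum_cons]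
      simp only [Pi.add_apply, Complex.add_re]
      have hcl : (a u).re ≤ (a 1).re := by
        by_cases hc : a = fun _ => (1 : ℂ)
        · rw [hc]
        · exact (re_lt h ha hc).le
      refine ⟨by linarith, fun h5 g => ?_⟩
      have h6 : a = fun _ => (1 : ℂ) := by
        by_contra hc
        have := re_lt h ha hc
        linarith
      rw [h4 (by linarith) g, h6]
  exact (hle s hs).2 h1

theorem const_of_eq [Finite G] {u : G} (h : Hyp u) {Θ : G → ℂ} (hΘ : IsCharacter G Θ)
    (h1 : Θ u = Θ 1) : ∀ g, Θ g = Θ 1 := const_of_re h hΘ (by rw [h1])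

/-- an irreducible character not vanishing at `u` has degree at least three -/
theorem irr_supp [Finite G] {u : G} (h : Hyp u) {φ : G → ℂ} (hφ : IsIrrCharacter G φ)
    (h1 : φ ≠ fun _ => (1 : ℂ)) (hu : φ u ≠ 0) :
    ∃ n : ℕ, 3 ≤ n ∧ φ 1 = n ∧ φ u = n - 4 := by
  obtain ⟨n, hn, hn1, h2⟩ := irr_val h hφ h1
  have h3 : φ u = n - 4 := h2.resolve_right hu
  refine ⟨n, ?_, hn1, h3⟩
  by_contra hc
  have hn2 : n = 2 := by omega
  subst hn2
  have hch := isCharacter_mul (isCharacter_of_isIrr hφ) (isCharacter_conj (isCharacter_of_isIrr hφ))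
  have hcon := const_of_eq h hch (by
    show φ u * conj (φ u) = φ 1 * conj (φ 1)
    rw [h3, hn1]; norm_num)
  have := Fintype.ofFinite G
  have h4 := inner_irr_self hφ
  have h5 : classInner φ φ = 4 := by
    unfold classInner
    have h6 : ∀ g : G, φ g * conj (φ g) = 4 := by
      intro g
      have := hcon g
      simp only [Pi.mul_apply] at this
      rw [this, hn1]
      rw [Complex.conj_natCast 2]; norm_num
    rw [Finset.sum_congr rfl fun g _ => h6 g]
    rw [Finset.sum_const, Finset.card_univ, ← Nat.card_eq_fintype_card, nsmul_eq_mul,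
      ← mul_assoc, inv_mul_cancel₀ (by exact_mod_cast Nat.card_pos.ne'), one_mul]
  rw [h5] at h4
  norm_num at h4

/-- a character with a negative value has a constituent of degree three -/
theorem exists_neg [Finite G] [Fintype G] {u : G} (h : Hyp u) {Θ : G → ℂ} (hΘ : IsCharacter G Θ)
    (h1 : (Θ u).re < 0) : ∃ φ : G → ℂ, IsIrrCharacter G φ ∧ φ 1 = 3 ∧ φ u = -1 ∧
      classInner Θ φ ≠ 0 := by
  by_contra hcon
  push Not at hcon
  obtain ⟨s, hs, hss⟩ := exists_multiset hΘ
  have h2 : ∀ φ ∈ s, 0 ≤ (φ u).re := by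
    intro φ hφ
    by_contra hneg
    push Not at hneg
    have hφi := hs φ hφ
    have hφ1 : φ ≠ fun _ => (1 : ℂ) := by
      intro he; rw [he] at hneg; norm_num at hneg
    obtain ⟨n, hn, hn1, hn2⟩ := irr_supp h hφi hφ1 (by intro h0; rw [h0] at hneg; simp at hneg)
    have hn3 : n = 3 := by
      have : (n : ℝ) - 4 < 0 := by
        have := hneg
        rw [hn2] at this
        simpa using this
      have : (n : ℝ) < 4 := by linarith
      have : n < 4 := by exact_mod_cast this
      omega
    subst hn3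
    apply hcon φ hφi (by simpa using hn1) (by rw [hn2]; norm_num)
      |> fun hz => ?_
    obtain ⟨t, rfl⟩ := Multiset.exists_cons_of_mem hφ
    rw [hss, Multiset.sum_cons, H18.CharOrtho.inner_add_left, inner_irr_self hφi] at hz
    have ht : IsCharacter G t.sum :=
      isCharacter_multiset_sum t fun χ hχ => isCharacter_of_isIrr (hs χ (by simp [hχ]))
    obtain ⟨m, hm⟩ := inner_char_natCast ht (isCharacter_of_isIrr hφi)
    rw [hm] at hz
    have : (1 + m : ℂ) = ((1 + m : ℕ) : ℂ) := by push_cast; ring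
    rw [this] at hz
    have := Nat.cast_eq_zero.mp hz
    omega
  have h3 : ∀ t : Multiset (G → ℂ), (∀ φ ∈ t, 0 ≤ (φ u).re) → 0 ≤ (t.sum u).re := by
    intro t
    induction t using Multiset.induction_on with
    | empty => intro _; simp
    | cons a t ih =>
      intro ht
      rw [Multiset.sum_cons]
      simp only [Pi.add_apply, Complex.add_re]
      have := ih fun φ hφ => ht φ (by simp [hφ])
      have := ht a (by simp)
      linarith
  have := h3 s h2
  rw [← hss] at this
  linarith

/-- a character with a positive value without principal constituent has a constituent of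
degree at least five -/
theorem exists_pos [Finite G] [Fintype G] {u : G} (h : Hyp u) {Θ : G → ℂ} (hΘ : IsCharacter G Θ)
    (h1 : 0 < (Θ u).re) (h0 : classInner Θ (fun _ => (1 : ℂ)) = 0) :
    ∃ (φ : G → ℂ) (n : ℕ), IsIrrCharacter G φ ∧ 5 ≤ n ∧ φ 1 = n ∧ φ u = n - 4 ∧
      classInner Θ φ ≠ 0 := by
  by_contra hcon
  push Not at hcon
  obtain ⟨s, hs, hss⟩ := exists_multiset hΘ
  have hin : ∀ φ ∈ s, classInner Θ φ ≠ 0 := by
    intro φ hφ hz
    have hφi := hs φ hφ
    obtain ⟨t, rfl⟩ := Multiset.exists_cons_of_mem hφ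
    rw [hss, Multiset.sum_cons, H18.CharOrtho.inner_add_left, inner_irr_self hφi] at hz
    have ht : IsCharacter G t.sum :=
      isCharacter_multiset_sum t fun χ hχ => isCharacter_of_isIrr (hs χ (by simp [hχ]))
    obtain ⟨m, hm⟩ := inner_char_natCast ht (isCharacter_of_isIrr hφi)
    rw [hm] at hz
    have : (1 + m : ℂ) = ((1 + m : ℕ) : ℂ) := by push_cast; ring
    rw [this] at hz
    have := Nat.cast_eq_zero.mp hz
    omega
  have h2 : ∀ φ ∈ s, (φ u).re ≤ 0 := by
    intro φ hφ
    by_contra hneg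
    push Not at hneg
    have hφi := hs φ hφ
    have hφ1 : φ ≠ fun _ => (1 : ℂ) := by
      intro he; exact hin φ hφ (by rw [he]; exact h0)
    obtain ⟨n, hn, hn1, hn2⟩ := irr_supp h hφi hφ1 (by intro h0; rw [h0] at hneg; simp at hneg)
    have hn3 : 5 ≤ n := by
      have : 0 < (n : ℝ) - 4 := by
        have := hneg
        rw [hn2] at this
        simpa using this
      have : (4 : ℝ) < n := by linarith
      have : 4 < n := by exact_mod_cast this
      omega
    exact hin φ hφ (hcon φ n hφi hn3 hn1 hn2)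
  have h3 : ∀ t : Multiset (G → ℂ), (∀ φ ∈ t, (φ u).re ≤ 0) → (t.sum u).re ≤ 0 := by
    intro t
    induction t using Multiset.induction_on with
    | empty => intro _; simp
    | cons a t ih =>
      intro ht
      rw [Multiset.sum_cons]
      simp only [Pi.add_apply, Complex.add_re]
      have := ih fun φ hφ => ht φ (by simp [hφ])
      have := ht a (by simp)
      linarith
  have := h3 s h2
  rw [← hss] at this
  linarith

end H75.Ch8
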