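import Mathlib
import Cfsg.Agent.Lib.H75.Ch8Hyp

/-!
# Structure of the characters of degree three
-/

set_option autoImplicit false
set_option linter.all false

open Cfsg
open scoped ComplexConjugate

namespace H75.Ch8

universe u v w

open H18.CharBasic H18.CharOrtho H18.CharQuot

variable {G : Type u} [Group G]

theorem eq_zero_of_deg [Finite G] {Θ : G → ℂ} (hΘ : IsCharacter G Θ) (h1 : Θ 1 = 0) : Θ = 0 := by
  ext g
  have := char_norm_le hΘ g
  rw [h1] at this
  simpa using this

theorem deg_nonneg [Finite G] {Θ : G → ℂ} (hΘ : IsCharacter G Θ) : 0 ≤ (Θ 1).re := by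
  obtain ⟨n, hn⟩ := exists_degree hΘ
  rw [hn]; simp

/-- moving factors in the inner product -/
theorem inner_congr [Fintype G] {a b c d : G → ℂ} (h : ∀ g, a g * conj (b g) = c g * conj (d g)) :
    classInner a b = classInner c d := by
  unfold classInner
  rw [Finset.sum_congr rfl fun g _ => h g]

theorem nat_of_ne [Fintype G] {a b : G → ℂ} (ha : IsCharacter G a) (hb : IsCharacter G b)
    (h : classInner a b ≠ 0) : ∃ n : ℕ, 1 ≤ n ∧ classInner a b = n := by
  obtain ⟨n, hn⟩ := inner_char_natCast ha hb
  refine ⟨n, ?_, hn⟩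
  rcases Nat.eq_zero_or_pos n with h0 | h0
  · subst h0; exact absurd (by simpa using hn) h
  · exact h0

theorem natc_ne {n : ℕ} (h : 1 ≤ n) : (n : ℂ) ≠ 0 := by exact_mod_cast (by omega)

/-- the case where the symmetric square is irreducible is impossible -/
theorem no_irr_six [Finite G] [Fintype G] {u : G} (h : Hyp u) {χ W : G → ℂ}
    (hχ : IsIrrCharacter G χ) (h3 : χ 1 = 3) (hu : χ u = -1) (hW : IsIrrCharacter G W)
    (hWd : ∀ g, W g = χ g * χ g - conj (χ g)) : False := by
  have hχc := isCharacter_of_isIrr hχ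
  have hWc := isCharacter_of_isIrr hW
  have hχb := isCharacter_conj hχc
  have hW1 : W 1 = 6 := by rw [hWd, h3]; norm_num [Complex.ext_iff]
  have hWu : W u = 2 := by rw [hWd, hu]; norm_num [Complex.ext_iff]
  have hone := isCharacter_one (G := G)
  have hbi := isIrrCharacter_conj hχ
  have hWb : W ≠ (fun g => conj (χ g)) := by
    intro he
    have := congrFun he 1
    rw [hW1, h3] at this
    norm_num [Complex.ext_iff] at this
  -- norm of χ χ̄
  have hn2 : classInner (fun g => χ g * conj (χ g)) (fun g => χ g * conj (χ g)) = 2 := by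
    have e1 : classInner (fun g => χ g * conj (χ g)) (fun g => χ g * conj (χ g)) =
        classInner ((fun g => conj (χ g)) + W) ((fun g => conj (χ g)) + W) := by
      apply inner_congr
      intro g
      simp only [Pi.add_apply, hWd, map_mul, map_add, map_sub, Complex.conj_conj]
      ring
    rw [e1, H18.CharOrtho.inner_add_left, H18.CharOrtho.inner_add_right,
      H18.CharOrtho.inner_add_right, inner_irr_self hbi, inner_irr_self hW,
      inner_irr_ne hW hbi hWb, inner_irr_ne hbi hW hWb.symm]
    norm_num
  have hm : IsCharacter G (fun g => χ g * conj (χ g)) := isCharacter_mul hχc hχb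
  have hm1 : classInner (fun g => χ g * conj (χ g)) (fun _ => (1 : ℂ)) = 1 := by
    have e0 : classInner (fun g => χ g * conj (χ g)) (fun _ => (1 : ℂ)) = classInner χ χ := by
      apply inner_congr
      intro g; simp
    rw [e0, inner_irr_self hχ]
  have hoi := isIrrCharacter_one (G := G)
  have hA := isCharacter_sub_constituent hm hoi (by rw [hm1]; norm_num)
  have hAi : IsIrrCharacter G ((fun g => χ g * conj (χ g)) - fun _ => (1 : ℂ)) := by
    apply isIrr_of_norm_one hA
    rw [H18.CharOrtho.inner_sub_left, H18.CharOrtho.inner_sub_right,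
      H18.CharOrtho.inner_sub_right, hn2, hm1, inner_irr_self hoi]
    have : classInner (fun _ => (1 : ℂ)) (fun g => χ g * conj (χ g)) = 1 := by
      rw [← H18.CharOrtho.inner_conj_symm, hm1, map_one]
    rw [this]; norm_num
  -- the product χ W
  have hP := isCharacter_mul hχc hWc
  obtain ⟨χ1, hχ1, h13, h1u, hne1⟩ := exists_neg h hP (by
    simp only [Pi.mul_apply, hu, hWu]; norm_num)
  have hP1 := isCharacter_sub_constituent hP hχ1 hne1
  obtain ⟨χ2, hχ2, h23, h2u, hne2⟩ := exists_neg h hP1 (by
    simp only [Pi.mul_apply, Pi.sub_apply, hu, hWu, h1u]; norm_num)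
  have hswap : ∀ η : G → ℂ, classInner (χ * W) η =
      conj (classInner (fun g => conj (χ g) * η g) W) := by
    intro η
    rw [H18.CharOrtho.inner_conj_symm]
    apply inner_congr
    intro g
    simp only [Pi.mul_apply, map_mul, Complex.conj_conj]
    ring
  have hc1 : IsCharacter G (fun g => conj (χ g) * χ1 g) := isCharacter_mul hχb (isCharacter_of_isIrr hχ1)
  have hc2 : IsCharacter G (fun g => conj (χ g) * χ2 g) := isCharacter_mul hχb (isCharacter_of_isIrr hχ2)
  by_cases h12 : χ2 = χ1
  · subst h12
    obtain ⟨m, hm1', hmm⟩ := nat_of_ne hP1 (isCharacter_of_isIrr hχ2) hne2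
    rw [H18.CharOrtho.inner_sub_left, inner_irr_self hχ1, hswap] at hmm
    obtain ⟨k, hk⟩ := inner_char_natCast hc1 hWc
    rw [hk, Complex.conj_natCast] at hmm
    have hk2 : k = m + 1 := by
      have : (k : ℂ) = ((m + 1 : ℕ) : ℂ) := by push_cast; linear_combination hmm
      exact_mod_cast this
    have hR := isCharacter_sub_constituent hc1 hW (by rw [hk]; exact natc_ne (by omega))
    have hR2 := isCharacter_sub_constituent hR hW (by
      rw [H18.CharOrtho.inner_sub_left, hk, inner_irr_self hW, hk2]
      push_cast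
      simpa using natc_ne hm1')
    have := deg_nonneg hR2
    simp only [Pi.sub_apply, h3, h13, hW1] at this
    norm_num at this
  · have hne1' : classInner (fun g => conj (χ g) * χ1 g) W ≠ 0 := by
      intro h0; apply hne1; rw [hswap, h0, map_zero]
    have hne2' : classInner (fun g => conj (χ g) * χ2 g) W ≠ 0 := by
      intro h0; apply hne2
      rw [H18.CharOrtho.inner_sub_left, hswap, h0, map_zero, inner_irr_ne hχ1 hχ2 (Ne.symm h12),
        sub_zero]
    have hR1 := isCharacter_sub_constituent hc1 hW hne1'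
    have hR2 := isCharacter_sub_constituent hc2 hW hne2'
    obtain ⟨a, ha⟩ := inner_char_natCast hWc hR2
    obtain ⟨b, hb⟩ := inner_char_natCast hR1 hWc
    obtain ⟨c, hc⟩ := inner_char_natCast hR1 hR2
    have e1 : classInner (fun g => conj (χ g) * χ1 g) (fun g => conj (χ g) * χ2 g) =
        ((1 + a + (b + c) : ℕ) : ℂ) := by
      have e2 : (fun g => conj (χ g) * χ1 g) = W + ((fun g => conj (χ g) * χ1 g) - W) := by
        abel
      have e3 : (fun g => conj (χ g) * χ2 g) = W + ((fun g => conj (χ g) * χ2 g) - W) := by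
        abel
      rw [e2, e3, H18.CharOrtho.inner_add_left, H18.CharOrtho.inner_add_right,
        H18.CharOrtho.inner_add_right, inner_irr_self hW, ha, hb, hc]
      push_cast; ring
    have hΘ : IsCharacter G (fun g => conj (χ1 g) * χ2 g) :=
      isCharacter_mul (isCharacter_conj (isCharacter_of_isIrr hχ1)) (isCharacter_of_isIrr hχ2)
    have e4 : classInner (fun g => conj (χ g) * χ1 g) (fun g => conj (χ g) * χ2 g) =
        classInner (fun g => χ g * conj (χ g)) (fun g => conj (χ1 g) * χ2 g) := by
      apply inner_congr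
      intro g
      simp only [map_mul, Complex.conj_conj]
      ring
    have e5 : classInner (fun _ => (1 : ℂ)) (fun g => conj (χ1 g) * χ2 g) = 0 := by
      rw [← inner_irr_ne hχ1 hχ2 (Ne.symm h12)]
      apply inner_congr
      intro g
      simp
    have e6 : (fun g => χ g * conj (χ g)) = (fun _ => (1 : ℂ)) +
        ((fun g => χ g * conj (χ g)) - fun _ => (1 : ℂ)) := by abel
    rw [e4, e6, H18.CharOrtho.inner_add_left, e5, zero_add] at e1
    have hne : classInner (fun g => conj (χ1 g) * χ2 g)
        ((fun g => χ g * conj (χ g)) - fun _ => (1 : ℂ)) ≠ 0 := by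
      rw [classInner_ne_zero_symm, e1]
      exact natc_ne (by omega)
    have hL := isCharacter_sub_constituent hΘ hAi hne
    have hL1 := deg_one h hL (by
      simp only [Pi.sub_apply, h3, h13, h23]
      norm_num [Complex.ext_iff])
    have e7 : (fun g => conj (χ1 g) * χ2 g) = (fun _ => (1 : ℂ)) +
        ((fun g => χ g * conj (χ g)) - fun _ => (1 : ℂ)) := sub_eq_iff_eq_add.mp hL1
    obtain ⟨d, hd⟩ := inner_char_natCast hone hA
    have e8 : classInner (fun _ => (1 : ℂ)) (fun g => conj (χ1 g) * χ2 g) = ((1 + d : ℕ) : ℂ) := by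
      rw [e7, H18.CharOrtho.inner_add_right, inner_irr_self hoi, hd]
      push_cast; ring
    rw [e5] at e8
    exact natc_ne (n := 1 + d) (by omega) e8.symm

/-- the square of a character of degree three -/
theorem three_sq [Finite G] [Fintype G] {u : G} (h : Hyp u) {χ : G → ℂ}
    (hχ : IsIrrCharacter G χ) (h3 : χ 1 = 3) (hu : χ u = -1) :
    (∀ g, conj (χ g) = χ g) ∧ ∃ ψ : G → ℂ, IsIrrCharacter G ψ ∧ ψ 1 = 5 ∧ ψ u = 1 ∧
      ∀ g, χ g * χ g = 1 + χ g + ψ g := by
  have hχc := isCharacter_of_isIrr hχ
  have hχb := isCharacter_conj hχc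
  have hbi := isIrrCharacter_conj hχ
  have hoi := isIrrCharacter_one (G := G)
  obtain ⟨-, hne⟩ := irr_three (hom_trivial h) hχ h3
  have hsq : IsCharacter G (fun g => χ g * χ g) := isCharacter_mul hχc hχc
  have hWc := isCharacter_sub_constituent hsq hbi hne
  set W : G → ℂ := (fun g => χ g * χ g) - fun g => conj (χ g) with hWdef
  have hWd : ∀ g, W g = χ g * χ g - conj (χ g) := fun g => rfl
  have hW1 : W 1 = 6 := by rw [hWd, h3]; norm_num [Complex.ext_iff]
  have hWu : W u = 2 := by rw [hWd, hu]; norm_num [Complex.ext_iff]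
  have hb1 : (fun g => conj (χ g)) ≠ (fun _ => (1 : ℂ)) := by
    intro he
    have := congrFun he 1
    rw [h3] at this
    norm_num [Complex.ext_iff] at this
  by_cases h0 : classInner W (fun _ => (1 : ℂ)) = 0
  · exfalso
    obtain ⟨φ, n, hφ, hn, hφ1, hφu, hφne⟩ := exists_pos h hWc (by rw [hWu]; norm_num) h0
    have hR := isCharacter_sub_constituent hWc hφ hφne
    have hdeg := deg_nonneg hR
    simp only [Pi.sub_apply, hφ1, hW1] at hdeg
    have hn6 : n ≤ 6 := by
      have : (n : ℝ) ≤ 6 := by simpa using hdeg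
      exact_mod_cast this
    have hcases : n = 5 ∨ n = 6 := by omega
    rcases hcases with rfl | rfl
    · have hL := deg_one h hR (by
        simp only [Pi.sub_apply, hφ1, hW1]; norm_num)
      have e1 : W = φ + fun _ => (1 : ℂ) := by rw [← hL]; abel
      rw [e1, H18.CharOrtho.inner_add_left, inner_irr_self hoi] at h0
      obtain ⟨d, hd⟩ := inner_char_natCast (isCharacter_of_isIrr hφ) (isCharacter_one (G := G))
      rw [hd] at h0
      exact natc_ne (n := d + 1) (by omega) (by push_cast; exact h0)
    · have hz := eq_zero_of_deg hR (by simp only [Pi.sub_apply, hφ1, hW1]; norm_num)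
      have e1 : W = φ := by rw [← sub_eq_zero]; exact hz
      exact no_irr_six h hχ h3 hu (W := W) (by rw [e1]; exact hφ) hWd
  · have hR := isCharacter_sub_constituent hWc hoi h0
    have e0 : classInner (fun g => χ g * χ g) (fun _ => (1 : ℂ)) =
        classInner χ (fun g => conj (χ g)) := by
      apply inner_congr
      intro g; simp
    have e1 : classInner W (fun _ => (1 : ℂ)) = classInner χ (fun g => conj (χ g)) := by
      rw [hWdef, H18.CharOrtho.inner_sub_left, inner_irr_ne hbi hoi hb1, sub_zero, e0]
    have hreal : χ = fun g => conj (χ g) := by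
      by_contra hc
      exact h0 (by rw [e1, inner_irr_ne hχ hbi hc])
    refine ⟨fun g => (congrFun hreal g).symm, ?_⟩
    have e2 : classInner W (fun _ => (1 : ℂ)) = 1 := by
      rw [e1, ← hreal, inner_irr_self hχ]
    obtain ⟨φ, n, hφ, hn, hφ1, hφu, hφne⟩ := exists_pos h hR (by
      simp only [Pi.sub_apply, hWu]; norm_num) (by
      rw [H18.CharOrtho.inner_sub_left, e2, inner_irr_self hoi, sub_self])
    have hS := isCharacter_sub_constituent hR hφ hφne
    have hdeg := deg_nonneg hS
    simp only [Pi.sub_apply, hφ1, hW1] at hdeg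
    have hn5 : n = 5 := by
      have h7 : (0 : ℝ) ≤ 6 - 1 - n := by simpa using hdeg
      have : (n : ℝ) ≤ 5 := by linarith
      have : n ≤ 5 := by exact_mod_cast this
      omega
    subst hn5
    have hz := eq_zero_of_deg hS (by simp only [Pi.sub_apply, hφ1, hW1]; norm_num)
    refine ⟨φ, hφ, by simpa using hφ1, by rw [hφu]; norm_num, fun g => ?_⟩
    have h8 := congrFun hz g
    simp only [Pi.sub_apply, Pi.zero_apply, hWd] at h8
    rw [← congrFun hreal g] at h8
    linear_combination h8

end H75.Ch8
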