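import Mathlib
import Cfsg.Agent.Lib.H75.Ch8Three

/-!
# Two characters of degree three: the kernel has index 60
-/

set_option autoImplicit false
set_option linter.all false

open Cfsg
open scoped ComplexConjugate

namespace H75.Ch8

universe u v w

open H18.CharBasic H18.CharOrtho H18.CharQuot

variable {G : Type u} [Group G]

/-- characters of degree three not vanishing at `u` -/
def L3 (u : G) (χ : G → ℂ) : Prop := IsIrrCharacter G χ ∧ χ 1 = 3 ∧ χ u = -1

theorem pair_eq [Finite G] [Fintype G] {u : G} (h : Hyp u) {χ1 χ2 : G → ℂ} (h1 : L3 u χ1)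
    (h2 : L3 u χ2) (hne : χ1 ≠ χ2) (g : G) :
    χ1 g * χ1 g - χ1 g = χ2 g * χ2 g - χ2 g := by
  obtain ⟨r1, ψ1, hψ1, p1, -, e1⟩ := three_sq h h1.1 h1.2.1 h1.2.2
  obtain ⟨r2, ψ2, hψ2, p2, -, e2⟩ := three_sq h h2.1 h2.2.1 h2.2.2
  have hoi := isIrrCharacter_one (G := G)
  have key : ψ1 = ψ2 := by
    by_contra hψ
    have hpc := isCharacter_mul (isCharacter_of_isIrr h1.1) (isCharacter_of_isIrr h2.1)
    have n1 : (fun _ => (1 : ℂ)) ≠ χ2 := by
      intro he; have := congrFun he 1; rw [h2.2.1] at this; norm_num at this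
    have n2 : (fun _ => (1 : ℂ)) ≠ ψ2 := by
      intro he; have := congrFun he 1; rw [p2] at this; norm_num at this
    have n3 : χ1 ≠ (fun _ => (1 : ℂ)) := by
      intro he; have := congrFun he 1; rw [h1.2.1] at this; norm_num at this
    have n4 : χ1 ≠ ψ2 := by
      intro he; have := congrFun he 1; rw [h1.2.1, p2] at this; norm_num at this
    have n5 : ψ1 ≠ (fun _ => (1 : ℂ)) := by
      intro he; have := congrFun he 1; rw [p1] at this; norm_num at this
    have n6 : ψ1 ≠ χ2 := by
      intro he; have := congrFun he 1; rw [p1, h2.2.1] at this; norm_num at this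
    have hn : classInner (χ1 * χ2) (χ1 * χ2) = 1 := by
      have e3 : classInner (χ1 * χ2) (χ1 * χ2) =
          classInner ((fun _ => (1 : ℂ)) + (χ1 + ψ1)) ((fun _ => (1 : ℂ)) + (χ2 + ψ2)) := by
        apply inner_congr
        intro g
        simp only [Pi.mul_apply, Pi.add_apply, map_mul]
        rw [r1, r2]
        have f1 : (1 : ℂ) + (χ1 g + ψ1 g) = χ1 g * χ1 g := by rw [e1]; ring
        have f2 : (1 : ℂ) + (χ2 g + ψ2 g) = χ2 g * χ2 g := by rw [e2]; ring
        rw [f1, f2, map_mul, r2]
        ring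
      rw [e3]
      simp only [H18.CharOrtho.inner_add_left, H18.CharOrtho.inner_add_right]
      rw [inner_irr_self hoi, inner_irr_ne hoi h2.1 n1, inner_irr_ne hoi hψ2 n2,
        inner_irr_ne h1.1 hoi n3, inner_irr_ne h1.1 h2.1 hne, inner_irr_ne h1.1 hψ2 n4,
        inner_irr_ne hψ1 hoi n5, inner_irr_ne hψ1 h2.1 n6, inner_irr_ne hψ1 hψ2 hψ]
      norm_num
    have hirr := isIrr_of_norm_one hpc hn
    have hne1 : χ1 * χ2 ≠ fun _ => (1 : ℂ) := by
      intro he; have := congrFun he 1
      rw [Pi.mul_apply, h1.2.1, h2.2.1] at this; norm_num at this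
    rcases h _ hirr hne1 with h5 | h5
    · simp only [Pi.mul_apply] at h5
      rw [h1.2.1, h2.2.1, h1.2.2, h2.2.2] at h5; norm_num at h5
    · simp only [Pi.mul_apply] at h5
      rw [h1.2.2, h2.2.2] at h5; norm_num at h5
  subst key
  linear_combination e1 g - e2 g

theorem golden {x y : ℂ} (h1 : x * x - x = y * y - y)
    (h2 : (x ^ 2 - 2 * x) * (x ^ 2 - 2 * x) - (x ^ 2 - 2 * x) =
      (y ^ 2 - 2 * y) * (y ^ 2 - 2 * y) - (y ^ 2 - 2 * y)) (hne : x ≠ y) :
    x + y = 1 ∧ x * x - x - 1 = 0 := by
  have hs : x - y ≠ 0 := sub_ne_zero.mpr hne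
  have h3 : (x - y) * (x + y - 1) = 0 := by linear_combination h1
  have h4 : x + y = 1 := by
    rcases mul_eq_zero.mp h3 with h | h
    · exact absurd h hs
    · linear_combination h
  have hy : y = 1 - x := by linear_combination h4
  refine ⟨h4, ?_⟩
  subst hy
  have h5 : (x - (1 - x)) * (x * x - x - 1) = 0 := by
    linear_combination (-1 / 2) * h2
  rcases mul_eq_zero.mp h5 with h | h
  · exact absurd h hs
  · exact h

/-- the dichotomy for the values of two characters of degree three -/
theorem pair_val [Finite G] [Fintype G] {u : G} (h : Hyp u) {χ1 χ2 : G → ℂ} (h1 : L3 u χ1)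
    (h2 : L3 u χ2) (hne : χ1 ≠ χ2) (g : G) :
    χ1 g = χ2 g ∨ (χ1 g + χ2 g = 1 ∧ χ1 g * χ1 g - χ1 g - 1 = 0) := by
  by_cases hc : χ1 g = χ2 g
  · exact Or.inl hc
  · right
    have s1 := (irr_three (hom_trivial h) h1.1 h1.2.1).1 g
    have s2 := (irr_three (hom_trivial h) h2.1 h2.2.1).1 g
    rw [char_inv (isCharacter_of_isIrr h1.1), (three_sq h h1.1 h1.2.1 h1.2.2).1] at s1
    rw [char_inv (isCharacter_of_isIrr h2.1), (three_sq h h2.1 h2.2.1 h2.2.2).1] at s2
    have e2 := pair_eq h h1 h2 hne (g * g)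
    rw [s1, s2] at e2
    exact golden (pair_eq h h1 h2 hne g) e2 hc

/-- lower bound for the values of a real character of degree three with determinant one -/
theorem three_lower [Finite G] [Fintype G] {u : G} (h : Hyp u) {χ : G → ℂ} (h1 : L3 u χ) (g : G)
    (h0 : χ g ≠ 0) : -1 ≤ (χ g).re := by
  have hc := isCharacter_of_isIrr h1.1
  obtain ⟨s, hs⟩ := exists_eigen hc g
  have hone := hs 1
  have hcard : s.card = 3 := by
    rw [Subgroup.coe_one, h1.2.1] at hone
    have : (s.map fun f : Subgroup.zpowers g →* ℂˣ => ((f 1 : ℂˣ) : ℂ)).sum = s.card := by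
      simp
    rw [this] at hone
    exact_mod_cast hone.symm
  obtain ⟨a, b, c, rfl⟩ := Multiset.card_eq_three.mp hcard
  let γ : Subgroup.zpowers g := ⟨g, Subgroup.mem_zpowers g⟩
  have e1 := hs γ
  have e2 := hs (γ * γ)
  have s1 := (irr_three (hom_trivial h) h1.1 h1.2.1).1 g
  rw [char_inv hc, (three_sq h h1.1 h1.2.1 h1.2.2).1] at s1
  have e2' : χ (g * g) = (a γ : ℂ) ^ 2 + (b γ : ℂ) ^ 2 + (c γ : ℂ) ^ 2 := by
    have : χ ((γ * γ : Subgroup.zpowers g) : G) = χ (g * g) := rfl
    rw [← this, e2]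
    simp only [Multiset.insert_eq_cons, Multiset.map_cons, Multiset.map_singleton,
      Multiset.sum_cons, Multiset.sum_singleton, map_mul, Units.val_mul]
    ring
  have e1' : χ g = (a γ : ℂ) + (b γ : ℂ) + (c γ : ℂ) := by
    have : χ ((γ : Subgroup.zpowers g) : G) = χ g := rfl
    rw [← this, e1]
    simp only [Multiset.insert_eq_cons, Multiset.map_cons, Multiset.map_singleton,
      Multiset.sum_cons, Multiset.sum_singleton]
    ring
  have na := hom_norm_one a γ
  have nb := hom_norm_one b γ
  have nc := hom_norm_one c γ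
  set x := (a γ : ℂ) with hx
  set y := (b γ : ℂ) with hy
  set z := (c γ : ℂ) with hz
  have ca : x * conj x = 1 := by rw [Complex.mul_conj, Complex.normSq_eq_norm_sq, na]; norm_num
  have cb : y * conj y = 1 := by rw [Complex.mul_conj, Complex.normSq_eq_norm_sq, nb]; norm_num
  have cc : z * conj z = 1 := by rw [Complex.mul_conj, Complex.normSq_eq_norm_sq, nc]; norm_num
  have hreal := (three_sq h h1.1 h1.2.1 h1.2.2).1 g
  rw [e1', map_add, map_add] at hreal
  rw [e2', e1'] at s1
  have h2 : x * y + y * z + z * x = x + y + z := by linear_combination (-1 / 2) * s1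
  have h3 : x * y + y * z + z * x = x * y * z * (x + y + z) := by
    rw [← hreal]
    linear_combination (-(y * z)) * ca + (-(x * z)) * cb + (-(x * y)) * cc
  rw [e1'] at h0 ⊢
  have h4 : x * y * z = 1 := by
    have : (x * y * z - 1) * (x + y + z) = 0 := by linear_combination h2 - h3
    rcases mul_eq_zero.mp this with h5 | h5
    · linear_combination h5
    · exact absurd h5 h0
  have h5 : (1 - x) * ((1 - y) * (1 - z)) = 0 := by linear_combination h2 - h4
  have rx : -1 ≤ x.re := by
    have := Complex.abs_re_le_norm x; rw [na] at this; exact (abs_le.mp this).1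
  have ry : -1 ≤ y.re := by
    have := Complex.abs_re_le_norm y; rw [nb] at this; exact (abs_le.mp this).1
  have rz : -1 ≤ z.re := by
    have := Complex.abs_re_le_norm z; rw [nc] at this; exact (abs_le.mp this).1
  simp only [Complex.add_re]
  rcases mul_eq_zero.mp h5 with h6 | h6
  · have : x.re = 1 := by
      have : x = 1 := by linear_combination -h6
      rw [this]; simp
    linarith
  · rcases mul_eq_zero.mp h6 with h7 | h7
    · have : y.re = 1 := by
        have : y = 1 := by linear_combination -h7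
        rw [this]; simp
      linarith
    · have : z.re = 1 := by
        have : z = 1 := by linear_combination -h7
        rw [this]; simp
      linarith

theorem sum_real [Finite G] [Fintype G] {a b : G → ℂ} {X Y : G → ℝ} (ha : ∀ g, a g = X g)
    (hb : ∀ g, b g = Y g) {r : ℝ} (h : classInner a b = r) :
    ∑ g : G, X g * Y g = Nat.card G * r := by
  have h0 : (Nat.card G : ℂ) ≠ 0 := by exact_mod_cast Nat.card_pos.ne'
  unfold classInner at h
  have h1 : ∑ g : G, a g * conj (b g) = ((∑ g : G, X g * Y g : ℝ) : ℂ) := by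
    push_cast
    refine Finset.sum_congr rfl fun g _ => ?_
    rw [ha, hb, Complex.conj_ofReal]
  rw [h1] at h
  have h2 : ((∑ g : G, X g * Y g : ℝ) : ℂ) = ((Nat.card G * r : ℝ) : ℂ) := by
    rw [Complex.ofReal_mul, ← h]
    push_cast
    field_simp
  exact_mod_cast h2

/-- The kernel of a character of degree three has index 60 as soon as there are two of them. -/
theorem kernel_card [Finite G] [Fintype G] {u : G} (h : Hyp u) {χ1 χ2 : G → ℂ} (h1 : L3 u χ1)
    (h2 : L3 u χ2) (hne : χ1 ≠ χ2) :
    60 * Nat.card {g : G // χ1 g = 3} = Nat.card G := by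
  classical
  obtain ⟨r1, ψ1, hψ1, p1, -, e1⟩ := three_sq h h1.1 h1.2.1 h1.2.2
  obtain ⟨r2, -⟩ := three_sq h h2.1 h2.2.1 h2.2.2
  have hoi := isIrrCharacter_one (G := G)
  let X : G → ℝ := fun g => (χ1 g).re
  let Y : G → ℝ := fun g => (χ2 g).re
  have hX : ∀ g, χ1 g = X g := fun g => (Complex.conj_eq_iff_re.mp (r1 g)).symm
  have hY : ∀ g, χ2 g = Y g := fun g => (Complex.conj_eq_iff_re.mp (r2 g)).symm
  have n3 : χ1 ≠ (fun _ => (1 : ℂ)) := by
    intro he; have := congrFun he 1; rw [h1.2.1] at this; norm_num at this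
  have n3' : χ2 ≠ (fun _ => (1 : ℂ)) := by
    intro he; have := congrFun he 1; rw [h2.2.1] at this; norm_num at this
  have n5 : ψ1 ≠ (fun _ => (1 : ℂ)) := by
    intro he; have := congrFun he 1; rw [p1] at this; norm_num at this
  have n6 : ψ1 ≠ χ1 := by
    intro he; have := congrFun he 1; rw [p1, h1.2.1] at this; norm_num at this
  -- moments
  have m1 : ∑ g : G, X g * 1 = Nat.card G * 0 :=
    sum_real (a := χ1) (b := fun _ => 1) hX (fun _ => by simp)
      (by rw [inner_irr_ne h1.1 hoi n3]; simp)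
  have m1' : ∑ g : G, Y g * 1 = Nat.card G * 0 :=
    sum_real (a := χ2) (b := fun _ => 1) hY (fun _ => by simp)
      (by rw [inner_irr_ne h2.1 hoi n3']; simp)
  have m2 : ∑ g : G, X g * X g = Nat.card G * 1 :=
    sum_real hX hX (by rw [inner_irr_self h1.1]; simp)
  have m2' : ∑ g : G, Y g * Y g = Nat.card G * 1 :=
    sum_real hY hY (by rw [inner_irr_self h2.1]; simp)
  have m11 : ∑ g : G, X g * Y g = Nat.card G * 0 :=
    sum_real hX hY (by rw [inner_irr_ne h1.1 h2.1 hne]; simp)
  have hsq : (fun g => χ1 g * χ1 g) = (fun _ => (1 : ℂ)) + (χ1 + ψ1) := by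
    ext g
    simp only [Pi.add_apply]
    rw [e1]; ring
  have m3 : ∑ g : G, (X g * X g) * X g = Nat.card G * 1 :=
    sum_real (a := fun g => χ1 g * χ1 g) (fun g => by simp only [hX g]; push_cast; rfl) hX (by
      rw [hsq, H18.CharOrtho.inner_add_left, H18.CharOrtho.inner_add_left,
        inner_irr_ne hoi h1.1 n3.symm, inner_irr_self h1.1, inner_irr_ne hψ1 h1.1 n6]
      simp)
  have m4 : ∑ g : G, (X g * X g) * (X g * X g) = Nat.card G * 3 :=
    sum_real (a := fun g => χ1 g * χ1 g) (b := fun g => χ1 g * χ1 g)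
      (fun g => by simp only [hX g]; push_cast; rfl)
      (fun g => by simp only [hX g]; push_cast; rfl) (by
      rw [hsq]
      simp only [H18.CharOrtho.inner_add_left, H18.CharOrtho.inner_add_right]
      rw [inner_irr_self hoi, inner_irr_ne hoi h1.1 n3.symm, inner_irr_ne hoi hψ1 n5.symm,
        inner_irr_ne h1.1 hoi n3, inner_irr_self h1.1, inner_irr_ne h1.1 hψ1 n6.symm,
        inner_irr_ne hψ1 hoi n5, inner_irr_ne hψ1 h1.1 n6, inner_irr_self hψ1]
      norm_num)
  -- pointwise dichotomy
  have hd : ∀ g, X g = Y g ∨ (X g + Y g = 1 ∧ X g * X g - X g - 1 = 0) := by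
    intro g
    rcases pair_val h h1 h2 hne g with h5 | ⟨h5, h6⟩
    · left
      rw [hX, hY] at h5
      exact_mod_cast h5
    · right
      rw [hX, hY] at h5
      rw [hX] at h6
      exact ⟨by exact_mod_cast h5, by exact_mod_cast h6⟩
  have hup : ∀ g, X g ≤ 3 := by
    intro g
    have := char_norm_le (isCharacter_of_isIrr h1.1) g
    rw [h1.2.1] at this
    have h5 := (Complex.re_le_norm (χ1 g)).trans this
    simpa using h5
  have hlow : ∀ g, X g = 0 ∨ -1 ≤ X g := by
    intro g
    by_cases h0 : χ1 g = 0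
    · left; show (χ1 g).re = 0; rw [h0]; simp
    · right; exact three_lower h h1 g h0
  let T : G → ℝ := fun g => (3 - X g) * (X g + 1) * (X g * X g) - (X g - Y g) * (X g - Y g) -
    2 * (X g - Y g)
  have hTon : ∀ g, X g ≠ Y g → T g = 0 := by
    intro g hg
    obtain ⟨h5, h6⟩ := (hd g).resolve_left hg
    have hy : Y g = 1 - X g := by linarith
    show (3 - X g) * (X g + 1) * (X g * X g) - (X g - Y g) * (X g - Y g) -
      2 * (X g - Y g) = 0
    rw [hy]
    linear_combination (-(X g ^ 2) + X g - 1) * h6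
  have hToff : ∀ g, X g = Y g → T g = (3 - X g) * (X g + 1) * (X g * X g) := by
    intro g hg
    show (3 - X g) * (X g + 1) * (X g * X g) - (X g - Y g) * (X g - Y g) -
      2 * (X g - Y g) = _
    rw [← hg]; ring
  have hTnn : ∀ g, 0 ≤ T g := by
    intro g
    by_cases hg : X g = Y g
    · rw [hToff g hg]
      rcases hlow g with h5 | h5
      · rw [h5]; simp
      · have h6 := hup g
        have : 0 ≤ (3 - X g) * (X g + 1) := mul_nonneg (by linarith) (by linarith)
        exact mul_nonneg this (mul_self_nonneg _)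
    · rw [hTon g hg]
  have hTsum : ∑ g : G, T g = 0 := by
    have e5 : ∀ g, T g = 3 * (X g * X g) + 2 * ((X g * X g) * X g) - (X g * X g) * (X g * X g) -
        (X g * X g + Y g * Y g - 2 * (X g * Y g)) - 2 * (X g * 1 - Y g * 1) := by
      intro g
      show (3 - X g) * (X g + 1) * (X g * X g) - (X g - Y g) * (X g - Y g) -
        2 * (X g - Y g) = _
      ring
    rw [Finset.sum_congr rfl fun g _ => e5 g]
    simp only [Finset.sum_sub_distrib, Finset.sum_add_distrib, ← Finset.mul_sum]
    rw [m1, m1', m2, m2', m11, m3, m4]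
    ring
  have hT0 : ∀ g, T g = 0 := by
    intro g
    exact (Finset.sum_eq_zero_iff_of_nonneg fun g _ => hTnn g).mp hTsum g (Finset.mem_univ g)
  have hoff : ∀ g, X g = Y g → X g = 3 ∨ X g = -1 ∨ X g = 0 := by
    intro g hg
    have h5 := hT0 g
    rw [hToff g hg] at h5
    rcases mul_eq_zero.mp h5 with h6 | h6
    · rcases mul_eq_zero.mp h6 with h7 | h7
      · left; linarith
      · right; left; linarith
    · right; right; exact mul_self_eq_zero.mp h6
  -- the count
  have hcount : ∀ g, X g * X g + X g * 1 - (X g * 1 - Y g * 1) -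
      (2 / 5) * (X g * X g + Y g * Y g - 2 * (X g * Y g)) = if χ1 g = 3 then (12 : ℝ) else 0 := by
    intro g
    have hiff : χ1 g = 3 ↔ X g = 3 := by
      rw [hX]; exact_mod_cast Iff.rfl
    by_cases hg : X g = Y g
    · rw [← hg]
      rcases hoff g hg with h5 | h5 | h5
      · rw [if_pos (hiff.mpr h5), h5]; norm_num
      · rw [if_neg (by rw [hiff, h5]; norm_num), h5]; norm_num
      · rw [if_neg (by rw [hiff, h5]; norm_num), h5]; norm_num
    · obtain ⟨h5, h6⟩ := (hd g).resolve_left hg
      have hy : Y g = 1 - X g := by linarith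
      have h7 : χ1 g ≠ 3 := by
        rw [Ne, hiff]
        intro h8; rw [h8] at h6; norm_num at h6
      rw [if_neg h7, hy]
      linear_combination (-3 / 5) * h6
  have hfin : ∑ g : G, (if χ1 g = 3 then (12 : ℝ) else 0) = Nat.card G * (1 / 5) := by
    rw [← Finset.sum_congr rfl fun g _ => hcount g]
    simp only [Finset.sum_sub_distrib, Finset.sum_add_distrib, ← Finset.mul_sum]
    rw [m1, m1', m2, m2', m11]
    ring
  rw [← Finset.sum_filter, Finset.sum_const, nsmul_eq_mul] at hfin
  have hc : Nat.card {g : G // χ1 g = 3} = (Finset.univ.filter fun g => χ1 g = 3).card := by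
    rw [Nat.card_eq_fintype_card, Fintype.card_subtype]
  rw [hc]
  have : (60 : ℝ) * (Finset.univ.filter fun g => χ1 g = 3).card = Nat.card G := by
    linarith
  exact_mod_cast this

end H75.Ch8
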