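import Mathlib
import Cfsg.Agent.Lib.H75.Ch8Pair
import Cfsg.Agent.Lib.H18.CharInd

/-!
# The characters not vanishing at `u`
-/

set_option autoImplicit false
set_option linter.all false

open Cfsg
open scoped ComplexConjugate

namespace H75.Ch8

universe u v w

open H18.CharBasic H18.CharOrtho H18.CharQuot

variable {G : Type u} [Group G]

theorem no_seven {ι : Type*} (s : Finset ι) (d : ι → ℕ) (hd : ∀ i ∈ s, 2 ≤ d i)
    (hs : ∑ i ∈ s, d i ^ 2 = 7) : False := by
  have h1 : ∀ i ∈ s, d i = 2 := by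
    intro i hi
    have h2 := hd i hi
    have h3 : d i ^ 2 ≤ 7 := by
      rw [← hs]
      exact Finset.single_le_sum (f := fun i => d i ^ 2) (fun _ _ => Nat.zero_le _) hi
    nlinarith
  rw [Finset.sum_congr rfl fun i hi => by rw [h1 i hi], Finset.sum_const, smul_eq_mul] at hs
  omega

/-- sign and size of the products `χ 1 * χ u` -/
theorem prod_val [Finite G] [Fintype G] {u : G} (h : Hyp u) {φ : G → ℂ} (hφ : IsIrrCharacter G φ) :
    (∃ r : ℝ, φ 1 * φ u = r ∧ (0 ≤ r ∨ L3 u φ)) := by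
  by_cases h1 : φ = fun _ => (1 : ℂ)
  · exact ⟨1, by rw [h1]; simp, Or.inl (by norm_num)⟩
  · by_cases hu : φ u = 0
    · exact ⟨0, by rw [hu]; simp, Or.inl le_rfl⟩
    · obtain ⟨n, hn, hn1, hnu⟩ := irr_supp h hφ h1 hu
      refine ⟨n * (n - 4), by rw [hn1, hnu]; push_cast; ring, ?_⟩
      by_cases h4 : 4 ≤ n
      · left
        have : (4 : ℝ) ≤ n := by exact_mod_cast h4
        exact mul_nonneg (by linarith) (by linarith)
      · right
        have : n = 3 := by omega
        subst this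
        exact ⟨hφ, by simpa using hn1, by rw [hnu]; norm_num⟩

theorem L3_irr {u : G} {χ : G → ℂ} (h : L3 u χ) : IsIrrCharacter G χ := h.1

section
variable [Finite G] [Fintype G] {u : G}

theorem exists_two (h : Hyp u) (hu : u ≠ 1) : ∃ χ1 χ2 : G → ℂ, L3 u χ1 ∧ L3 u χ2 ∧ χ1 ≠ χ2 := by
  classical
  have := Fintype.ofFinite (IrrCharacter G)
  have hcol := H4.CharCount.sum_degree_mul_apply u hu
  let f : IrrCharacter G → ℝ := fun χ => ((χ : G → ℂ) 1 * (χ : G → ℂ) u).re
  have hf : ∀ χ : IrrCharacter G, 0 ≤ f χ ∨ L3 u χ := by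
    intro χ
    obtain ⟨r, hr, h1⟩ := prod_val h χ.2
    rcases h1 with h1 | h1
    · left; show 0 ≤ ((χ : G → ℂ) 1 * (χ : G → ℂ) u).re; rw [hr]; simpa using h1
    · right; exact h1
  have hsum : ∑ χ, f χ = 0 := by
    have := congrArg Complex.re hcol
    rw [Complex.re_sum, Complex.zero_re] at this
    exact this
  let o : IrrCharacter G := ⟨fun _ => (1 : ℂ), isIrrCharacter_one⟩
  have ho : f o = 1 := by simp [f, o]
  have hex : ∃ χ1 : G → ℂ, L3 u χ1 := by
    by_contra hcon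
    push Not at hcon
    have h1 : ∀ χ, 0 ≤ f χ := fun χ => (hf χ).resolve_right (hcon χ)
    have h2 := Finset.single_le_sum (fun χ _ => h1 χ) (Finset.mem_univ o)
    rw [hsum, ho] at h2
    norm_num at h2
  obtain ⟨χ1, h1⟩ := hex
  refine ⟨χ1, ?_⟩
  by_contra hcon
  push Not at hcon
  obtain ⟨-, ψ, hψ, p1, pu, -⟩ := three_sq h h1.1 h1.2.1 h1.2.2
  let c : IrrCharacter G := ⟨χ1, h1.1⟩
  let p : IrrCharacter G := ⟨ψ, hψ⟩
  have hc : f c = -3 := by
    show (χ1 1 * χ1 u).re = -3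
    rw [h1.2.1, h1.2.2]; norm_num
  have hp : f p = 5 := by
    show (ψ 1 * ψ u).re = 5
    rw [p1, pu]; norm_num
  have hoc : o ≠ c := by
    intro he
    have := congrFun (congrArg Subtype.val he) 1
    change (1 : ℂ) = χ1 1 at this
    rw [h1.2.1] at this; norm_num at this
  have hop : o ≠ p := by
    intro he
    have := congrFun (congrArg Subtype.val he) 1
    change (1 : ℂ) = ψ 1 at this
    rw [p1] at this; norm_num at this
  have hcp : c ≠ p := by
    intro he
    have := congrFun (congrArg Subtype.val he) 1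
    change χ1 1 = ψ 1 at this
    rw [p1, h1.2.1] at this; norm_num at this
  have hge : ∀ χ, (if χ = o then (1 : ℝ) else 0) + (if χ = p then (5 : ℝ) else 0) -
      (if χ = c then (3 : ℝ) else 0) ≤ f χ := by
    intro χ
    by_cases e1 : χ = o
    · subst e1
      rw [if_pos rfl, if_neg hop, if_neg hoc, ho]; norm_num
    · by_cases e2 : χ = p
      · subst e2
        rw [if_neg e1, if_pos rfl, if_neg hcp.symm, hp]; norm_num
      · by_cases e3 : χ = c
        · subst e3
          rw [if_neg e1, if_neg e2, if_pos rfl, hc]; norm_num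
        · rw [if_neg e1, if_neg e2, if_neg e3]
          rcases hf χ with h5 | h5
          · simpa using h5
          · exact absurd (Subtype.ext (hcon χ h1 h5).symm) e3
  have h6 := Finset.sum_le_sum fun χ (_ : χ ∈ Finset.univ) => hge χ
  rw [hsum] at h6
  simp only [Finset.sum_sub_distrib, Finset.sum_add_distrib, Finset.sum_ite_eq', Finset.sum_ite_eq,
    Finset.mem_univ, if_true] at h6
  norm_num at h6

theorem ker_eq (h : Hyp u) {χ1 χ2 : G → ℂ} (h1 : L3 u χ1) (h2 : L3 u χ2) {n : G}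
    (hn : χ1 n = 3) : χ2 n = 3 := by
  by_cases he : χ1 = χ2
  · rw [← he]; exact hn
  · rcases pair_val h h1 h2 he n with h3 | ⟨-, h3⟩
    · rw [← h3]; exact hn
    · rw [hn] at h3; norm_num at h3

theorem index_ker (h : Hyp u) {χ1 χ2 : G → ℂ} (h1 : L3 u χ1) (h2 : L3 u χ2) (hne : χ1 ≠ χ2) :
    (kerSub χ1 (isCharacter_of_isIrr h1.1)).index = 60 := by
  have hk := kernel_card h h1 h2 hne
  have hcm := (kerSub χ1 (isCharacter_of_isIrr h1.1)).card_mul_index
  have e : Nat.card (kerSub χ1 (isCharacter_of_isIrr h1.1)) = Nat.card {g : G // χ1 g = 3} := by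
    apply Nat.card_congr
    refine Equiv.subtypeEquivRight fun g => ?_
    rw [mem_kerSub, h1.2.1]
  rw [e, ← hk] at hcm
  have hpos : 0 < Nat.card {g : G // χ1 g = 3} := by
    rw [← e]; exact Nat.card_pos
  nlinarith

theorem not_three (h : Hyp u) {χ1 χ2 χ3 : G → ℂ} (h1 : L3 u χ1) (h2 : L3 u χ2) (h3 : L3 u χ3)
    (h12 : χ1 ≠ χ2) (h13 : χ1 ≠ χ3) (h23 : χ2 ≠ χ3) : False := by
  classical
  have := Fintype.ofFinite (IrrCharacter G)
  set N := kerSub χ1 (isCharacter_of_isIrr h1.1) with hN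
  have hidx : N.index = 60 := index_ker h h1 h2 h12
  have := Fintype.ofFinite (IrrCharacter (G ⧸ N))
  have hs := H4.CharCount.sum_sq_degrees (G := G ⧸ N)
  have hcq : Nat.card (G ⧸ N) = 60 := hidx
  rw [hcq] at hs
  let S : Finset (IrrCharacter G) :=
    Finset.univ.filter fun χ => ∀ n ∈ N, (χ : G → ℂ) n = (χ : G → ℂ) 1
  have hdeg : ∀ χ : IrrCharacter G, ∃ n : ℕ, 0 < n ∧ (χ : G → ℂ) 1 = n :=
    fun χ => exists_degree_pos χ.2
  choose d hd0 hd using hdeg
  have hS : ∑ χ ∈ S, d χ ^ 2 = 60 := by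
    have e1 : ∑ χ ∈ S, ((d χ : ℂ)) ^ 2 = 60 := by
      have e2 : ∑ χ : IrrCharacter (G ⧸ N), (χ : G ⧸ N → ℂ) 1 ^ 2 =
          ∑ χ ∈ S, ((d χ : ℂ)) ^ 2 := by
        have := Fintype.ofFinite {χ : IrrCharacter G // ∀ n ∈ N, (χ : G → ℂ) n = (χ : G → ℂ) 1}
        rw [Finset.sum_subtype (p := fun χ : IrrCharacter G => ∀ n ∈ N, (χ : G → ℂ) n = (χ : G → ℂ) 1)
          S (fun χ => by simp [S]) (fun χ => ((d χ : ℂ)) ^ 2)]
        refine Fintype.sum_equiv (irrQuotEquiv N) _ _ fun χ => ?_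
        rw [← hd, irrQuotEquiv_apply]
        rfl
      rw [← e2, hs]; norm_num
    exact_mod_cast e1
  obtain ⟨-, ψ, hψ, p1, pu, hsq⟩ := three_sq h h1.1 h1.2.1 h1.2.2
  let o : IrrCharacter G := ⟨fun _ => (1 : ℂ), isIrrCharacter_one⟩
  let c1 : IrrCharacter G := ⟨χ1, L3_irr h1⟩
  let c2 : IrrCharacter G := ⟨χ2, L3_irr h2⟩
  let c3 : IrrCharacter G := ⟨χ3, L3_irr h3⟩
  let p : IrrCharacter G := ⟨ψ, hψ⟩
  have do' : d o = 1 := by
    have := hd o
    change (1 : ℂ) = d o at this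
    exact_mod_cast this.symm
  have dc1 : d c1 = 3 := by
    have := hd c1
    change χ1 1 = d c1 at this
    rw [h1.2.1] at this
    exact_mod_cast this.symm
  have dc2 : d c2 = 3 := by
    have := hd c2
    change χ2 1 = d c2 at this
    rw [h2.2.1] at this
    exact_mod_cast this.symm
  have dc3 : d c3 = 3 := by
    have := hd c3
    change χ3 1 = d c3 at this
    rw [h3.2.1] at this
    exact_mod_cast this.symm
  have dp : d p = 5 := by
    have := hd p
    change ψ 1 = d p at this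
    rw [p1] at this
    exact_mod_cast this.symm
  have hNn : ∀ n ∈ N, χ1 n = 3 := fun n hn => by
    rw [hN, mem_kerSub] at hn
    rw [hn, h1.2.1]
  have hoS : o ∈ S := by simp [S, o]
  have hc1S : c1 ∈ S := by
    simp only [S, Finset.mem_filter, Finset.mem_univ, true_and]
    intro n hn
    show χ1 n = χ1 1
    rw [hNn n hn, h1.2.1]
  have hc2S : c2 ∈ S := by
    simp only [S, Finset.mem_filter, Finset.mem_univ, true_and]
    intro n hn
    show χ2 n = χ2 1
    rw [ker_eq h h1 h2 (hNn n hn), h2.2.1]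
  have hc3S : c3 ∈ S := by
    simp only [S, Finset.mem_filter, Finset.mem_univ, true_and]
    intro n hn
    show χ3 n = χ3 1
    rw [ker_eq h h1 h3 (hNn n hn), h3.2.1]
  have hpS : p ∈ S := by
    simp only [S, Finset.mem_filter, Finset.mem_univ, true_and]
    intro n hn
    show ψ n = ψ 1
    have e1 := hsq n
    rw [hNn n hn] at e1
    rw [p1]
    linear_combination -e1
  have nd : ∀ a b : IrrCharacter G, d a ≠ d b → a ≠ b := fun a b hab he => hab (by rw [he])
  have n1 : c1 ≠ o := nd _ _ (by rw [dc1, do']; norm_num)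
  have n2 : c2 ≠ o := nd _ _ (by rw [dc2, do']; norm_num)
  have n3 : c3 ≠ o := nd _ _ (by rw [dc3, do']; norm_num)
  have n4 : p ≠ o := nd _ _ (by rw [dp, do']; norm_num)
  have n5 : p ≠ c1 := nd _ _ (by rw [dp, dc1]; norm_num)
  have n6 : p ≠ c2 := nd _ _ (by rw [dp, dc2]; norm_num)
  have n7 : p ≠ c3 := nd _ _ (by rw [dp, dc3]; norm_num)
  have n8 : c2 ≠ c1 := fun he => h12 (congrArg Subtype.val he).symm
  have n9 : c3 ≠ c1 := fun he => h13 (congrArg Subtype.val he).symm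
  have n10 : c3 ≠ c2 := fun he => h23 (congrArg Subtype.val he).symm
  rw [← Finset.add_sum_erase S _ hoS,
    ← Finset.add_sum_erase (S.erase o) _ (Finset.mem_erase.mpr ⟨n1, hc1S⟩),
    ← Finset.add_sum_erase ((S.erase o).erase c1) _ (Finset.mem_erase.mpr ⟨n8,
      Finset.mem_erase.mpr ⟨n2, hc2S⟩⟩),
    ← Finset.add_sum_erase (((S.erase o).erase c1).erase c2) _ (Finset.mem_erase.mpr ⟨n10,
      Finset.mem_erase.mpr ⟨n9, Finset.mem_erase.mpr ⟨n3, hc3S⟩⟩⟩),
    ← Finset.add_sum_erase ((((S.erase o).erase c1).erase c2).erase c3) _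
      (Finset.mem_erase.mpr ⟨n7, Finset.mem_erase.mpr ⟨n6,
      Finset.mem_erase.mpr ⟨n5, Finset.mem_erase.mpr ⟨n4, hpS⟩⟩⟩⟩),
    do', dc1, dc2, dc3, dp] at hS
  refine no_seven (((((S.erase o).erase c1).erase c2).erase c3).erase p) d ?_ (by omega)
  intro χ hχ
  have hχo : χ ≠ o := by
    intro he
    subst he
    simp only [Finset.mem_erase] at hχ
    exact hχ.2.2.2.2.1 rfl
  obtain ⟨n, hn, hn1, -⟩ := irr_val h χ.2 (fun he => hχo (Subtype.ext he))
  have : d χ = n := by
    have h8 := hd χ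
    rw [hn1] at h8
    exact_mod_cast h8.symm
  omega

/-- the characters not vanishing at `u` -/
theorem support_four (h : Hyp u) (hu : u ≠ 1) : ∃ χ1 χ2 ψ : G → ℂ, L3 u χ1 ∧ L3 u χ2 ∧
    χ1 ≠ χ2 ∧ IsIrrCharacter G ψ ∧ ψ 1 = 5 ∧ ψ u = 1 ∧ (∀ g, χ1 g * χ1 g = 1 + χ1 g + ψ g) ∧
    ∀ φ : G → ℂ, IsIrrCharacter G φ → φ ≠ (fun _ => (1 : ℂ)) → φ ≠ χ1 → φ ≠ χ2 → φ ≠ ψ →
      φ u = 0 := by
  classical
  have := Fintype.ofFinite (IrrCharacter G)
  obtain ⟨χ1, χ2, h1, h2, hne⟩ := exists_two h hu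
  obtain ⟨-, ψ, hψ, p1, pu, hsq⟩ := three_sq h h1.1 h1.2.1 h1.2.2
  refine ⟨χ1, χ2, ψ, h1, h2, hne, hψ, p1, pu, hsq, ?_⟩
  have hcol := H4.CharCount.sum_degree_mul_apply u hu
  let f : IrrCharacter G → ℝ := fun χ => ((χ : G → ℂ) 1 * (χ : G → ℂ) u).re
  have hf : ∀ χ : IrrCharacter G, 0 ≤ f χ ∨ L3 u χ := by
    intro χ
    obtain ⟨r, hr, h1⟩ := prod_val h χ.2
    rcases h1 with h1 | h1
    · left; show 0 ≤ ((χ : G → ℂ) 1 * (χ : G → ℂ) u).re; rw [hr]; simpa using h1
    · right; exact h1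
  have hsum : ∑ χ, f χ = 0 := by
    have := congrArg Complex.re hcol
    rw [Complex.re_sum, Complex.zero_re] at this
    exact this
  let o : IrrCharacter G := ⟨fun _ => (1 : ℂ), isIrrCharacter_one⟩
  have ho : f o = 1 := by simp [f, o]
  let c1 : IrrCharacter G := ⟨χ1, L3_irr h1⟩
  let c2 : IrrCharacter G := ⟨χ2, L3_irr h2⟩
  let p : IrrCharacter G := ⟨ψ, hψ⟩
  have hc1 : f c1 = -3 := by
    show (χ1 1 * χ1 u).re = -3
    rw [h1.2.1, h1.2.2]; norm_num
  have hc2 : f c2 = -3 := by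
    show (χ2 1 * χ2 u).re = -3
    rw [h2.2.1, h2.2.2]; norm_num
  have hp : f p = 5 := by
    show (ψ 1 * ψ u).re = 5
    rw [p1, pu]; norm_num
  have nd : ∀ a b : IrrCharacter G, f a ≠ f b → a ≠ b := fun a b hab he => hab (by rw [he])
  have n1 : c1 ≠ o := nd _ _ (by rw [hc1, ho]; norm_num)
  have n2 : c2 ≠ o := nd _ _ (by rw [hc2, ho]; norm_num)
  have n4 : p ≠ o := nd _ _ (by rw [hp, ho]; norm_num)
  have n5 : p ≠ c1 := nd _ _ (by rw [hp, hc1]; norm_num)
  have n6 : p ≠ c2 := nd _ _ (by rw [hp, hc2]; norm_num)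
  have n8 : c2 ≠ c1 := fun he => hne (congrArg Subtype.val he).symm
  let g : IrrCharacter G → ℝ := fun χ => (if χ = o then (1 : ℝ) else 0) +
    (if χ = p then (5 : ℝ) else 0) - (if χ = c1 then (3 : ℝ) else 0) -
    (if χ = c2 then (3 : ℝ) else 0)
  have hge : ∀ χ, 0 ≤ f χ - g χ := by
    intro χ
    show 0 ≤ f χ - ((if χ = o then (1 : ℝ) else 0) +
      (if χ = p then (5 : ℝ) else 0) - (if χ = c1 then (3 : ℝ) else 0) -
      (if χ = c2 then (3 : ℝ) else 0))
    by_cases e1 : χ = o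
    · subst e1
      rw [if_pos rfl, if_neg n4.symm, if_neg n1.symm, if_neg n2.symm, ho]; norm_num
    · by_cases e2 : χ = p
      · subst e2
        rw [if_neg e1, if_pos rfl, if_neg n5, if_neg n6, hp]; norm_num
      · by_cases e3 : χ = c1
        · subst e3
          rw [if_neg e1, if_neg e2, if_pos rfl, if_neg n8.symm, hc1]; norm_num
        · by_cases e4 : χ = c2
          · subst e4
            rw [if_neg e1, if_neg e2, if_neg n8, if_pos rfl, hc2]; norm_num
          · rw [if_neg e1, if_neg e2, if_neg e3, if_neg e4]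
            rcases hf χ with h5 | h5
            · simpa using h5
            · exfalso
              exact not_three h h1 h2 h5 hne (fun he => e3 (Subtype.ext he.symm))
                (fun he => e4 (Subtype.ext he.symm))
  have hs0 : ∑ χ, (f χ - g χ) = 0 := by
    rw [Finset.sum_sub_distrib, hsum]
    simp only [g, Finset.sum_sub_distrib, Finset.sum_add_distrib, Finset.sum_ite_eq',
      Finset.sum_ite_eq, Finset.mem_univ, if_true]
    norm_num
  have h0 := (Finset.sum_eq_zero_iff_of_nonneg fun χ _ => hge χ).mp hs0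
  intro φ hφ f1 f2 f3 f4
  have h5 := h0 ⟨φ, hφ⟩ (Finset.mem_univ _)
  have h6 : g ⟨φ, hφ⟩ = 0 := by
    simp only [g]
    rw [if_neg (fun he => f1 (congrArg Subtype.val he)),
      if_neg (fun he => f4 (congrArg Subtype.val he)),
      if_neg (fun he => f2 (congrArg Subtype.val he)),
      if_neg (fun he => f3 (congrArg Subtype.val he))]
    norm_num
  rw [h6, sub_zero] at h5
  by_contra hne0
  obtain ⟨n, hn, hn1, hnu⟩ := irr_supp h hφ f1 hne0
  change (φ 1 * φ u).re = 0 at h5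
  have h7 : φ 1 * φ u = 0 := by
    rw [hn1, hnu] at h5 ⊢
    have e1 : (n : ℂ) * (n - 4) = ((n * (n - 4) : ℝ) : ℂ) := by push_cast; ring
    rw [e1] at h5 ⊢
    rw [Complex.ofReal_re] at h5
    rw [h5]; simp
  rcases mul_eq_zero.mp h7 with h8 | h8
  · exact irr_one_ne_zero hφ h8
  · exact hne0 h8

/-- the structure of `G` from its characters -/
theorem main_char (h : Hyp u) (hu : u ≠ 1) : ∃ N : Subgroup G, N.Normal ∧ N.index = 60 ∧
    u ∉ N ∧ u * u ∈ N ∧ Nat.card (Subgroup.centralizer ({u} : Set G)) = 4 ∧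
    ∀ n ∈ N, IsConj (u * n) u := by
  classical
  have := Fintype.ofFinite (IrrCharacter G)
  obtain ⟨χ1, χ2, ψ, h1, h2, hne, hψ, p1, pu, hsq, hsupp⟩ := support_four h hu
  have hc1 := isCharacter_of_isIrr h1.1
  set N := kerSub χ1 hc1 with hN
  have hNn : ∀ n ∈ N, χ1 n = 3 := fun n hn => by
    rw [hN, mem_kerSub] at hn
    rw [hn, h1.2.1]
  let o : IrrCharacter G := ⟨fun _ => (1 : ℂ), isIrrCharacter_one⟩
  let c1 : IrrCharacter G := ⟨χ1, L3_irr h1⟩
  let c2 : IrrCharacter G := ⟨χ2, L3_irr h2⟩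
  let p : IrrCharacter G := ⟨ψ, hψ⟩
  have nd : ∀ a b : IrrCharacter G, (a : G → ℂ) 1 ≠ (b : G → ℂ) 1 → a ≠ b :=
    fun a b hab he => hab (by rw [he])
  have n1 : o ≠ c1 := nd _ _ (by show (1 : ℂ) ≠ χ1 1; rw [h1.2.1]; norm_num)
  have n2 : o ≠ c2 := nd _ _ (by show (1 : ℂ) ≠ χ2 1; rw [h2.2.1]; norm_num)
  have n4 : o ≠ p := nd _ _ (by show (1 : ℂ) ≠ ψ 1; rw [p1]; norm_num)
  have n5 : c1 ≠ p := nd _ _ (by show χ1 1 ≠ ψ 1; rw [p1, h1.2.1]; norm_num)
  have n6 : c2 ≠ p := nd _ _ (by show χ2 1 ≠ ψ 1; rw [p1, h2.2.1]; norm_num)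
  have n8 : c1 ≠ c2 := fun he => hne (congrArg Subtype.val he)
  have hval : ∀ v : G, χ1 v = -1 → χ2 v = -1 → ψ v = 1 →
      ∑ χ : IrrCharacter G, (χ : G → ℂ) v * conj ((χ : G → ℂ) u) = 4 := by
    intro v v1 v2 v3
    have e1 : ∀ χ : IrrCharacter G, (χ : G → ℂ) v * conj ((χ : G → ℂ) u) =
        (if χ = o then (1 : ℂ) else 0) + (if χ = c1 then (1 : ℂ) else 0) +
        (if χ = c2 then (1 : ℂ) else 0) + (if χ = p then (1 : ℂ) else 0) := by
      intro χ
      by_cases e1 : χ = o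
      · subst e1
        rw [if_pos rfl, if_neg n1, if_neg n2, if_neg n4]; simp [o]
      · by_cases e2 : χ = c1
        · subst e2
          rw [if_neg e1, if_pos rfl, if_neg n8, if_neg n5]
          show χ1 v * conj (χ1 u) = _
          rw [v1, h1.2.2]; simp
        · by_cases e3 : χ = c2
          · subst e3
            rw [if_neg e1, if_neg e2, if_pos rfl, if_neg n6]
            show χ2 v * conj (χ2 u) = _
            rw [v2, h2.2.2]; simp
          · by_cases e4 : χ = p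
            · subst e4
              rw [if_neg e1, if_neg e2, if_neg e3, if_pos rfl]
              show ψ v * conj (ψ u) = _
              rw [v3, pu]; simp
            · rw [if_neg e1, if_neg e2, if_neg e3, if_neg e4]
              rw [hsupp χ χ.2 (fun he => e1 (Subtype.ext he)) (fun he => e2 (Subtype.ext he))
                (fun he => e3 (Subtype.ext he)) (fun he => e4 (Subtype.ext he))]
              simp
    rw [Finset.sum_congr rfl fun χ _ => e1 χ]
    simp only [Finset.sum_add_distrib, Finset.sum_ite_eq',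
      Finset.sum_ite_eq, Finset.mem_univ, if_true]
    norm_num
  refine ⟨N, inferInstance, index_ker h h1 h2 hne, ?_, ?_, ?_, ?_⟩
  · intro hmem
    have := hNn u hmem
    rw [h1.2.2] at this
    norm_num at this
  · have s1 := (irr_three (hom_trivial h) h1.1 h1.2.1).1 u
    rw [char_inv hc1, (three_sq h h1.1 h1.2.1 h1.2.2).1, h1.2.2] at s1
    rw [hN, mem_kerSub, s1, h1.2.1]
    norm_num
  · have e1 := H4.CharCount.column_orthogonality u u
    rw [if_pos (IsConj.refl u), hval u h1.2.2 h2.2.2 pu] at e1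
    exact_mod_cast e1.symm
  · intro n hn
    by_contra hcon
    have e1 := H4.CharCount.column_orthogonality (u * n) u
    have v1 : χ1 (u * n) = -1 := by
      rw [char_mul_right hc1 (by rw [hNn n hn, h1.2.1]), h1.2.2]
    have v2 : χ2 (u * n) = -1 := by
      rw [char_mul_right (isCharacter_of_isIrr h2.1)
        (by rw [ker_eq h h1 h2 (hNn n hn), h2.2.1]), h2.2.2]
    have v3 : ψ (u * n) = 1 := by
      rw [char_mul_right (isCharacter_of_isIrr hψ) (by
        have e1 := hsq n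
        rw [hNn n hn] at e1
        rw [p1]
        linear_combination -e1), pu]
    rw [if_neg hcon, hval _ v1 v2 v3] at e1
    norm_num at e1

end

end H75.Ch8
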