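import Mathlib
import Cfsg.Agent.Lib.H75.Ch8Aut
import Cfsg.Agent.Lib.H60.Ord60

/-!
# Extensions of groups of order 60 with an element with centralizer of order 4 (H75.Ch8Grp)
-/

set_option autoImplicit false
set_option linter.all false

open Subgroup
open scoped commutatorElement

namespace H75.Ch8Grp

section a5

set_option maxRecDepth 100000

def i0 : alternatingGroup (Fin 5) :=
  ⟨Equiv.swap 0 1 * Equiv.swap 2 3, Equiv.Perm.mem_alternatingGroup.mpr (by decide)⟩

theorem a5_conj : ∀ b : alternatingGroup (Fin 5), b * b = 1 → b ≠ 1 →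
    ∃ c : alternatingGroup (Fin 5), c * b * c⁻¹ = i0 := by decide +kernel

theorem a5_four : ∀ b : alternatingGroup (Fin 5), b * b * (b * b) = 1 → b * b = 1 := by
  decide +kernel

end a5

variable {G : Type*} [Group G] [Finite G]

theorem card_centralizer_conj {x y : G} (h : IsConj x y) :
    Nat.card (centralizer ({x} : Set G)) = Nat.card (centralizer ({y} : Set G)) := by
  obtain ⟨c, rfl⟩ := isConj_iff.mp h
  refine Nat.card_congr
    { toFun := fun g => ⟨c * g.1 * c⁻¹, ?_⟩
      invFun := fun g => ⟨c⁻¹ * g.1 * c, ?_⟩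
      left_inv := fun g => Subtype.ext (by simp [mul_assoc])
      right_inv := fun g => Subtype.ext (by simp [mul_assoc]) }
  · have h1 := mem_centralizer_singleton_iff.mp g.2
    rw [mem_centralizer_singleton_iff]
    calc c * g.1 * c⁻¹ * (c * x * c⁻¹) = c * (g.1 * x) * c⁻¹ := by group
      _ = c * (x * g.1) * c⁻¹ := by rw [h1]
      _ = c * x * c⁻¹ * (c * g.1 * c⁻¹) := by group
  · have h1 := mem_centralizer_singleton_iff.mp g.2
    rw [mem_centralizer_singleton_iff]
    calc c⁻¹ * g.1 * c * x = c⁻¹ * (g.1 * (c * x * c⁻¹)) * c := by group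
      _ = c⁻¹ * ((c * x * c⁻¹) * g.1) * c := by rw [h1]
      _ = x * (c⁻¹ * g.1 * c) := by group

omit [Finite G] in
theorem hom_trivial {Q : Type*} [Group Q] (hperf : commutator G = ⊤) (f : G →* Q)
    (hQ : Group.IsSolvable Q) (x : G) : f x = 1 := by
  have h1 : commutator f.range = ⊤ := by
    have h2 : (commutator G).map f.rangeRestrict = commutator f.range := by
      rw [commutator_def, commutator_def, Subgroup.map_commutator,
        Subgroup.map_top_of_surjective _ f.rangeRestrict_surjective]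
    rw [← h2, hperf, Subgroup.map_top_of_surjective _ f.rangeRestrict_surjective]
  by_contra hne
  have hnt : Nontrivial f.range := ⟨⟨⟨f x, ⟨x, rfl⟩⟩, 1, fun h => hne (congrArg Subtype.val h)⟩⟩
  have : Group.IsSolvable f.range := inferInstance
  exact absurd h1 (Group.IsSolvable.commutator_lt_top_of_nontrivial _).ne

/-- the hypotheses extracted from the characters -/
structure Data (N : Subgroup G) (u : G) : Prop where
  perf : commutator G = ⊤
  normal : N.Normal
  index : N.index = 60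
  nmem : u ∉ N
  sq : u * u ∈ N
  cent : Nat.card (centralizer ({u} : Set G)) = 4
  conj : ∀ n ∈ N, IsConj (u * n) u

variable {N : Subgroup G} {u : G} (h : Data N u)

include h

theorem Data.card_quot : Nat.card (G ⧸ N) = 60 := h.index

theorem Data.not_solvable : haveI := h.normal; ¬ Group.IsSolvable (G ⧸ N) := by
  haveI := h.normal
  intro hs
  have h1 := hom_trivial h.perf (QuotientGroup.mk' N) hs u
  exact h.nmem ((QuotientGroup.eq_one_iff u).mp h1)

theorem Data.simple : haveI := h.normal; IsSimpleGroup (G ⧸ N) := by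
  haveI := h.normal
  exact H60.Ord60.isSimple_of_not_solvable h.card_quot h.not_solvable

theorem Data.iso : haveI := h.normal; Nonempty (G ⧸ N ≃* alternatingGroup (Fin 5)) := by
  haveI := h.normal
  haveI := h.simple
  exact H60.Ord60.iso_alt5 h.card_quot

/-- an element outside `N` whose square is in `N` is conjugate to `u` -/
theorem Data.isConj_of_sq {g : G} (hg : g ∉ N) (hg2 : g * g ∈ N) : IsConj g u := by
  haveI := h.normal
  obtain ⟨e⟩ := h.iso
  have key : ∀ x : G, x ∉ N → x * x ∈ N → ∃ c : alternatingGroup (Fin 5),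
      c * e (x : G ⧸ N) * c⁻¹ = i0 := by
    intro x hx hx2
    apply a5_conj
    · rw [← map_mul, ← QuotientGroup.mk_mul, (QuotientGroup.eq_one_iff _).mpr hx2, map_one]
    · intro h1
      apply hx
      rw [← QuotientGroup.eq_one_iff]
      exact e.injective (by rw [h1, map_one])
  obtain ⟨c, hc⟩ := key g hg hg2
  obtain ⟨d, hd⟩ := key u h.nmem h.sq
  obtain ⟨w, hw⟩ := QuotientGroup.mk_surjective (e.symm (d⁻¹ * c))
  have h1 : ((w * g * w⁻¹ : G) : G ⧸ N) = (u : G ⧸ N) := by
    apply e.injective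
    rw [QuotientGroup.mk_mul, QuotientGroup.mk_mul, QuotientGroup.mk_inv, hw]
    simp only [map_mul, map_inv, MulEquiv.apply_symm_apply]
    calc d⁻¹ * c * e g * (d⁻¹ * c)⁻¹ = d⁻¹ * (c * e g * c⁻¹) * d := by group
      _ = d⁻¹ * (d * e u * d⁻¹) * d := by rw [hc, hd]
      _ = e u := by group
  have h2 : u⁻¹ * (w * g * w⁻¹) ∈ N := QuotientGroup.eq.mp h1.symm
  have h3 := h.conj _ h2
  rw [mul_inv_cancel_left] at h3
  exact (isConj_iff.mpr ⟨w, rfl⟩ : IsConj g (w * g * w⁻¹)).trans h3

/-- a `2`-element outside `N` is conjugate to `u` -/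
theorem Data.isConj_of_two {g : G} (hg : g ∉ N) {k : ℕ} (hk : g ^ 2 ^ k ∈ N) :
    g * g ∈ N ∧ IsConj g u := by
  haveI := h.normal
  obtain ⟨e⟩ := h.iso
  have h1 : e (g : G ⧸ N) ^ 2 ^ k = 1 := by
    rw [← map_pow, ← QuotientGroup.mk_pow, (QuotientGroup.eq_one_iff _).mpr hk, map_one]
  have h2 : orderOf (e (g : G ⧸ N)) ∣ 60 := by
    have h3 := orderOf_dvd_natCard (e (g : G ⧸ N))
    rwa [← Nat.card_congr e.toEquiv, h.card_quot] at h3
  have h3 : orderOf (e (g : G ⧸ N)) ∣ 4 := by
    obtain ⟨j, hj, hj2⟩ := (Nat.dvd_prime_pow Nat.prime_two).mp (orderOf_dvd_of_pow_eq_one h1)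
    rw [hj2] at h2 ⊢
    have : j ≤ 2 := by
      by_contra hcon
      have h4 : 2 ^ 3 ∣ 60 := (pow_dvd_pow 2 (by omega : 3 ≤ j)).trans h2
      norm_num at h4
    calc 2 ^ j ∣ 2 ^ 2 := pow_dvd_pow 2 this
      _ = 4 := by norm_num
  have h4 : e (g : G ⧸ N) * e (g : G ⧸ N) = 1 := by
    apply a5_four
    have := orderOf_dvd_iff_pow_eq_one.mp h3
    rw [← this, ← pow_two, ← pow_two, ← pow_mul]
  have h5 : g * g ∈ N := by
    rw [← QuotientGroup.eq_one_iff]
    apply e.injective
    rw [QuotientGroup.mk_mul, map_mul, map_one]; exact h4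
  exact ⟨h5, h.isConj_of_sq hg h5⟩

theorem Data.card_cent {g : G} (hg : IsConj g u) : Nat.card (centralizer ({g} : Set G)) = 4 := by
  rw [card_centralizer_conj hg, h.cent]

theorem Data.pow_four : u ^ 4 = 1 := by
  have h1 : (⟨u, mem_centralizer_singleton_iff.mpr rfl⟩ : centralizer ({u} : Set G)) ^ 4 = 1 := by
    rw [← h.cent]; exact pow_card_eq_one'
  exact congrArg Subtype.val h1

theorem conj_order {x y : G} (hxy : IsConj x y) : orderOf x = orderOf y := by
  obtain ⟨c, rfl⟩ := isConj_iff.mp hxy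
  exact (MulEquiv.orderOf_eq (MulAut.conj c) x).symm

/-- a subgroup of `N` centralized by a conjugate of `u` has order at most two -/
theorem Data.card_le_two {g : G} (hg : IsConj g u) (H : Subgroup G) (hN : H ≤ N)
    (hH : H ≤ centralizer ({g} : Set G)) : Nat.card H ∣ 2 := by
  haveI := h.normal
  have hgN : g ∉ N := by
    intro hgN
    obtain ⟨c, hc⟩ := isConj_iff.mp hg
    exact h.nmem (hc ▸ h.normal.conj_mem g hgN c)
  have h4 := h.card_cent hg
  have hle : H ≤ centralizer ({g} : Set G) ⊓ N := le_inf hH hN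
  have hne : centralizer ({g} : Set G) ⊓ N ≠ centralizer ({g} : Set G) := by
    intro he
    apply hgN
    have : g ∈ centralizer ({g} : Set G) ⊓ N := by
      rw [he]; exact mem_centralizer_singleton_iff.mpr rfl
    exact this.2
  have h5 : Nat.card (centralizer ({g} : Set G) ⊓ N : Subgroup G) ∣ 4 := by
    rw [← h4]; exact Subgroup.card_dvd_of_le inf_le_left
  have h6 : Nat.card (centralizer ({g} : Set G) ⊓ N : Subgroup G) ≠ 4 := by
    intro h6
    apply hne
    apply Subgroup.eq_of_le_of_card_ge inf_le_left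
    rw [h6, h4]
  have h7 : Nat.card (centralizer ({g} : Set G) ⊓ N : Subgroup G) ∣ 2 := by
    have h8 := Nat.le_of_dvd (by norm_num) h5
    generalize Nat.card (centralizer ({g} : Set G) ⊓ N : Subgroup G) = m at *
    interval_cases m <;> omega
  exact (Subgroup.card_dvd_of_le hle).trans h7

/-- a normal subgroup of `G` not contained in `N` meets the coset of `u` -/
theorem Data.exists_mem_of_image {D L : Subgroup G} (hL : L ⊔ N = ⊤)
    (hnorm : ∀ l ∈ L, ∀ d ∈ D, l * d * l⁻¹ ∈ D) {y : G} (hy : y ∈ D) (hyN : y ∉ N) :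
    ∃ c ∈ D, IsConj c u := by
  haveI := h.normal
  haveI := h.simple
  have hn : (D.map (QuotientGroup.mk' N)).Normal := by
    refine ⟨?_⟩
    rintro _ ⟨d, hd, rfl⟩ q
    obtain ⟨g, rfl⟩ := QuotientGroup.mk_surjective q
    have hg : g ∈ L ⊔ N := by rw [hL]; trivial
    obtain ⟨l, hl, n, hn, rfl⟩ := Subgroup.mem_sup_of_normal_right.mp hg
    have hn1 : (n : G ⧸ N) = 1 := (QuotientGroup.eq_one_iff _).mpr hn
    rw [QuotientGroup.mk_mul, hn1, mul_one]
    exact ⟨l * d * l⁻¹, hnorm l hl d hd, rfl⟩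
  rcases hn.eq_bot_or_eq_top with hb | ht
  · exfalso
    have h1 : QuotientGroup.mk' N y ∈ D.map (QuotientGroup.mk' N) := ⟨y, hy, rfl⟩
    rw [hb, mem_bot] at h1
    exact hyN ((QuotientGroup.eq_one_iff y).mp h1)
  · have h1 : QuotientGroup.mk' N u ∈ D.map (QuotientGroup.mk' N) := by rw [ht]; trivial
    obtain ⟨c, hc, hcu⟩ := h1
    refine ⟨c, hc, ?_⟩
    have h2 : u⁻¹ * c ∈ N := QuotientGroup.eq.mp hcu.symm
    have h3 := h.conj _ h2
    rwa [mul_inv_cancel_left] at h3

end H75.Ch8Grp
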