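import Mathlib
import Cfsg.Agent.Lib.H75.Ch8Grp

/-!
# The Sylow 2-subgroup of `N` has order at most two
-/

set_option autoImplicit false
set_option linter.all false

open Subgroup
open scoped commutatorElement

namespace H75.Ch8Grp

variable {G : Type*} [Group G] [Finite G] {N : Subgroup G} {u : G} (h : Data N u)

theorem norm_val (T : Subgroup G) (l : normalizer (T : Set G)) (t : T) :
    ((T.normalizerMonoidHom l t : T) : G) = l.1 * t.1 * l.1⁻¹ := rfl

include h

theorem Data.sylow_dvd (T : Sylow 2 N) : Nat.card T ∣ 2 := by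
  haveI := h.normal
  haveI : Fact (Nat.Prime 2) := ⟨Nat.prime_two⟩
  haveI : Fact (Nat.Prime 5) := ⟨Nat.prime_five⟩
  set T' : Subgroup G := (T : Subgroup N).map N.subtype with hT'
  have hTN : T' ≤ N := by rw [hT']; exact Subgroup.map_subtype_le _
  have hTp : IsPGroup 2 T' := T.isPGroup'.map _
  have hcardT : Nat.card T' = Nat.card T :=
    (Nat.card_congr ((T : Subgroup N).equivMapOfInjective _ N.subtype_injective).toEquiv).symm
  have hL : normalizer (T' : Set G) ⊔ N = ⊤ := Sylow.normalizer_sup_eq_top T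
  -- an element of the normalizer conjugate to u
  obtain ⟨x, hxL, hxu⟩ : ∃ x ∈ normalizer (T' : Set G), IsConj x u := by
    have hu : u ∈ normalizer (T' : Set G) ⊔ N := by rw [hL]; trivial
    obtain ⟨l, hl, n, hn, hln⟩ := Subgroup.mem_sup_of_normal_right.mp hu
    refine ⟨l, hl, ?_⟩
    have := h.conj n⁻¹ (inv_mem hn)
    have e : u * n⁻¹ = l := by rw [← hln, mul_inv_cancel_right]
    rwa [e] at this
  have hx4 : x ^ 4 = 1 := by
    have := h.pow_four
    rw [← orderOf_dvd_iff_pow_eq_one, ← conj_order h hxu, orderOf_dvd_iff_pow_eq_one] at this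
    exact this
  have hxN : x * x ∈ N := by
    obtain ⟨c, hc⟩ := isConj_iff.mp hxu
    have h1 : x * x = c⁻¹ * (u * u) * c := by rw [← hc]; group
    rw [h1]
    have := h.normal.conj_mem _ h.sq c⁻¹
    simpa using this
  have hx2T : x * x ∈ T' := by
    have hT2 : (⟨x * x, hxN⟩ : N) ∈ normalizer ((T : Subgroup N) : Set N) := by
      rw [Subgroup.mem_normalizer_iff]
      intro t
      have h1 := Subgroup.mem_normalizer_iff.mp (mul_mem hxL hxL) (t : G)
      have h2 : ∀ s : N, s ∈ (T : Subgroup N) ↔ (s : G) ∈ T' := by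
        intro s
        rw [hT', Subgroup.mem_map]
        constructor
        · intro hs; exact ⟨s, hs, rfl⟩
        · rintro ⟨s', hs', he⟩
          have : s' = s := Subtype.ext he
          exact this ▸ hs'
      rw [h2, h2]
      exact h1
    have hP : IsPGroup 2 (zpowers (⟨x * x, hxN⟩ : N)) := by
      rw [IsPGroup.iff_card]
      rw [Nat.card_zpowers]
      have : orderOf (⟨x * x, hxN⟩ : N) ∣ 2 ^ 1 := by
        apply orderOf_dvd_of_pow_eq_one
        apply Subtype.ext
        rw [pow_one, Subgroup.coe_pow, Subgroup.coe_one]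
        show (x * x) ^ 2 = 1
        rw [← pow_two, ← pow_mul]
        exact hx4
      obtain ⟨k, hk, hk2⟩ := (Nat.dvd_prime_pow Nat.prime_two).mp this
      exact ⟨k, hk2⟩
    have h3 := hP.inf_normalizer_sylow T
    have h4 : (⟨x * x, hxN⟩ : N) ∈ zpowers (⟨x * x, hxN⟩ : N) ⊓ (T : Subgroup N) := by
      rw [← h3]
      exact ⟨mem_zpowers _, hT2⟩
    exact ⟨_, h4.2, rfl⟩
  -- the automorphism induced by x
  let φ : MulAut T' := T'.normalizerMonoidHom ⟨x, hxL⟩
  have hφ : ∀ t : T', ((φ t : T') : G) = x * t.1 * x⁻¹ := fun t => rfl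
  have hidx : (frattini T').index ≤ 4 := by
    apply H75.Ch8Aut.index_le_four hTp φ
    · intro t
      haveI : Group.IsNilpotent T' := hTp.isNilpotent
      apply (H1.Frat.commutator_le_frattini (G := T'))
      have e : t⁻¹ * φ (φ t) = ⁅t⁻¹, (⟨x * x, hx2T⟩ : T')⁆ := by
        apply Subtype.ext
        rw [commutatorElement_def]
        simp only [Subgroup.coe_mul, hφ, InvMemClass.coe_inv, inv_inv]
        group
      rw [e]
      exact Subgroup.commutator_mem_commutator (mem_top _) (mem_top _)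
    · have h1 := h.card_le_two hxu (T' ⊓ centralizer ({x} : Set G)) (inf_le_left.trans hTN)
        inf_le_right
      refine le_trans (le_of_eq ?_) (Nat.le_of_dvd (by norm_num) h1)
      refine Nat.card_congr
        { toFun := fun t => ⟨t.1.1, t.1.2, ?_⟩
          invFun := fun t => ⟨⟨t.1, t.2.1⟩, ?_⟩
          left_inv := fun t => rfl
          right_inv := fun t => rfl }
      · show t.1.1 ∈ centralizer ({x} : Set G)
        rw [mem_centralizer_singleton_iff]
        have h2 := congrArg Subtype.val t.2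
        rw [hφ, mul_inv_eq_iff_eq_mul] at h2
        exact h2.symm
      · apply Subtype.ext
        rw [hφ, mul_inv_eq_iff_eq_mul]
        exact (mem_centralizer_singleton_iff.mp t.2.2).symm
  -- an element of order 5
  obtain ⟨y, hyL, hyN, k, hy5⟩ : ∃ y ∈ normalizer (T' : Set G), y ∉ N ∧ ∃ k : ℕ, y ^ 5 ^ k = 1 := by
    obtain ⟨q, hq⟩ := exists_prime_orderOf_dvd_card' (G := G ⧸ N) 5 (by rw [h.card_quot]; norm_num)
    obtain ⟨g, rfl⟩ := QuotientGroup.mk_surjective q
    have hg : g ∈ normalizer (T' : Set G) ⊔ N := by rw [hL]; trivial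
    obtain ⟨l, hl, n, hn, rfl⟩ := Subgroup.mem_sup_of_normal_right.mp hg
    have hn1 : (n : G ⧸ N) = 1 := (QuotientGroup.eq_one_iff _).mpr hn
    rw [QuotientGroup.mk_mul, hn1, mul_one] at hq
    obtain ⟨a, m, hm, hlm⟩ := Nat.exists_eq_pow_mul_and_not_dvd (orderOf_pos l).ne' 5 (by norm_num)
    refine ⟨l ^ m, pow_mem hl m, ?_, a, ?_⟩
    · rw [← QuotientGroup.eq_one_iff, QuotientGroup.mk_pow, ← orderOf_dvd_iff_pow_eq_one, hq]
      exact hm
    · rw [← pow_mul, mul_comm, ← hlm, pow_orderOf_eq_one]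
  have hy1 : T'.normalizerMonoidHom ⟨y, hyL⟩ = 1 := by
    apply H75.Ch8Aut.five_trivial hTp hidx _ k
    rw [← map_pow]
    have : (⟨y, hyL⟩ : normalizer (T' : Set G)) ^ 5 ^ k = 1 := Subtype.ext (by simpa using hy5)
    rw [this, map_one]
  have hyC : y ∈ centralizer (T' : Set G) := by
    rw [mem_centralizer_iff]
    intro t ht
    have h1 := congrArg Subtype.val (congrFun (congrArg DFunLike.coe hy1) (⟨t, ht⟩ : T'))
    rw [norm_val] at h1
    change y * t * y⁻¹ = t at h1
    rw [mul_inv_eq_iff_eq_mul] at h1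
    exact h1.symm
  obtain ⟨c, hcC, hcu⟩ := h.exists_mem_of_image hL (D := centralizer (T' : Set G)) (by
    intro l hl d hd
    rw [mem_centralizer_iff] at hd ⊢
    intro t ht
    have h1 : l⁻¹ * t * l ∈ (T' : Set G) := by
      have := (Subgroup.mem_normalizer_iff.mp (inv_mem hl) t).mp ht
      simpa using this
    have h2 := hd _ h1
    calc t * (l * d * l⁻¹) = l * ((l⁻¹ * t * l) * d) * l⁻¹ := by group
      _ = l * (d * (l⁻¹ * t * l)) * l⁻¹ := by rw [h2]
      _ = l * d * l⁻¹ * t := by group) hyC hyN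
  have hfin := h.card_le_two hcu T' hTN (by
    intro t ht
    rw [mem_centralizer_singleton_iff]
    exact (mem_centralizer_iff.mp hcC t ht))
  rwa [hcardT] at hfin

end H75.Ch8Grp
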