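import Mathlib.GroupTheory.Index
import Mathlib.Tactic.Group
import Mathlib.GroupTheory.Subgroup.Centralizer

set_option autoImplicit false

namespace H75.ClassIndex

open Subgroup

/-- The index of a centralizer is the number of conjugates. -/
theorem index_centralizer_eq {G : Type*} [Group G] (x : G) :
    (centralizer ({x} : Set G)).index = Nat.card {y : G // ∃ g : G, g * x * g⁻¹ = y} := by
  have hwd : ∀ g h : G, g⁻¹ * h ∈ centralizer ({x} : Set G) ↔ g * x * g⁻¹ = h * x * h⁻¹ := by
    intro g h
    rw [mem_centralizer_singleton_iff]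
    constructor
    · intro e
      calc g * x * g⁻¹ = g * (x * (g⁻¹ * h)) * h⁻¹ := by group
        _ = g * ((g⁻¹ * h) * x) * h⁻¹ := by rw [e]
        _ = h * x * h⁻¹ := by group
    · intro e
      calc g⁻¹ * h * x = g⁻¹ * (h * x * h⁻¹) * h := by group
        _ = g⁻¹ * (g * x * g⁻¹) * h := by rw [e]
        _ = x * (g⁻¹ * h) := by group
  rw [Subgroup.index]
  apply Nat.card_congr
  refine Equiv.ofBijective (Quotient.lift (fun g : G => (⟨g * x * g⁻¹, g, rfl⟩ : {y : G // ∃ g : G, g * x * g⁻¹ = y})) ?_) ⟨?_, ?_⟩
  · intro g h e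
    apply Subtype.ext
    exact (hwd g h).1 (QuotientGroup.leftRel_apply.1 e)
  · intro q r
    induction q using Quotient.inductionOn with | _ g => ?_
    induction r using Quotient.inductionOn with | _ h => ?_
    intro e
    apply Quotient.sound
    exact QuotientGroup.leftRel_apply.2 ((hwd g h).2 (congrArg Subtype.val e))
  · rintro ⟨y, g, rfl⟩
    exact ⟨QuotientGroup.mk g, rfl⟩

/-- A class size is at most the size of a finite set of conjugates. -/
theorem index_centralizer_le {G : Type*} [Group G] (x : G) (S : Set G) (hS : S.Finite)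
    (h : ∀ g : G, g * x * g⁻¹ ∈ S) : (centralizer ({x} : Set G)).index ≤ Nat.card S := by
  rw [index_centralizer_eq]
  have := hS.to_subtype
  exact Nat.card_le_card_of_injective (fun y : {y : G // ∃ g : G, g * x * g⁻¹ = y} =>
    (⟨y.1, by obtain ⟨g, hg⟩ := y.2; rw [← hg]; exact h g⟩ : S)) (by
      intro y z e
      exact Subtype.ext (congrArg (fun w : S => (w : G)) e))

end H75.ClassIndex
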