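import Mathlib

set_option linter.all false

/-! Sylow `p`-subgroup of `GL_p(q)`, `p` odd, `p ∥ q - 1`. -/

namespace H75.GLp

open Matrix Finset

variable {F : Type*} [Field F] {p : ℕ} [hpF : Fact p.Prime]

/-- monomial matrix -/
def mm (d : Fin p → F) (k : Fin p) : Matrix (Fin p) (Fin p) F :=
  fun i j => if j = i + k then d i else 0

theorem mm_apply (d : Fin p → F) (k i j : Fin p) : mm d k i j = if j = i + k then d i else 0 := rfl

theorem mm_mul (d d' : Fin p → F) (k k' : Fin p) :
    mm d k * mm d' k' = mm (fun i => d i * d' (i + k)) (k + k') := by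
  ext i j
  rw [Matrix.mul_apply, Finset.sum_eq_single (i + k)]
  · simp only [mm_apply, if_true]
    by_cases h : j = i + k + k'
    · rw [if_pos h, if_pos (by rw [h, add_assoc])]
    · rw [if_neg h, if_neg (by rw [← add_assoc]; exact h), mul_zero]
  · intro l _ hl
    rw [mm_apply, if_neg hl, zero_mul]
  · intro h; exact absurd (Finset.mem_univ _) h

theorem mm_one : (mm (fun _ => (1 : F)) (0 : Fin p)) = 1 := by
  ext i j
  rw [mm_apply, Matrix.one_apply, add_zero]
  by_cases h : i = j
  · rw [if_pos h, if_pos h.symm]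
  · rw [if_neg h, if_neg (fun h' => h h'.symm)]

theorem mm_pow (d : Fin p → F) (k : Fin p) (m : ℕ) :
    (mm d k) ^ m = mm (fun i => ∏ j ∈ range m, d (i + j • k)) (m • k) := by
  induction m with
  | zero => rw [pow_zero, zero_smul]; simp [mm_one]
  | succ m ih =>
    rw [pow_succ, ih, mm_mul, succ_nsmul]
    congr 1
    ext i
    rw [Finset.prod_range_succ]

theorem nsmul_inj {k : Fin p} (hk : k ≠ 0) {a b : ℕ} (ha : a < p) (hb : b < p)
    (h : a • k = b • k) : a = b := by
  have hp := hpF.out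
  have hord : addOrderOf k = p := by
    have h1 : addOrderOf k ∣ p := by
      have := addOrderOf_dvd_card (x := k)
      rwa [Fintype.card_fin] at this
    rcases (Nat.dvd_prime hp).1 h1 with h2 | h2
    · rw [AddMonoid.addOrderOf_eq_one_iff] at h2; exact absurd h2 hk
    · exact h2
  rw [nsmul_eq_nsmul_iff_modEq, hord] at h
  rw [Nat.ModEq, Nat.mod_eq_of_lt ha, Nat.mod_eq_of_lt hb] at h
  exact h

theorem p_nsmul (k : Fin p) : p • k = 0 := by
  have := card_nsmul_eq_zero' (x := k)
  rwa [Nat.card_eq_fintype_card, Fintype.card_fin] at this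

theorem prod_orbit (d : Fin p → F) {k : Fin p} (hk : k ≠ 0) (i : Fin p) :
    ∏ j ∈ range p, d (i + j • k) = ∏ l, d l := by
  rw [Finset.prod_range fun j => d (i + j • k)]
  have hinj : Function.Injective fun j : Fin p => i + (j : ℕ) • k := by
    intro a b hab
    have : (a : ℕ) • k = (b : ℕ) • k := add_left_cancel hab
    exact Fin.ext (nsmul_inj hk a.2 b.2 this)
  have hbij := (Finite.injective_iff_bijective).1 hinj
  exact hbij.prod_comp d

theorem mm_pow_p (d : Fin p → F) {k : Fin p} (hk : k ≠ 0) :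
    (mm d k) ^ p = (∏ l, d l) • (1 : Matrix (Fin p) (Fin p) F) := by
  rw [mm_pow, p_nsmul]
  ext i j
  rw [mm_apply, Matrix.smul_apply, Matrix.one_apply, add_zero, prod_orbit d hk]
  by_cases h : i = j
  · rw [if_pos h, if_pos h.symm]; simp
  · rw [if_neg h, if_neg (fun h' => h h'.symm)]; simp

theorem mm_det_ne {d : Fin p → F} (hd : ∀ i, d i ≠ 0) (k : Fin p) : (mm d k).det ≠ 0 := by
  have h : mm d k * mm (fun i => (d (i - k))⁻¹) (-k) = 1 := by
    rw [mm_mul, add_neg_cancel, ← mm_one]
    congr 1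
    ext i
    simp only [add_sub_cancel_right]
    exact mul_inv_cancel₀ (hd i)
  intro h0
  have := congrArg Matrix.det h
  rw [Matrix.det_mul, h0, zero_mul, Matrix.det_one] at this
  exact zero_ne_one this

variable (F p) in
/-- the monomial `p`-group -/
def W : Subgroup (GL (Fin p) F) where
  carrier := {g | ∃ (d : Fin p → F) (k : Fin p), (∀ i, d i ^ p = 1) ∧
    (g : Matrix (Fin p) (Fin p) F) = mm d k}
  one_mem' := ⟨fun _ => 1, 0, fun _ => one_pow _, by rw [mm_one]; rfl⟩
  mul_mem' := by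
    rintro a b ⟨d, k, hd, ha⟩ ⟨d', k', hd', hb⟩
    refine ⟨fun i => d i * d' (i + k), k + k', fun i => by rw [mul_pow, hd, hd', one_mul], ?_⟩
    rw [Matrix.GeneralLinearGroup.coe_mul, ha, hb, mm_mul]
  inv_mem' := by
    rintro a ⟨d, k, hd, ha⟩
    have hd0 : ∀ i, d i ≠ 0 := by
      intro i h
      have := hd i
      rw [h, zero_pow hpF.out.ne_zero] at this
      exact zero_ne_one this
    refine ⟨fun i => (d (i - k))⁻¹, -k, fun i => by rw [inv_pow, hd, inv_one], ?_⟩
    have h : mm d k * mm (fun i => (d (i - k))⁻¹) (-k) = 1 := by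
      rw [mm_mul, add_neg_cancel, ← mm_one]
      congr 1
      ext i
      simp only [add_sub_cancel_right]
      exact mul_inv_cancel₀ (hd0 i)
    have h2 : ((a⁻¹ : GL (Fin p) F) : Matrix (Fin p) (Fin p) F) * (a : Matrix (Fin p) (Fin p) F) = 1 := by
      rw [← Matrix.GeneralLinearGroup.coe_mul, inv_mul_cancel, Matrix.GeneralLinearGroup.coe_one]
    calc ((a⁻¹ : GL (Fin p) F) : Matrix (Fin p) (Fin p) F)
        = ((a⁻¹ : GL (Fin p) F) : Matrix (Fin p) (Fin p) F) *
          (mm d k * mm (fun i => (d (i - k))⁻¹) (-k)) := by rw [h, mul_one]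
      _ = _ := by rw [← mul_assoc, ← ha, h2, one_mul]

theorem ne_zero_of_pow {a : F} (h : a ^ p = 1) : a ≠ 0 := by
  rintro rfl
  rw [zero_pow hpF.out.ne_zero] at h
  exact zero_ne_one h

theorem mem_W {g : GL (Fin p) F} : g ∈ W F p ↔ ∃ (d : Fin p → F) (k : Fin p), (∀ i, d i ^ p = 1) ∧
    (g : Matrix (Fin p) (Fin p) F) = mm d k := Iff.rfl

theorem row_unique {g : GL (Fin p) F} (hg : g ∈ W F p) {i j j' : Fin p}
    (h : (g : Matrix (Fin p) (Fin p) F) i j ≠ 0) (h' : (g : Matrix (Fin p) (Fin p) F) i j' ≠ 0) :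
    j = j' := by
  obtain ⟨d, k, hd, hg⟩ := hg
  rw [hg, mm_apply] at h h'
  have h1 : j = i + k := by by_contra hc; rw [if_neg hc] at h; exact h rfl
  have h2 : j' = i + k := by by_contra hc; rw [if_neg hc] at h'; exact h' rfl
  rw [h1, h2]

variable (F) in
theorem card_roots [Fintype F] (h1 : p ∣ Fintype.card F - 1) :
    Nat.card {a : F // a ^ p = 1} = p := by
  classical
  have hp := hpF.out
  have hF : p ∣ Fintype.card Fˣ := by rwa [Fintype.card_units]
  obtain ⟨u, hu⟩ := exists_prime_orderOf_dvd_card p hF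
  have hprim : IsPrimitiveRoot (u : F) p := by
    rw [IsPrimitiveRoot.coe_units_iff]
    rw [← hu]
    exact IsPrimitiveRoot.orderOf u
  have h3 := hprim.card_nthRootsFinset
  rw [Nat.card_congr (Equiv.subtypeEquivRight (q := fun a => a ∈ Polynomial.nthRootsFinset p (1 : F))
    fun a => (Polynomial.mem_nthRootsFinset hp.pos 1).symm)]
  rw [Nat.card_eq_fintype_card, Fintype.card_coe]
  exact h3

theorem exists_omega [Fintype F] (h1 : p ∣ Fintype.card F - 1) : ∃ w : F, w ^ p = 1 ∧ w ≠ 1 := by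
  classical
  have hp := hpF.out
  have hF : p ∣ Fintype.card Fˣ := by rwa [Fintype.card_units]
  obtain ⟨u, hu⟩ := exists_prime_orderOf_dvd_card p hF
  refine ⟨u, ?_, ?_⟩
  · rw [← Units.val_pow_eq_pow_val, ← hu, pow_orderOf_eq_one, Units.val_one]
  · intro h
    rw [Units.val_eq_one] at h
    rw [h, orderOf_one] at hu
    exact hp.one_lt.ne hu

theorem mm_inj {d d' : Fin p → F} {k k' : Fin p} (hd : ∀ i, d i ≠ 0) (h : mm d k = mm d' k') :
    d = d' ∧ k = k' := by
  have hp := hpF.out
  have hk : k = k' := by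
    have h0 := congrFun (congrFun h 0) (0 + k)
    rw [mm_apply, mm_apply, if_pos rfl] at h0
    by_contra hne
    rw [if_neg (by simpa using hne)] at h0
    exact hd 0 h0
  subst hk
  refine ⟨?_, rfl⟩
  ext i
  have h0 := congrFun (congrFun h i) (i + k)
  rw [mm_apply, mm_apply, if_pos rfl, if_pos rfl] at h0
  exact h0

variable (F p) in
theorem card_W [Fintype F] (h1 : p ∣ Fintype.card F - 1) : Nat.card (W F p) = p ^ (p + 1) := by
  classical
  have hp := hpF.out
  have e : ((Fin p → {a : F // a ^ p = 1}) × Fin p) ≃ W F p := by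
    refine Equiv.ofBijective (fun x => ⟨Matrix.GeneralLinearGroup.mkOfDetNeZero
      (mm (fun i => (x.1 i : F)) x.2) (mm_det_ne (fun i => ne_zero_of_pow (x.1 i).2) _),
      ⟨fun i => (x.1 i : F), x.2, fun i => (x.1 i).2, rfl⟩⟩) ⟨?_, ?_⟩
    · intro x y hxy
      have h2 := congrArg (fun g : W F p => ((g : GL (Fin p) F) : Matrix (Fin p) (Fin p) F)) hxy
      have h3 := mm_inj (fun i => ne_zero_of_pow (x.1 i).2) h2
      refine Prod.ext ?_ h3.2
      ext i
      exact congrFun h3.1 i
    · rintro ⟨g, d, k, hd, hg⟩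
      refine ⟨(fun i => ⟨d i, hd i⟩, k), ?_⟩
      apply Subtype.ext
      apply Units.ext
      exact hg.symm
  rw [← Nat.card_congr e, Nat.card_prod, Nat.card_pi, Finset.prod_const, card_roots F h1]
  simp [pow_succ]

theorem val_GL [Fintype F] (hp2 : p ≠ 2) (h1 : p ∣ Fintype.card F - 1)
    (h2 : ¬ p ^ 2 ∣ Fintype.card F - 1) :
    padicValNat p (Nat.card (GL (Fin p) F)) = p + 1 := by
  classical
  have hp := hpF.out
  have hq1 : 1 < Fintype.card F := Fintype.one_lt_card
  set q := Fintype.card F with hq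
  have hpq : ¬ p ∣ q := by
    intro h
    have h3 : p ∣ q - (q - 1) := Nat.dvd_sub h h1
    have : q - (q - 1) = 1 := by omega
    rw [this] at h3
    exact hp.one_lt.ne' (Nat.dvd_one.1 h3)
  have hv1 : padicValNat p (q - 1) = 1 := by
    have hne : q - 1 ≠ 0 := by omega
    have ha : 1 ≤ padicValNat p (q - 1) := one_le_padicValNat_of_dvd hne h1
    have hb : ¬ 2 ≤ padicValNat p (q - 1) := by
      intro h
      exact h2 ((padicValNat_dvd_iff_le hne).2 h)
    omega
  have hterm : ∀ m : ℕ, m ≠ 0 → padicValNat p (q ^ m - 1) = 1 + padicValNat p m := by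
    intro m hm
    have := padicValNat.pow_sub_pow (hp.odd_of_ne_two hp2) (y := 1) hq1 h1 hpq hm
    rw [one_pow, hv1] at this
    exact this
  rw [Matrix.card_GL_field]
  have hcast : padicValNat p (∏ i : Fin p, (q ^ p - q ^ (i : ℕ))) =
      ∑ i : Fin p, padicValNat p (q ^ p - q ^ (i : ℕ)) := by
    rw [← Nat.factorization_def _ hp, Nat.factorization_prod]
    · rw [Finsupp.finset_sum_apply]
      refine Finset.sum_congr rfl fun i _ => ?_
      rw [Nat.factorization_def _ hp]
    · intro i _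
      have : q ^ (i : ℕ) < q ^ p := Nat.pow_lt_pow_right hq1 i.2
      omega
  rw [hcast]
  have h5 : ∀ i : Fin p, padicValNat p (q ^ p - q ^ (i : ℕ)) = 1 + if (i : ℕ) = 0 then 1 else 0 := by
    intro i
    have hi := i.2
    have e1 : q ^ p - q ^ (i : ℕ) = q ^ (i : ℕ) * (q ^ (p - i) - 1) := by
      rw [Nat.mul_sub, ← pow_add, mul_one]
      congr 2
      omega
    have hne1 : q ^ (i : ℕ) ≠ 0 := by positivity
    have hne2 : q ^ (p - i) - 1 ≠ 0 := by
      have : 1 < q ^ (p - i) := Nat.one_lt_pow (by omega) hq1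
      omega
    rw [e1, padicValNat.mul hne1 hne2, hterm _ (by omega)]
    have e2 : padicValNat p (q ^ (i : ℕ)) = 0 := by
      apply padicValNat.eq_zero_of_not_dvd
      intro h
      exact hpq (hp.dvd_of_dvd_pow h)
    rw [e2, zero_add]
    by_cases h0 : (i : ℕ) = 0
    · rw [if_pos h0, h0, Nat.sub_zero, padicValNat_self]
    · rw [if_neg h0]
      have : padicValNat p (p - i) = 0 := by
        apply padicValNat.eq_zero_of_not_dvd
        intro h
        have := Nat.le_of_dvd (by omega) h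
        omega
      rw [this]
  rw [Finset.sum_congr rfl fun i _ => h5 i, Finset.sum_add_distrib]
  simp only [Finset.sum_const, Finset.card_univ, Fintype.card_fin, smul_eq_mul, mul_one]
  congr 1
  rw [Finset.sum_eq_single (0 : Fin p)]
  · simp
  · intro b _ hb
    rw [if_neg]
    intro h
    exact hb (Fin.ext (by simpa using h))
  · intro h; exact absurd (Finset.mem_univ _) h

theorem exists_sylow [Fintype F] (hp2 : p ≠ 2) (h1 : p ∣ Fintype.card F - 1)
    (h2 : ¬ p ^ 2 ∣ Fintype.card F - 1) : ∃ Q : Sylow p (GL (Fin p) F), (Q : Subgroup _) = W F p := by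
  classical
  have hW : IsPGroup p (W F p) := IsPGroup.of_card (card_W F p h1)
  obtain ⟨Q, hQ⟩ := hW.exists_le_sylow
  refine ⟨Q, ?_⟩
  symm
  apply Subgroup.eq_of_le_of_card_ge hQ
  rw [card_W F p h1, Sylow.card_eq_multiplicity, Nat.factorization_def _ hpF.out,
    val_GL hp2 h1 h2]

end H75.GLp
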