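import Cfsg.Agent.Lib.H75.GLp

set_option linter.all false

namespace H75.GLp

open Matrix Finset

variable {F : Type*} [Field F] {p : ℕ} [hpF : Fact p.Prime]

theorem exists_sylow_of_commute {G : Type*} [Group G] [Finite G] (Q : Sylow p G) {x g : G}
    {n m : ℕ} (hx : x ^ p ^ n = 1) (hg : g ^ p ^ m = 1) (hc : g * x = x * g)
    (hgQ : g ∉ (Q : Subgroup G)) : ∃ P : Sylow p G, P ≠ Q ∧ x ∈ P := by
  have h1 : IsPGroup p (Subgroup.zpowers x) := by
    have : orderOf x ∣ p ^ n := orderOf_dvd_of_pow_eq_one hx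
    obtain ⟨k, _, hk⟩ := (Nat.dvd_prime_pow hpF.out).1 this
    exact IsPGroup.of_card (by rw [Nat.card_zpowers, hk])
  have h2 : IsPGroup p (Subgroup.zpowers g) := by
    have : orderOf g ∣ p ^ m := orderOf_dvd_of_pow_eq_one hg
    obtain ⟨k, _, hk⟩ := (Nat.dvd_prime_pow hpF.out).1 this
    exact IsPGroup.of_card (by rw [Nat.card_zpowers, hk])
  have h3 : Subgroup.zpowers x ≤ Subgroup.normalizer ((Subgroup.zpowers g : Subgroup G) : Set G) := by
    rw [Subgroup.zpowers_le]
    apply Subgroup.centralizer_le_normalizer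
    rw [Subgroup.mem_centralizer_iff]
    intro y hy
    obtain ⟨k, rfl⟩ := Subgroup.mem_zpowers_iff.1 hy
    exact ((show Commute g x from hc).zpow_left k).eq
  have h4 := IsPGroup.to_sup_of_normal_right' h1 h2 h3
  obtain ⟨P, hP⟩ := h4.exists_le_sylow
  refine ⟨P, ?_, hP (Subgroup.mem_sup_left (Subgroup.mem_zpowers x))⟩
  rintro rfl
  exact hgQ (hP (Subgroup.mem_sup_right (Subgroup.mem_zpowers g)))

theorem idem_pow {R : Type*} [Ring R] [Algebra F R] {e : R} (he : e * e = e) (w : F) (n : ℕ) :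
    (1 + (w - 1) • e) ^ n = 1 + (w ^ n - 1) • e := by
  induction n with
  | zero => simp
  | succ n ih =>
    rw [pow_succ, ih, mul_add, mul_one, add_mul, one_mul, smul_mul_smul_comm, he, add_assoc,
      ← add_smul, ← add_smul]
    congr 2
    ring

variable [Fintype F]

theorem idem_case (Q : Sylow p (GL (Fin p) F)) (hQ : (Q : Subgroup _) = W F p)
    {w : F} (hw : w ^ p = 1) {x : GL (Fin p) F} {n : ℕ} (hx : x ^ p ^ n = 1)
    (e : Matrix (Fin p) (Fin p) F) (he : e * e = e)
    (hc : e * (x : Matrix (Fin p) (Fin p) F) = (x : Matrix (Fin p) (Fin p) F) * e)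
    {i j j' : Fin p} (hjj : j ≠ j') (h1 : (1 + (w - 1) • e) i j ≠ 0)
    (h2 : (1 + (w - 1) • e) i j' ≠ 0) : ∃ P : Sylow p (GL (Fin p) F), P ≠ Q ∧ x ∈ P := by
  classical
  have hpow : (1 + (w - 1) • e) ^ p = 1 := by
    rw [idem_pow he, hw]; simp
  have hunit : IsUnit (1 + (w - 1) • e) := by
    apply IsUnit.of_mul_eq_one ((1 + (w - 1) • e) ^ (p - 1))
    rw [← pow_succ']
    have : p - 1 + 1 = p := Nat.sub_add_cancel hpF.out.one_lt.le
    rw [this, hpow]
  obtain ⟨g, hg⟩ := hunit
  have hgp : g ^ p = 1 := by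
    apply Units.ext
    rw [Units.val_pow_eq_pow_val, hg, hpow, Units.val_one]
  refine exists_sylow_of_commute (n := n) (m := 1) Q hx (by rw [pow_one]; exact hgp) ?_ ?_
  · apply Units.ext
    rw [Units.val_mul, Units.val_mul, hg, add_mul, mul_add, one_mul, mul_one, smul_mul_assoc,
      mul_smul_comm]
    rw [hc]
  · rw [hQ]
    intro hmem
    apply hjj
    refine row_unique hmem (i := i) ?_ ?_
    · change (g : Matrix (Fin p) (Fin p) F) i j ≠ 0
      rw [hg]; exact h1
    · change (g : Matrix (Fin p) (Fin p) F) i j' ≠ 0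
      rw [hg]; exact h2

theorem caseA (Q : Sylow p (GL (Fin p) F)) (hQ : (Q : Subgroup _) = W F p)
    {w : F} (hw : w ^ p = 1) (hw1 : w ≠ 1) {x : GL (Fin p) F} {n : ℕ} (hx : x ^ p ^ n = 1)
    {d : Fin p → F} (hxd : (x : Matrix (Fin p) (Fin p) F) = mm d 0) {i j : Fin p} (hij : i ≠ j)
    (hd : d i = d j) : ∃ P : Sylow p (GL (Fin p) F), P ≠ Q ∧ x ∈ P := by
  classical
  have hmm : mm d 0 = Matrix.diagonal d := by
    ext a b
    rw [mm_apply, Matrix.diagonal_apply, add_zero]
    by_cases h : a = b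
    · rw [if_pos h, if_pos h.symm]
    · rw [if_neg h, if_neg (fun h' => h h'.symm)]
  set e : Matrix (Fin p) (Fin p) F := Matrix.single i i 1 - Matrix.single i j 1 with he
  have hee : e * e = e := by
    rw [he, mul_sub, sub_mul, sub_mul]
    have z1 : (Matrix.single i j (1 : F) : Matrix (Fin p) (Fin p) F) * Matrix.single i i 1 = 0 := by
      simp [hij.symm]
    have z2 : (Matrix.single i j (1 : F) : Matrix (Fin p) (Fin p) F) * Matrix.single i j 1 = 0 := by
      simp [hij.symm]
    rw [Matrix.single_mul_single_same, Matrix.single_mul_single_same, z1, z2]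
    simp
  refine idem_case Q hQ hw hx e hee ?_ (i := i) (j := i) (j' := j) hij ?_ ?_
  · rw [hxd, hmm]
    ext a b
    rw [Matrix.mul_diagonal, Matrix.diagonal_mul, he, Matrix.sub_apply, Matrix.single_apply,
      Matrix.single_apply]
    by_cases h1 : i = a
    · subst h1
      by_cases h2 : i = b
      · subst h2
        rw [mul_comm]
      · by_cases h3 : j = b
        · subst h3
          simp [h2, hd]
        · simp [h2, h3]
    · simp [h1]
  · rw [he, Matrix.add_apply, Matrix.smul_apply, Matrix.sub_apply, Matrix.single_apply,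
      Matrix.single_apply, Matrix.one_apply]
    simp only [if_true, and_self, if_false, true_and]
    rw [if_neg (fun h => hij h.symm)]
    have : (1 : F) + (w - 1) • (1 - 0) = w := by simp
    rw [this]
    exact ne_zero_of_pow hw
  · rw [he, Matrix.add_apply, Matrix.smul_apply, Matrix.sub_apply, Matrix.single_apply,
      Matrix.single_apply, Matrix.one_apply]
    simp only [if_true, and_self, if_false, true_and]
    rw [if_neg hij]
    have : (0 : F) + (w - 1) • (0 - 1) = 1 - w := by simp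
    rw [this]
    exact sub_ne_zero.2 (Ne.symm hw1)

theorem caseC (hp2 : p ≠ 2) (hpF0 : (p : F) ≠ 0) (Q : Sylow p (GL (Fin p) F))
    (hQ : (Q : Subgroup _) = W F p)
    {w : F} (hw : w ^ p = 1) (hw1 : w ≠ 1) {x : GL (Fin p) F}
    {d : Fin p → F} (hd : ∀ i, d i ≠ 0) {k : Fin p} (hk : k ≠ 0)
    (hxd : (x : Matrix (Fin p) (Fin p) F) = mm d k)
    (hprod : ∏ i, d i = 1) : ∃ P : Sylow p (GL (Fin p) F), P ≠ Q ∧ x ∈ P := by
  classical
  have hp := hpF.out
  have hp3 : 3 ≤ p := by have := hp.two_le; omega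
  have hxp : mm d k ^ p = 1 := by rw [mm_pow_p d hk, hprod, one_smul]
  set S : Matrix (Fin p) (Fin p) F := ∑ m ∈ range p, mm d k ^ m with hS
  have hxS : mm d k * S = S := by
    have h1 : (mm d k - 1) * S = 0 := by rw [hS, mul_geom_sum, hxp, sub_self]
    rw [sub_mul, one_mul, sub_eq_zero] at h1
    exact h1
  have hSx : S * mm d k = S := by
    have h1 : S * (mm d k - 1) = 0 := by rw [hS, geom_sum_mul, hxp, sub_self]
    rw [mul_sub, mul_one, sub_eq_zero] at h1
    exact h1
  have hpowS : ∀ m : ℕ, mm d k ^ m * S = S := by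
    intro m
    induction m with
    | zero => rw [pow_zero, one_mul]
    | succ m ih => rw [pow_succ, mul_assoc, hxS, ih]
  have hSS : S * S = (p : F) • S := by
    conv_lhs => rw [show S * S = (∑ m ∈ range p, mm d k ^ m) * S from rfl]
    rw [Finset.sum_mul, Finset.sum_congr rfl fun m _ => hpowS m, Finset.sum_const, card_range]
    ext a b
    simp
  set e : Matrix (Fin p) (Fin p) F := ((p : F)⁻¹) • S with he
  have hee : e * e = e := by
    rw [he, smul_mul_smul_comm, hSS, smul_smul]
    congr 1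
    field_simp
  have hentry : ∀ m : ℕ, m < p → S 0 (m • k) = ∏ l ∈ range m, d (0 + l • k) := by
    intro m hm
    rw [hS, Matrix.sum_apply, Finset.sum_eq_single m]
    · rw [mm_pow, mm_apply, zero_add, if_pos rfl]
    · intro b hb hbm
      rw [mm_pow, mm_apply, if_neg]
      intro h
      rw [zero_add] at h
      exact hbm (nsmul_inj hk (Finset.mem_range.1 hb) hm h.symm)
    · intro h; exact absurd (Finset.mem_range.2 hm) h
  have hentry0 : ∀ m : ℕ, m < p → m ≠ 0 → (1 + (w - 1) • e) 0 (m • k) ≠ 0 := by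
    intro m hm hm0
    have h0 : (0 : Fin p) ≠ m • k := by
      intro h
      exact hm0 (nsmul_inj hk hm hp.pos (by rw [zero_smul, ← h]))
    rw [Matrix.add_apply, Matrix.one_apply, if_neg h0, Matrix.smul_apply, he, Matrix.smul_apply,
      hentry m hm, zero_add]
    refine smul_ne_zero (sub_ne_zero.2 hw1) (smul_ne_zero (inv_ne_zero hpF0) ?_)
    exact Finset.prod_ne_zero_iff.2 fun l _ => hd _
  refine idem_case Q hQ hw (n := 1) ?_ e hee ?_ (i := 0) (j := 1 • k) (j' := 2 • k) ?_
    (hentry0 1 (by omega) (by omega)) (hentry0 2 (by omega) (by omega))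
  · rw [pow_one]
    apply Units.ext
    rw [Units.val_pow_eq_pow_val]
    change (x : Matrix (Fin p) (Fin p) F) ^ p = 1
    rw [hxd, hxp]
  · rw [hxd, he, smul_mul_assoc, mul_smul_comm, hxS, hSx]
  · intro h
    have := nsmul_inj hk (by omega) (by omega) h
    omega

theorem mem_conj_sylow {G : Type*} [Group G] [Finite G] (Q : Sylow p G) (g x : G)
    (hx : g⁻¹ * x * g ∈ (Q : Subgroup G)) : x ∈ ((g • Q : Sylow p G) : Subgroup G) := by
  rw [Sylow.coe_subgroup_smul, Subgroup.mem_pointwise_smul_iff_inv_smul_mem]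
  rw [← map_inv, MulAut.smul_def, MulAut.conj_apply, inv_inv]
  exact hx

theorem of_mem_conj_sylow {G : Type*} [Group G] [Finite G] (Q : Sylow p G) (g x : G)
    (hx : x ∈ ((g • Q : Sylow p G) : Subgroup G)) : g⁻¹ * x * g ∈ (Q : Subgroup G) := by
  rw [Sylow.coe_subgroup_smul, Subgroup.mem_pointwise_smul_iff_inv_smul_mem] at hx
  rw [← map_inv, MulAut.smul_def, MulAut.conj_apply, inv_inv] at hx
  exact hx

theorem caseD (hp2 : p ≠ 2) (Q : Sylow p (GL (Fin p) F)) (hQ : (Q : Subgroup _) = W F p)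
    {w : F} (hw : w ^ p = 1) (hw1 : w ≠ 1) {x : GL (Fin p) F}
    {d : Fin p → F} (hd : ∀ i, d i ^ p = 1) {k : Fin p} (hk : k ≠ 0)
    (hxd : (x : Matrix (Fin p) (Fin p) F) = mm d k)
    (hprod : ∏ i, d i ≠ 1) : ∃ P : Sylow p (GL (Fin p) F), P ≠ Q ∧ x ∈ P := by
  classical
  have hp := hpF.out
  have hp3 : 3 ≤ p := by have := hp.two_le; omega
  have hd0 : ∀ i, d i ≠ 0 := fun i => ne_zero_of_pow (hd i)
  have hodd : Odd p := hp.odd_of_ne_two hp2
  set lam := ∏ i, d i with hlam
  have hlamp : lam ^ p = 1 := by rw [hlam, ← Finset.prod_pow]; simp [hd]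
  have hlam1 : 1 + lam ≠ 0 := by
    intro h
    have h1 : lam = -1 := by linear_combination h
    rw [h1, hodd.neg_one_pow] at hlamp
    exact hprod (by rw [h1, hlamp])
  have hxp : mm d k ^ p = lam • (1 : Matrix (Fin p) (Fin p) F) := mm_pow_p d hk
  set A : Matrix (Fin p) (Fin p) F := 1 + mm d k with hA
  have hAB : A * (∑ m ∈ range p, (-mm d k) ^ m) = (1 + lam) • 1 := by
    have h1 := mul_neg_geom_sum (-mm d k) p
    rw [sub_neg_eq_add, hodd.neg_pow, hxp, sub_neg_eq_add] at h1
    rw [hA, h1, add_smul, one_smul]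
  have hdet : A.det ≠ 0 := by
    intro h
    have h1 := congrArg Matrix.det hAB
    rw [Matrix.det_mul, h, zero_mul, Matrix.det_smul, Matrix.det_one, mul_one] at h1
    exact pow_ne_zero _ hlam1 h1.symm
  set g : GL (Fin p) F := Matrix.GeneralLinearGroup.mkOfDetNeZero A hdet with hg
  have hgA : (g : Matrix (Fin p) (Fin p) F) = A := rfl
  have hxQ : x ∈ (Q : Subgroup _) := by rw [hQ]; exact ⟨d, k, hd, hxd⟩
  have hgx : g * x = x * g := by
    apply Units.ext
    rw [Units.val_mul, Units.val_mul]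
    change (g : Matrix (Fin p) (Fin p) F) * (x : Matrix (Fin p) (Fin p) F) =
      (x : Matrix (Fin p) (Fin p) F) * (g : Matrix (Fin p) (Fin p) F)
    rw [hgA, hxd, hA, add_mul, mul_add, one_mul, mul_one]
  refine ⟨g • Q, ?_, ?_⟩
  · intro heq
    -- the element y
    set dy : Fin p → F := fun i => if i = 0 then w else 1 with hdy
    have hdyp : ∀ i, dy i ^ p = 1 := by
      intro i
      rw [hdy]
      by_cases h : i = 0
      · simp [h, hw]
      · simp [h]
    set y : GL (Fin p) F := Matrix.GeneralLinearGroup.mkOfDetNeZero (mm dy 0)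
      (mm_det_ne (fun i => ne_zero_of_pow (hdyp i)) 0) with hy
    have hyQ : y ∈ (Q : Subgroup _) := by rw [hQ]; exact ⟨dy, 0, hdyp, rfl⟩
    have hy' : g * y * g⁻¹ ∈ ((g • Q : Sylow p _) : Subgroup _) := by
      apply mem_conj_sylow
      have : g⁻¹ * (g * y * g⁻¹) * g = y := by group
      rw [this]; exact hyQ
    rw [heq, hQ] at hy'
    obtain ⟨d', k', hd', hy'⟩ := hy'
    have h1 : A * mm dy 0 = mm d' k' * A := by
      rw [← hy', ← hgA]
      change (g : Matrix (Fin p) (Fin p) F) * (y : Matrix (Fin p) (Fin p) F) = _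
      rw [← Matrix.GeneralLinearGroup.coe_mul, ← Matrix.GeneralLinearGroup.coe_mul]
      congr 1
      group
    have hL : ∀ i j, (A * mm dy 0) i j = A i j * dy j := by
      intro i j
      have hmm : mm dy 0 = Matrix.diagonal dy := by
        ext a b
        rw [mm_apply, Matrix.diagonal_apply, add_zero]
        by_cases h : a = b
        · rw [if_pos h, if_pos h.symm]
        · rw [if_neg h, if_neg (fun h' => h h'.symm)]
      rw [hmm, Matrix.mul_diagonal]
    have hR : ∀ i j, (mm d' k' * A) i j = d' i * A (i + k') j := by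
      intro i j
      rw [Matrix.mul_apply, Finset.sum_eq_single (i + k')]
      · rw [mm_apply, if_pos rfl]
      · intro l _ hl
        rw [mm_apply, if_neg hl, zero_mul]
      · intro h; exact absurd (Finset.mem_univ _) h
    have hE : ∀ i j, A i j * dy j = d' i * A (i + k') j := by
      intro i j
      rw [← hL, ← hR, h1]
    have hAij : ∀ i j, A i j = (if i = j then 1 else 0) + (if j = i + k then d i else 0) := by
      intro i j
      rw [hA, Matrix.add_apply, Matrix.one_apply, mm_apply]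
    have hne : ∀ i : Fin p, i ≠ i + k := by
      intro i h
      exact hk (left_eq_add.1 h)
    have hA1 : ∀ i, A i i = 1 := by
      intro i
      rw [hAij, if_pos rfl, if_neg (hne i), add_zero]
    have hA2 : ∀ i, A i (i + k) = d i := by
      intro i
      rw [hAij, if_neg (hne i), if_pos rfl, zero_add]
    have hdyn : ∀ i, dy i ≠ 0 := fun i => ne_zero_of_pow (hdyp i)
    have hk'0 : k' = 0 := by
      by_contra hk'
      have e1 := hE 0 0
      rw [hA1, one_mul, hAij, zero_add] at e1
      have e1' : (0 : Fin p) = k' + k := by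
        by_contra hc
        rw [if_neg hk', if_neg hc, add_zero, mul_zero] at e1
        exact hdyn _ e1
      have e2 := hE 0 (0 + k)
      rw [hA2, hAij, zero_add, zero_add] at e2
      have e2' : k' = k := by
        by_contra hc
        rw [if_neg hc, if_neg (by
          intro h
          exact hk' (by simpa using h.symm)), add_zero, mul_zero] at e2
        exact mul_ne_zero (hd0 0) (hdyn _) e2
      rw [e2'] at e1'
      have e3 : (2 : ℕ) • k = (0 : ℕ) • k := by
        rw [two_nsmul, zero_nsmul]; exact e1'.symm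
      have := nsmul_inj hk (by omega) (by omega) e3
      omega
    subst hk'0
    have e1 := hE 0 0
    rw [add_zero, hA1, one_mul, mul_one] at e1
    have e2 := hE 0 (0 + k)
    rw [add_zero, hA2] at e2
    have e3 : dy (0 + k) = d' 0 := by
      apply mul_left_cancel₀ (hd0 0)
      rw [e2, mul_comm]
    rw [← e1] at e3
    simp only [hdy, zero_add, if_neg hk, if_true] at e3
    exact hw1 e3.symm
  · apply mem_conj_sylow
    rw [mul_assoc, ← hgx, inv_mul_cancel_left]
    exact hxQ

theorem caseB (hp2 : p ≠ 2) (hpF0 : (p : F) ≠ 0) (Q : Sylow p (GL (Fin p) F))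
    (hQ : (Q : Subgroup _) = W F p)
    {w : F} (hw : w ^ p = 1) (hw1 : w ≠ 1) {x : GL (Fin p) F}
    {d : Fin p → F} (hd : ∀ i, d i ^ p = 1) (hxd : (x : Matrix (Fin p) (Fin p) F) = mm d 0)
    (hinj : Function.Injective d) : ∃ P : Sylow p (GL (Fin p) F), P ≠ Q ∧ x ∈ P := by
  classical
  have hp := hpF.out
  have hp3 : 3 ≤ p := by have := hp.two_le; omega
  have hmm : mm d 0 = Matrix.diagonal d := by
    ext a b
    rw [mm_apply, Matrix.diagonal_apply, add_zero]
    by_cases h : a = b
    · rw [if_pos h, if_pos h.symm]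
    · rw [if_neg h, if_neg (fun h' => h h'.symm)]
  have h10 : (1 : Fin p) ≠ 0 := by
    intro h
    have := congrArg Fin.val h
    rw [Fin.val_one', Fin.val_zero, Nat.mod_eq_of_lt hp.one_lt] at this
    omega
  set c : GL (Fin p) F := Matrix.GeneralLinearGroup.mkOfDetNeZero (mm (fun _ => (1 : F)) 1)
    (mm_det_ne (fun _ => one_ne_zero) 1) with hc
  have hcm : (c : Matrix (Fin p) (Fin p) F) = mm (fun _ => (1 : F)) 1 := rfl
  have hcQ : c ∈ (Q : Subgroup _) := by rw [hQ]; exact ⟨_, _, fun _ => one_pow _, hcm⟩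
  obtain ⟨P1, hP1, hcP1⟩ := caseC hp2 hpF0 Q hQ hw hw1 (fun _ => one_ne_zero) h10 hcm
    (by simp)
  have hV : (Matrix.vandermonde d)ᵀ.det ≠ 0 := by
    rw [Matrix.det_transpose]
    exact Matrix.det_vandermonde_ne_zero_iff.2 hinj
  set V : GL (Fin p) F := Matrix.GeneralLinearGroup.mkOfDetNeZero (Matrix.vandermonde d)ᵀ hV with hVd
  have hVm : (V : Matrix (Fin p) (Fin p) F) = (Matrix.vandermonde d)ᵀ := rfl
  have hcV : c * V = V * x := by
    apply Units.ext
    rw [Units.val_mul, Units.val_mul]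
    change (c : Matrix (Fin p) (Fin p) F) * (V : Matrix (Fin p) (Fin p) F) =
      (V : Matrix (Fin p) (Fin p) F) * (x : Matrix (Fin p) (Fin p) F)
    rw [hcm, hVm, hxd, hmm]
    ext i j
    rw [Matrix.mul_diagonal, Matrix.mul_apply, Finset.sum_eq_single (i + 1)]
    · rw [mm_apply, if_pos rfl, one_mul, Matrix.transpose_apply, Matrix.transpose_apply,
        Matrix.vandermonde_apply, Matrix.vandermonde_apply, ← pow_succ]
      rw [Fin.val_add, Fin.val_one', Nat.add_mod_mod]
      exact (pow_eq_pow_mod _ (hd j)).symm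
    · intro l _ hl
      rw [mm_apply, if_neg hl, zero_mul]
    · intro h; exact absurd (Finset.mem_univ _) h
  have hx : V * x * V⁻¹ = c := by rw [← hcV]; group
  have m1 : x ∈ ((V⁻¹ • P1 : Sylow p _) : Subgroup _) := by
    apply mem_conj_sylow
    rw [inv_inv, hx]; exact hcP1
  have m2 : x ∈ ((V⁻¹ • Q : Sylow p _) : Subgroup _) := by
    apply mem_conj_sylow
    rw [inv_inv, hx]; exact hcQ
  by_cases h : V⁻¹ • P1 = Q
  · refine ⟨V⁻¹ • Q, ?_, m2⟩
    intro h2
    apply hP1
    have h3 : V⁻¹ • P1 = V⁻¹ • Q := by rw [h, h2]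
    exact smul_left_cancel _ h3
  · exact ⟨V⁻¹ • P1, h, m1⟩

theorem main (hp : p ≠ 2) (h1 : p ∣ Fintype.card F - 1) (h2 : ¬ p ^ 2 ∣ Fintype.card F - 1) :
    ∃ Q : Sylow p (GL (Fin p) F), ∀ x : GL (Fin p) F,
      (∃ k : ℕ, orderOf x = p ^ k) → ∃ P : Sylow p (GL (Fin p) F), P ≠ Q ∧ x ∈ P := by
  classical
  have hpp := hpF.out
  obtain ⟨Q, hQ⟩ := exists_sylow (F := F) hp h1 h2
  obtain ⟨w, hw, hw1⟩ := exists_omega (F := F) h1
  have hpF0 : (p : F) ≠ 0 := by
    intro h
    have h3 : ringChar F ∣ p := ringChar.dvd h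
    have h4 : ringChar F ∣ Fintype.card F := by
      apply ringChar.dvd
      exact Nat.cast_card_eq_zero F
    have hne1 : ringChar F ≠ 1 := CharP.ringChar_ne_one
    rcases (Nat.dvd_prime hpp).1 h3 with h5 | h5
    · exact hne1 h5
    · rw [h5] at h4
      have hq1 : 1 < Fintype.card F := Fintype.one_lt_card
      have h6 : p ∣ Fintype.card F - (Fintype.card F - 1) := Nat.dvd_sub h4 h1
      have : Fintype.card F - (Fintype.card F - 1) = 1 := by omega
      rw [this] at h6
      exact hpp.one_lt.ne' (Nat.dvd_one.1 h6)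
  refine ⟨Q, fun x hx => ?_⟩
  obtain ⟨n, hn⟩ := hx
  have hxn : x ^ p ^ n = 1 := by rw [← hn, pow_orderOf_eq_one]
  by_cases hxQ : x ∈ (Q : Subgroup _)
  · rw [hQ] at hxQ
    obtain ⟨d, k, hd, hxd⟩ := hxQ
    by_cases hk : k = 0
    · subst hk
      by_cases hinj : Function.Injective d
      · exact caseB hp hpF0 Q hQ hw hw1 hd hxd hinj
      · rw [Function.Injective] at hinj
        push Not at hinj
        obtain ⟨i, j, hij, hne⟩ := hinj
        exact caseA Q hQ hw hw1 hxn hxd hne hij
    · by_cases hprod : ∏ i, d i = 1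
      · exact caseC hp hpF0 Q hQ hw hw1 (fun i => ne_zero_of_pow (hd i)) hk hxd hprod
      · exact caseD hp Q hQ hw hw1 hd hk hxd hprod
  · have hpg : IsPGroup p (Subgroup.zpowers x) :=
      IsPGroup.of_card (by rw [Nat.card_zpowers, hn])
    obtain ⟨P, hP⟩ := hpg.exists_le_sylow
    refine ⟨P, ?_, hP (Subgroup.mem_zpowers x)⟩
    rintro rfl
    exact hxQ (hP (Subgroup.mem_zpowers x))

end H75.GLp
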