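import Cfsg.Agent.Lib.H75.N2pGen

set_option autoImplicit false
set_option linter.all false

/-! The inequality `(F³,1) ≥ 5`. -/

namespace H75.N2pGen

open Cfsg H75.FixCount H18.CharBasic H18.CharOrtho H18.CharInd H18.CharQuot
open scoped ComplexConjugate

universe u

variable {G : Type u} [Group G] [Fintype G] {p : ℕ} [Fact p.Prime]

section dih

variable {P : Sylow p G} {t : G} (D : Dih P t)

include D

/-- a class function agreeing with `A` outside the elements of order `p`, where `A` is constant -/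
theorem Dih.sum_split [Fintype (P : Subgroup G)] (h A : G → ℂ) (hcl : IsClassFunction G h) (c : ℂ)
    (hA : ∀ g, orderOf g ≠ p → h g = A g) (hA0 : ∀ g, orderOf g = p → A g = c) :
    (2 * p : ℂ) * ∑ g, h g = (2 * p : ℂ) * ∑ g, A g +
      Nat.card G * (∑ y : (P : Subgroup G), h y - h 1 - c * (p - 1)) := by
  classical
  have h1 := D.sum_order h hcl
  have h2 := D.sum_order (fun _ => c) (isClassFunction_const c)
  have h3 : ∑ g, h g - ∑ g, A g = ∑ g ∈ Finset.univ.filter (fun g : G => orderOf g = p), h g -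
      ∑ g ∈ Finset.univ.filter (fun g : G => orderOf g = p), c := by
    rw [← Finset.sum_sub_distrib, ← Finset.sum_sub_distrib, Finset.sum_filter]
    refine Finset.sum_congr rfl fun g _ => ?_
    split_ifs with hg
    · rw [hA0 g hg]
    · rw [hA g hg, sub_self]
  have h4 : (Fintype.card (P : Subgroup G) : ℂ) = p := by
    rw [← Nat.card_eq_fintype_card]; exact_mod_cast D.hP
  rw [Finset.sum_const (b := c) (s := (Finset.univ : Finset (P : Subgroup G))), Finset.card_univ,
    nsmul_eq_mul, h4] at h2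
  linear_combination (2 * p : ℂ) * h3 + h1 - h2

omit [Fintype G] in
theorem Dih.exists_hom [Finite G] : ∃ μ : (P : Subgroup G) →* ℂˣ, ∀ k : ℕ, ¬ p ∣ k → μ ^ k ≠ 1 := by
  have hp : p.Prime := Fact.out
  haveI : IsCyclic (P : Subgroup G) := isCyclic_of_prime_card D.hP
  obtain ⟨x, hx⟩ : ∃ x : (P : Subgroup G), x ≠ 1 := by
    haveI : Nontrivial (P : Subgroup G) := by
      rw [← Finite.one_lt_card_iff_nontrivial]
      have : Nat.card (P : Subgroup G) = p := D.hP
      rw [this]; exact hp.one_lt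
    exact exists_ne 1
  have hc : x ∉ commutator (P : Subgroup G) := by
    intro h
    have h2 : commutator (P : Subgroup G) = ⊥ := by
      rw [commutator_eq_bot_iff_center_eq_top, eq_top_iff]
      intro y _
      rw [Subgroup.mem_center_iff]
      intro z
      exact (IsCyclic.commGroup (α := (P : Subgroup G))).mul_comm z y
    rw [h2, Subgroup.mem_bot] at h
    exact hx h
  obtain ⟨μ, hμ⟩ := exists_hom_ne_one hc
  refine ⟨μ, fun k hk h => ?_⟩
  have h1 : μ x ^ k = 1 := by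
    rw [← MonoidHom.pow_apply, h, MonoidHom.one_apply]
  have h2 : μ x ^ p = 1 := by
    have : x ^ p = 1 := by
      have h3 : x ^ Nat.card (P : Subgroup G) = 1 := pow_card_eq_one'
      have h4 : Nat.card (P : Subgroup G) = p := D.hP
      rwa [h4] at h3
    rw [← map_pow, this, map_one]
  have h3 : orderOf (μ x) ∣ Nat.gcd k p := Nat.dvd_gcd (orderOf_dvd_of_pow_eq_one h1) (orderOf_dvd_of_pow_eq_one h2)
  have h4 : Nat.gcd k p = 1 := (Nat.Coprime.symm ((Nat.Prime.coprime_iff_not_dvd hp).2 hk))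
  rw [h4, Nat.dvd_one, orderOf_eq_one_iff] at h3
  exact hμ h3

omit D in
theorem hom_sum [Fintype (P : Subgroup G)] (μ : (P : Subgroup G) →* ℂˣ) (k : ℕ) (hk : μ ^ k ≠ 1) :
    ∑ y : (P : Subgroup G), ((μ y : ℂˣ) : ℂ) ^ k = 0 ∧
      ∑ y : (P : Subgroup G), (conj ((μ y : ℂˣ) : ℂ)) ^ k = 0 := by
  have h1 : ∑ y : (P : Subgroup G), ((μ y : ℂˣ) : ℂ) ^ k = 0 := by
    have h := sum_hom_units_eq_zero ((Units.coeHom ℂ).comp (μ ^ k)) (by
      intro h
      apply hk
      ext y
      have := DFunLike.congr_fun h y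
      simpa using this)
    simpa using h
  refine ⟨h1, ?_⟩
  have h2 := congrArg (starRingEnd ℂ) h1
  rw [map_sum, map_zero] at h2
  rw [← h2]
  exact Finset.sum_congr rfl fun y _ => (map_pow _ _ _).symm

/-- the exceptional characters -/
noncomputable def exc (P : Sylow p G) (n : G → ℤ) (μ : (P : Subgroup G) →* ℂˣ) (k : ℕ) : G → ℂ :=
  indFun (P : Subgroup G) (fun y => 1 - ((μ y : ℂˣ) : ℂ) ^ k) + (fun g => (n g : ℂ) - 2)

omit D in
theorem exc_gen (n : G → ℤ) (hF : IsGeneralizedCharacter G (fun g => (n g : ℂ)))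
    (μ : (P : Subgroup G) →* ℂˣ) (k : ℕ) : IsGeneralizedCharacter G (exc P n μ k) := by
  apply isGen_add
  · apply isGen_ind
    have h1 : IsGeneralizedCharacter (P : Subgroup G) (fun y => ((μ y : ℂˣ) : ℂ) ^ k) := by
      have h2 := isGen_of_isIrr (isIrrCharacter_of_hom (μ ^ k))
      simpa using h2
    exact isGen_sub isGen_one h1
  · have h3 : IsGeneralizedCharacter G (fun _ => (2 : ℂ)) := by
      have := isGen_zsmul (G := G) 2 isGen_one
      convert this using 1
      ext g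
      simp
    exact isGen_sub hF h3

theorem Dih.exc_reg (n : G → ℤ) (μ : (P : Subgroup G) →* ℂˣ) (k : ℕ) {g : G} (hg : orderOf g ≠ p) :
    exc P n μ k g = (n g : ℂ) - 2 := by
  show indFun (P : Subgroup G) _ g + ((n g : ℂ) - 2) = _
  rw [D.ind_reg _ (by simp) hg, zero_add]

theorem Dih.exc_mem (n : G → ℤ) (h0 : ∀ g, orderOf g = p → n g = 0) (μ : (P : Subgroup G) →* ℂˣ) (k : ℕ)
    {y : G} (hy : y ∈ P) (hy1 : y ≠ 1) :
    exc P n μ k y = - (((μ ⟨y, hy⟩ : ℂˣ) : ℂ) ^ k + (conj ((μ ⟨y, hy⟩ : ℂˣ) : ℂ)) ^ k) := by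
  show indFun (P : Subgroup G) _ y + ((n y : ℂ) - 2) = _
  rw [D.ind_mem _ hy hy1, h0 y (orderOf_mem P D.hP P hy hy1)]
  have h1 : μ ⟨y⁻¹, inv_mem hy⟩ = μ (⟨y, hy⟩ : (P : Subgroup G))⁻¹ := rfl
  rw [h1, hom_inv_eq_conj]
  push_cast
  ring

omit [Fintype G] in
theorem Dih.one_order [Finite G] : orderOf (1 : G) ≠ p := by
  rw [orderOf_one]; exact (Fact.out : p.Prime).one_lt.ne

theorem Dih.exc_norm (n : G → ℤ) (h0 : ∀ g, orderOf g = p → n g = 0)
    (hF : IsGeneralizedCharacter G (fun g => (n g : ℂ)))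
    (s1 : ∑ g, n g = Nat.card G) (s2 : ∑ g, n g ^ 2 = 2 * Nat.card G) (μ : (P : Subgroup G) →* ℂˣ) (k : ℕ)
    (hk : μ ^ (2 * k) ≠ 1) : classInner (exc P n μ k) (exc P n μ k) = 1 := by
  classical
  have := Fintype.ofFinite (P : Subgroup G)
  have hp0 : (p : ℂ) ≠ 0 := by exact_mod_cast (Fact.out : p.Prime).ne_zero
  have hG0 : (Nat.card G : ℂ) ≠ 0 := card_ne_zero'
  have hcl := isClassFunction_of_isGen (exc_gen n hF μ k)
  have h1 := D.sum_split (fun g => exc P n μ k g * conj (exc P n μ k g)) (fun g => ((n g : ℂ) - 2) ^ 2)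
    (isClassFunction_mul hcl (isClassFunction_conj hcl)) 4
    (fun g hg => by
      rw [D.exc_reg n μ k hg]
      simp only [map_sub, Complex.conj_ofNat, map_intCast]
      ring)
    (fun g hg => by
      rw [h0 g hg]; push_cast; norm_num)
  have h2 : ∑ y : (P : Subgroup G), (exc P n μ k y * conj (exc P n μ k y)) - exc P n μ k 1 * conj (exc P n μ k 1) =
      2 * p - 4 := by
    have h3 : ∀ y : (P : Subgroup G), exc P n μ k y * conj (exc P n μ k y) =
        (((μ y : ℂˣ) : ℂ) ^ (2 * k) + (conj ((μ y : ℂˣ) : ℂ)) ^ (2 * k) + 2) +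
          (if y = 1 then (exc P n μ k 1 * conj (exc P n μ k 1) - 4) else 0) := by
      intro y
      by_cases hy : y = 1
      · subst hy
        rw [if_pos rfl]
        simp only [map_one, Units.val_one, one_pow, Subgroup.coe_one]
        ring
      · rw [if_neg hy, add_zero]
        have h4 : (y : G) ≠ 1 := fun h => hy (Subtype.ext h)
        have h5 := D.exc_mem n h0 μ k y.2 h4
        rw [Subtype.coe_eta] at h5
        rw [h5]
        have h6 : ((μ y : ℂˣ) : ℂ) * conj ((μ y : ℂˣ) : ℂ) = 1 := by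
          rw [← hom_inv_eq_conj, ← Units.val_mul, ← map_mul, mul_inv_cancel, map_one, Units.val_one]
        have h7 : ((μ y : ℂˣ) : ℂ) ^ k * (conj ((μ y : ℂˣ) : ℂ)) ^ k = 1 := by
          rw [← mul_pow, h6, one_pow]
        simp only [map_neg, map_add, map_pow, Complex.conj_conj]
        rw [mul_comm 2 k, pow_mul, pow_mul]
        linear_combination 2 * h7
    rw [Finset.sum_congr rfl fun y _ => h3 y, Finset.sum_add_distrib, Finset.sum_add_distrib,
      Finset.sum_add_distrib, (hom_sum μ (2 * k) hk).1, (hom_sum μ (2 * k) hk).2, Finset.sum_const,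
      Finset.card_univ, nsmul_eq_mul]
    have h4 : (Fintype.card (P : Subgroup G) : ℂ) = p := by
      rw [← Nat.card_eq_fintype_card]; exact_mod_cast D.hP
    simp only [Finset.sum_ite_eq', Finset.mem_univ, if_true]
    rw [h4]; ring
  have h8 : ∑ g : G, ((n g : ℂ) - 2) ^ 2 = 2 * (Nat.card G : ℂ) := by
    have h9 : ∀ g : G, ((n g : ℂ) - 2) ^ 2 = ((n g ^ 2 : ℤ) : ℂ) - 4 * ((n g : ℤ) : ℂ) + 4 := by
      intro g; push_cast; ring
    rw [Finset.sum_congr rfl fun g _ => h9 g, Finset.sum_add_distrib, Finset.sum_sub_distrib,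
      ← Finset.mul_sum, ← Int.cast_sum, ← Int.cast_sum, s1, s2, Finset.sum_const, Finset.card_univ,
      nsmul_eq_mul, ← Nat.card_eq_fintype_card]
    push_cast; ring
  rw [h2, h8] at h1
  show (Nat.card G : ℂ)⁻¹ * ∑ g, exc P n μ k g * conj (exc P n μ k g) = 1
  have h10 : ∑ g, exc P n μ k g * conj (exc P n μ k g) = Nat.card G := by
    have h11 : (2 * (p : ℂ)) ≠ 0 := mul_ne_zero two_ne_zero hp0
    apply mul_left_cancel₀ h11
    rw [h1]; ring
  rw [h10, inv_mul_cancel₀ hG0]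

/-- the positivity inequality -/
theorem Dih.cube_ge (n : G → ℤ) (h0 : ∀ g, orderOf g = p → n g = 0)
    (hF : IsGeneralizedCharacter G (fun g => (n g : ℂ))) (h1 : 2 < n 1)
    (s1 : ∑ g, n g = Nat.card G) (s2 : ∑ g, n g ^ 2 = 2 * Nat.card G) :
    5 * (Nat.card G : ℤ) ≤ ∑ g, n g ^ 3 := by
  classical
  have hp : p.Prime := Fact.out
  have := Fintype.ofFinite (P : Subgroup G)
  have hp0 : (p : ℂ) ≠ 0 := by exact_mod_cast (Fact.out : p.Prime).ne_zero
  have hG0 : (Nat.card G : ℂ) ≠ 0 := card_ne_zero'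
  obtain ⟨μ, hμ⟩ := D.exists_hom
  have hnd : ∀ k : ℕ, k = 2 ∨ k = 4 ∨ k = 6 → ¬ p ∣ k := by
    intro k hk hd
    have h3 := D.hp
    have hp2 : ¬ p ∣ 2 := fun h => by have := Nat.le_of_dvd (by norm_num) h; omega
    have hp3 : ¬ p ∣ 3 := fun h => by have := Nat.le_of_dvd (by norm_num) h; omega
    rcases hk with rfl | rfl | rfl
    · exact hp2 hd
    · have : p ∣ 2 * 2 := hd
      rcases (Nat.Prime.dvd_mul hp).1 this with h | h <;> exact hp2 h
    · have : p ∣ 2 * 3 := hd
      rcases (Nat.Prime.dvd_mul hp).1 this with h | h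
      · exact hp2 h
      · exact hp3 h
  have hirr : ∀ k : ℕ, k = 1 ∨ k = 2 ∨ k = 3 → IsIrrCharacter G (exc P n μ k) := by
    intro k hk
    apply isIrr_of_gen_norm_one (exc_gen n hF μ k)
    · apply D.exc_norm n h0 hF s1 s2 μ k
      apply hμ
      apply hnd
      omega
    · rw [D.exc_reg n μ k D.one_order]
      simp only [Complex.sub_re, Complex.intCast_re, Complex.re_ofNat]
      have : (2 : ℝ) < n 1 := by exact_mod_cast h1
      linarith
  obtain ⟨N, hN⟩ := inner_char_natCast (isCharacter_mul (isCharacter_of_isIrr (hirr 1 (by norm_num)))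
    (isCharacter_of_isIrr (hirr 2 (by norm_num)))) (isCharacter_of_isIrr (hirr 3 (by norm_num)))
  have hc1 := isClassFunction_of_isGen (exc_gen n hF μ 1)
  have hc2 := isClassFunction_of_isGen (exc_gen n hF μ 2)
  have hc3 := isClassFunction_of_isGen (exc_gen n hF μ 3)
  have h2 := D.sum_split (fun g => (exc P n μ 1 g * exc P n μ 2 g) * conj (exc P n μ 3 g))
    (fun g => ((n g : ℂ) - 2) ^ 3)
    (isClassFunction_mul (isClassFunction_mul hc1 hc2) (isClassFunction_conj hc3)) (-8)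
    (fun g hg => by
      rw [D.exc_reg n μ 1 hg, D.exc_reg n μ 2 hg, D.exc_reg n μ 3 hg]
      simp only [map_sub, Complex.conj_ofNat, map_intCast]
      ring)
    (fun g hg => by
      rw [h0 g hg]; push_cast; norm_num)
  have h3 : ∑ y : (P : Subgroup G), ((exc P n μ 1 y * exc P n μ 2 y) * conj (exc P n μ 3 y)) -
      (exc P n μ 1 1 * exc P n μ 2 1) * conj (exc P n μ 3 1) = - (2 * p - 8) := by
    have h3 : ∀ y : (P : Subgroup G), (exc P n μ 1 y * exc P n μ 2 y) * conj (exc P n μ 3 y) =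
        -((((μ y : ℂˣ) : ℂ) ^ 2 + (conj ((μ y : ℂˣ) : ℂ)) ^ 2) +
          (((μ y : ℂˣ) : ℂ) ^ 4 + (conj ((μ y : ℂˣ) : ℂ)) ^ 4) +
          (((μ y : ℂˣ) : ℂ) ^ 6 + (conj ((μ y : ℂˣ) : ℂ)) ^ 6) + 2) +
          (if y = 1 then ((exc P n μ 1 1 * exc P n μ 2 1) * conj (exc P n μ 3 1) + 8) else 0) := by
      intro y
      by_cases hy : y = 1
      · subst hy
        rw [if_pos rfl]
        simp only [map_one, Units.val_one, one_pow, Subgroup.coe_one]
        ring
      · rw [if_neg hy, add_zero]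
        have h4 : (y : G) ≠ 1 := fun h => hy (Subtype.ext h)
        have h5 := D.exc_mem n h0 μ 1 y.2 h4
        have h5' := D.exc_mem n h0 μ 2 y.2 h4
        have h5'' := D.exc_mem n h0 μ 3 y.2 h4
        rw [Subtype.coe_eta] at h5 h5' h5''
        rw [h5, h5', h5'']
        have h6 : ((μ y : ℂˣ) : ℂ) * conj ((μ y : ℂˣ) : ℂ) = 1 := by
          rw [← hom_inv_eq_conj, ← Units.val_mul, ← map_mul, mul_inv_cancel, map_one, Units.val_one]
        simp only [map_neg, map_add, map_pow, Complex.conj_conj]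
        set z := ((μ y : ℂˣ) : ℂ)
        set w := conj z
        have e2 : z ^ 2 * w ^ 2 = 1 := by rw [← mul_pow, h6, one_pow]
        have e3 : z ^ 3 * w ^ 3 = 1 := by rw [← mul_pow, h6, one_pow]
        linear_combination (-(z ^ 4 + w ^ 4)) * h6 + (-(z ^ 2 + w ^ 2)) * e2 - 2 * e3
    rw [Finset.sum_congr rfl fun y _ => h3 y, Finset.sum_add_distrib, Finset.sum_neg_distrib,
      Finset.sum_add_distrib, Finset.sum_add_distrib, Finset.sum_add_distrib, Finset.sum_add_distrib,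
      Finset.sum_add_distrib, Finset.sum_add_distrib,
      (hom_sum μ 2 (hμ 2 (hnd 2 (by norm_num)))).1, (hom_sum μ 2 (hμ 2 (hnd 2 (by norm_num)))).2,
      (hom_sum μ 4 (hμ 4 (hnd 4 (by norm_num)))).1, (hom_sum μ 4 (hμ 4 (hnd 4 (by norm_num)))).2,
      (hom_sum μ 6 (hμ 6 (hnd 6 (by norm_num)))).1, (hom_sum μ 6 (hμ 6 (hnd 6 (by norm_num)))).2,
      Finset.sum_const, Finset.card_univ, nsmul_eq_mul]
    have h4 : (Fintype.card (P : Subgroup G) : ℂ) = p := by
      rw [← Nat.card_eq_fintype_card]; exact_mod_cast D.hP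
    simp only [Finset.sum_ite_eq', Finset.mem_univ, if_true]
    rw [h4]; ring
  have h8 : ∑ g : G, ((n g : ℂ) - 2) ^ 3 = ((∑ g, n g ^ 3 : ℤ) : ℂ) - 8 * Nat.card G := by
    have h9 : ∀ g : G, ((n g : ℂ) - 2) ^ 3 = ((n g ^ 3 : ℤ) : ℂ) - 6 * ((n g ^ 2 : ℤ) : ℂ) +
        12 * ((n g : ℤ) : ℂ) - 8 := by
      intro g; push_cast; ring
    rw [Finset.sum_congr rfl fun g _ => h9 g, Finset.sum_sub_distrib, Finset.sum_add_distrib,
      Finset.sum_sub_distrib, ← Finset.mul_sum, ← Finset.mul_sum, ← Int.cast_sum, ← Int.cast_sum,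
      ← Int.cast_sum, s1, s2, Finset.sum_const, Finset.card_univ,
      nsmul_eq_mul, ← Nat.card_eq_fintype_card]
    push_cast; ring
  rw [h3, h8] at h2
  have h10 : ∑ g, (exc P n μ 1 g * exc P n μ 2 g) * conj (exc P n μ 3 g) = N * Nat.card G := by
    have h11 : (Nat.card G : ℂ)⁻¹ * ∑ g, (exc P n μ 1 g * exc P n μ 2 g) * conj (exc P n μ 3 g) = N := hN
    rw [← h11]
    field_simp
  rw [h10] at h2
  have h12 : (2 * p : ℂ) * ((N * Nat.card G : ℂ) + 5 * Nat.card G - ((∑ g, n g ^ 3 : ℤ) : ℂ)) = 0 := by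
    linear_combination h2
  have h13 := (mul_eq_zero.1 h12).resolve_left (mul_ne_zero two_ne_zero hp0)
  have h14 : (N * Nat.card G + 5 * Nat.card G : ℤ) = ∑ g, n g ^ 3 := by
    have : ((N * Nat.card G + 5 * Nat.card G : ℤ) : ℂ) = ((∑ g, n g ^ 3 : ℤ) : ℂ) := by
      push_cast
      push_cast at h13
      linear_combination h13
    exact_mod_cast this
  rw [← h14]
  have h15 : (0 : ℤ) ≤ N * Nat.card G := by positivity
  linarith
end dih

end H75.N2pGen
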