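import Cfsg.Agent.Lib.H18.CharBasic

set_option autoImplicit false
set_option linter.all false

/-! An idempotent matrix commuting with a permutation representation affords a character. -/

namespace H75.ProjChar

open Cfsg Matrix

universe u v

variable {G : Type u} [Group G] {α : Type v} [Fintype α] [DecidableEq α] [MulAction G α]

/-- the permutation representation on functions -/
def perm (G : Type u) [Group G] (α : Type v) [MulAction G α] : Representation ℂ G (α → ℂ) where
  toFun g :=
    { toFun := fun f u => f (g⁻¹ • u)
      map_add' := fun _ _ => rfl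
      map_smul' := fun _ _ => rfl }
  map_one' := by
    ext f u
    simp
  map_mul' g h := by
    ext f u
    simp [mul_smul]

theorem perm_apply (g : G) (f : α → ℂ) (u : α) : perm G α g f u = f (g⁻¹ • u) := rfl

variable (E : Matrix α α ℂ)

theorem comm (hinv : ∀ (g : G) u v, E (g • u) (g • v) = E u v) (g : G) (f : α → ℂ) :
    E.mulVec (perm G α g f) = perm G α g (E.mulVec f) := by
  ext u
  rw [perm_apply, Matrix.mulVec, Matrix.mulVec, dotProduct, dotProduct,
    ← Equiv.sum_comp (MulAction.toPerm g)]
  refine Finset.sum_congr rfl fun w _ => ?_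
  rw [MulAction.toPerm_apply, perm_apply, inv_smul_smul]
  congr 1
  have := hinv g (g⁻¹ • u) w
  rw [smul_inv_smul] at this
  exact this

/-- the representation on the range -/
noncomputable def rep (hinv : ∀ (g : G) u v, E (g • u) (g • v) = E u v) :
    Representation ℂ G (LinearMap.range (Matrix.toLin' E)) where
  toFun g := (perm G α g).restrict (p := LinearMap.range (Matrix.toLin' E)) (q := LinearMap.range (Matrix.toLin' E)) (by
    rintro _ ⟨f, rfl⟩
    refine ⟨perm G α g f, ?_⟩
    rw [Matrix.toLin'_apply, Matrix.toLin'_apply, comm E hinv])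
  map_one' := by
    ext x u
    simp [LinearMap.restrict_apply, perm_apply]
  map_mul' g h := by
    ext x u
    simp [LinearMap.restrict_apply, perm_apply, mul_smul]

theorem rep_character (hE : E * E = E) (hinv : ∀ (g : G) u v, E (g • u) (g • v) = E u v) (g : G) :
    (rep E hinv).character g = ∑ u, E u (g • u) := by
  have hmem : ∀ x, ((perm G α g) ∘ₗ (Matrix.toLin' E)) x ∈ LinearMap.range (Matrix.toLin' E) := by
    intro x
    refine ⟨perm G α g x, ?_⟩
    rw [Matrix.toLin'_apply, comm E hinv, LinearMap.comp_apply, Matrix.toLin'_apply]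
  have h1 := LinearMap.trace_restrict_eq_of_forall_mem (LinearMap.range (Matrix.toLin' E))
    ((perm G α g) ∘ₗ (Matrix.toLin' E)) hmem
  have h2 : ((perm G α g) ∘ₗ (Matrix.toLin' E)).restrict (fun x _ => hmem x) = rep E hinv g := by
    apply LinearMap.ext
    rintro ⟨_, f, rfl⟩
    apply Subtype.ext
    show perm G α g (Matrix.toLin' E (Matrix.toLin' E f)) = perm G α g (Matrix.toLin' E f)
    rw [← Matrix.toLin'_mul_apply, hE]
  rw [h2] at h1
  show LinearMap.trace ℂ _ (rep E hinv g) = _
  rw [h1]
  have h3 : (perm G α g) ∘ₗ (Matrix.toLin' E) = Matrix.toLin' (Matrix.of fun u v => E (g⁻¹ • u) v) := by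
    apply LinearMap.ext
    intro f
    ext u
    rw [LinearMap.comp_apply, perm_apply, Matrix.toLin'_apply, Matrix.toLin'_apply, Matrix.mulVec, Matrix.mulVec]
    rfl
  rw [h3, Matrix.trace_toLin'_eq, Matrix.trace]
  refine Finset.sum_congr rfl fun u _ => ?_
  rw [Matrix.diag_apply, Matrix.of_apply]
  have := hinv g (g⁻¹ • u) u
  rw [smul_inv_smul] at this
  exact this.symm

theorem isCharacter (hE : E * E = E) (hinv : ∀ (g : G) u v, E (g • u) (g • v) = E u v) :
    IsCharacter G (fun g => ∑ u, E u (g • u)) := by
  have h := H18.CharBasic.isCharacter_of_rep (rep E hinv)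
  have h2 : (rep E hinv).character = fun g => ∑ u, E u (g • u) := funext fun g => rep_character E hE hinv g
  rwa [h2] at h

end H75.ProjChar
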