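import Cfsg.Agent.Lib.H75.N2pOrder
import Cfsg.Agent.Lib.H75.ProjChar
import Cfsg.Agent.Lib.H75.D2pFrame

set_option autoImplicit false
set_option linter.all false

/-! Primitive groups of degree `2p` with a Sylow `p`-normalizer of order `2p`: the character of
degree `p`. -/

namespace H75.N2pDeg

open Cfsg H75.FixCount H18.CharBasic H18.CharOrtho H18.CharInd H18.CharQuot H75.D2p Matrix
open scoped ComplexConjugate

section general

variable {α : Type*} [Fintype α] [DecidableEq α] {p : ℕ} [hp : Fact p.Prime]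
variable {G : Subgroup (Equiv.Perm α)}

/-- nontrivial normal subgroups of primitive groups are transitive -/
theorem transitive_of_normal (hG : MulAction.IsPreprimitive G α) (N : Subgroup G) (hN : N.Normal) (hN1 : N ≠ ⊥) :
    MulAction.IsPretransitive N α := by
  haveI := hG
  apply MulAction.IsQuasiPreprimitive.isPretransitive_of_normal (G := G)
  intro h
  apply hN1
  rw [eq_bot_iff]
  intro g hg
  rw [Subgroup.mem_bot]
  apply Subtype.ext
  apply Equiv.ext
  intro x
  have h1 : x ∈ MulAction.fixedPoints N α := by rw [h]; trivial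
  exact h1 ⟨g, hg⟩

theorem card_dvd_of_normal (hG : MulAction.IsPreprimitive G α) (N : Subgroup G) (hN : N.Normal) (hN1 : N ≠ ⊥) :
    Fintype.card α ∣ Nat.card N := by
  by_cases he : IsEmpty α
  · exfalso
    apply hN1
    rw [eq_bot_iff]
    intro g _
    rw [Subgroup.mem_bot]
    apply Subtype.ext
    exact Subsingleton.elim _ _
  · rw [not_isEmpty_iff] at he
    obtain ⟨a⟩ := he
    haveI := transitive_of_normal hG N hN hN1
    have h5 := MulAction.index_stabilizer_of_transitive N a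
    rw [Nat.card_eq_fintype_card] at h5
    exact (dvd_of_eq h5.symm).trans (Subgroup.index_dvd_card _)

/-- sums over a transitive group -/
theorem sum_trans [Fintype G] (htr : ∀ u v : α, ∃ g ∈ G, g u = v) (f : α → ℚ) (u : α) :
    (Fintype.card α : ℚ) * ∑ g : G, f (g.1 u) = Fintype.card G * ∑ v, f v := by
  have h1 : ∀ v : α, ∑ g : G, f (g.1 v) = ∑ g : G, f (g.1 u) := by
    intro v
    obtain ⟨k, hk, rfl⟩ := htr u v
    rw [← Equiv.sum_comp (Equiv.mulRight (⟨k, hk⟩ : G)) (fun g : G => f (g.1 u))]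
    rfl
  have h2 : ∑ v : α, ∑ g : G, f (g.1 v) = (Fintype.card α : ℚ) * ∑ g : G, f (g.1 u) := by
    rw [Finset.sum_congr rfl fun v _ => h1 v, Finset.sum_const, Finset.card_univ, nsmul_eq_mul]
  rw [← h2, Finset.sum_comm]
  have h3 : ∀ g : G, ∑ v : α, f (g.1 v) = ∑ v, f v := fun g => Equiv.sum_comp g.1 f
  rw [Finset.sum_congr rfl fun g _ => h3 g, Finset.sum_const, Finset.card_univ, nsmul_eq_mul]

end general

variable {α : Type*} [Fintype α] [DecidableEq α] {p : ℕ} [hp : Fact p.Prime]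
variable {G : Subgroup (Equiv.Perm α)} (F : Frame G p)

/-- the extra information from the proof of the dichotomy -/
theorem dichotomy' (hG : MulAction.IsPreprimitive G α) (hn : ¬ MulAction.IsMultiplyPretransitive G α 2) :
    kap F = 2 ∧ (∀ t, t ≠ 0 → cf F (T F) t = 0) := by
  obtain ⟨χ, hχ⟩ := H75.D2pFour.exists_char (p := p)
  obtain ⟨m, hm, h1, h2, h3⟩ := cases_m F χ hχ
  rcases hm with rfl | rfl | rfl
  · exact absurd (no_zero F hG h1 h3) id
  · have hp0 : (p : ℚ) ≠ 0 := by exact_mod_cast hp.out.ne_zero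
    have hκ : kap F = 2 := by
      have : kap F * p = 2 * p := by linarith
      exact mul_right_cancel₀ hp0 this
    refine ⟨hκ, ?_⟩
    simp only [hκ] at h3
    intro t ht
    rw [h3 t ht]; norm_num
  · exact absurd (two_transitive F h1) hn

/-- the idempotent -/
noncomputable def EQ (F : Frame G p) : Matrix α α ℚ := 1 - (1 / 2 : ℚ) • T F

/-- the complementary idempotent -/
noncomputable def EQ' (F : Frame G p) : Matrix α α ℚ := (1 / 2 : ℚ) • T F

theorem EQ_sq (hκ : kap F = 2) : EQ F * EQ F = EQ F := by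
  have h1 := T_sq F
  rw [hκ] at h1
  rw [EQ, Matrix.sub_mul, Matrix.mul_sub, Matrix.mul_sub, Matrix.one_mul, Matrix.mul_one, Matrix.one_mul,
    Matrix.smul_mul, Matrix.mul_smul, h1, smul_smul, smul_smul]
  norm_num

theorem EQ'_sq (hκ : kap F = 2) : EQ' F * EQ' F = EQ' F := by
  have h1 := T_sq F
  rw [hκ] at h1
  rw [EQ', Matrix.smul_mul, Matrix.mul_smul, h1, smul_smul, smul_smul]
  norm_num

theorem EQ_inv : Inv G (EQ F) := Inv.sub (Inv.one) (Inv.smul (inv_T F) _)

theorem EQ'_inv : Inv G (EQ' F) := Inv.smul (inv_T F) _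

/-- the character afforded by an invariant rational idempotent -/
noncomputable def ch (M : Matrix α α ℚ) (g : G) : ℚ := ∑ u, M u (g.1 u)

theorem ch_isCharacter {M : Matrix α α ℚ} (hM : Inv G M) (h : M * M = M) :
    IsCharacter G (fun g => ((ch M g : ℚ) : ℂ)) := by
  have h1 := H75.ProjChar.isCharacter (G := G) (M.map (algebraMap ℚ ℂ)) (by
    rw [← Matrix.map_mul, h]) (fun g u v => by
      rw [Matrix.map_apply, Matrix.map_apply]
      congr 1
      exact hM g.1 g.2 u v)
  have h2 : (fun g : G => ∑ u, (M.map (algebraMap ℚ ℂ)) u (g • u)) = fun g => ((ch M g : ℚ) : ℂ) := by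
    funext g
    rw [ch]
    push_cast
    rfl
  rwa [h2] at h1

theorem ch_int [Finite G] {M : Matrix α α ℚ} (hM : Inv G M) (h : M * M = M) (g : G) :
    ∃ n : ℤ, ch M g = n := by
  have h1 := char_isIntegral (ch_isCharacter hM h) g
  have h2 : IsIntegral ℤ (ch M g) := by
    have h3 : IsIntegral ℤ (algebraMap ℚ ℂ (ch M g)) := h1
    rwa [isIntegral_algebraMap_iff (algebraMap ℚ ℂ).injective] at h3
  obtain ⟨n, hn⟩ := IsIntegrallyClosed.isIntegral_iff.1 h2
  exact ⟨n, hn.symm⟩

omit hp in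
theorem sum_ch [Fintype G] (htr : ∀ u v : α, ∃ g ∈ G, g u = v) (M : Matrix α α ℚ) (c : ℚ) (hc : ∀ u, ∑ v, M u v = c)
    (hα : (Fintype.card α : ℚ) ≠ 0) :
    ∑ g : G, ch M g = Fintype.card G * c := by
  simp only [ch]
  rw [Finset.sum_comm]
  have h1 : ∀ u, ∑ g : G, M u (g.1 u) = Fintype.card G * c / Fintype.card α := by
    intro u
    rw [eq_div_iff hα, mul_comm, sum_trans htr (fun v => M u v) u, hc]
  rw [Finset.sum_congr rfl fun u _ => h1 u, Finset.sum_const, Finset.card_univ, nsmul_eq_mul]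
  field_simp

theorem EQ_one (hα : Fintype.card α = 2 * p) : ch (EQ F) (1 : G) = p := by
  have h1 : ∀ u : α, EQ F u ((1 : G).1 u) = 1 / 2 := by
    intro u
    show EQ F u u = _
    rw [EQ, Matrix.sub_apply, Matrix.smul_apply, T_self, Matrix.one_apply_eq]
    norm_num
  rw [ch, Finset.sum_congr rfl fun u _ => h1 u, Finset.sum_const, Finset.card_univ, hα, nsmul_eq_mul]
  push_cast
  ring

theorem EQ'_one (hα : Fintype.card α = 2 * p) : ch (EQ' F) (1 : G) = p := by
  have h1 : ∀ u : α, EQ' F u ((1 : G).1 u) = 1 / 2 := by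
    intro u
    show EQ' F u u = _
    rw [EQ', Matrix.smul_apply, T_self]
    norm_num
  rw [ch, Finset.sum_congr rfl fun u _ => h1 u, Finset.sum_const, Finset.card_univ, hα, nsmul_eq_mul]
  push_cast
  ring

theorem EQ_pow (hcf : ∀ t, t ≠ 0 → cf F (T F) t = 0) (k : ℕ) (hk : (k : ZMod p) ≠ 0) :
    ch (EQ F) (⟨F.x, F.hx⟩ ^ k : G) = 0 := by
  haveI : NeZero p := ⟨hp.out.ne_zero⟩
  have h0 : ((⟨F.x, F.hx⟩ ^ k : G) : Equiv.Perm α) = F.x ^ k := by rw [Subgroup.coe_pow]
  rw [ch, h0, sum_frame F]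
  have hne : ∀ (j : Fin 2) (i : ZMod p), F.e (j, i) ≠ F.e (j, i + k) := by
    intro j i h
    have := F.e.injective h
    simp only [Prod.mk.injEq, true_and] at this
    exact hk (left_eq_add.1 this)
  have h1 : ∀ (j : Fin 2) (i : ZMod p), EQ F (F.e (j, i)) ((F.x ^ k) (F.e (j, i))) =
      -(1 / 2) * T F (F.e (j, 0)) (F.e (j, k)) := by
    intro j i
    rw [pow_apply, EQ, Matrix.sub_apply, Matrix.smul_apply, Matrix.one_apply_ne (hne j i), smul_eq_mul]
    have := shift F (inv_T F) j j 0 k i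
    rw [zero_add, add_comm (k : ZMod p) i] at this
    rw [this]; ring
  rw [Finset.sum_congr rfl fun i _ => h1 0 i, Finset.sum_congr rfl fun i _ => h1 1 i, Finset.sum_const,
    Finset.sum_const, Finset.card_univ, nsmul_eq_mul, nsmul_eq_mul]
  have h2 := hcf k hk
  rw [cf] at h2
  linear_combination (-(1 / 2) * (Fintype.card (ZMod p) : ℚ)) * h2

end H75.N2pDeg
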