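import Cfsg.Agent.Lib.H75.N2pMain

set_option autoImplicit false
set_option linter.all false

/-! Primitive groups of degree `2p` with a Sylow `p`-normalizer of order `2p`. -/

namespace H75.N2pDeg

open Cfsg H75.FixCount H18.CharBasic H18.CharOrtho H18.CharInd H18.CharQuot H75.D2p Matrix H75.N2pGen
open scoped ComplexConjugate

/-- the Sylow subgroup has order `p` -/
theorem card_sylow {H : Type*} [Group H] [Finite H] {p : ℕ} [hp : Fact p.Prime] (hp2 : 2 < p) (P : Sylow p H)
    (hN : Nat.card (Subgroup.normalizer ((P : Subgroup H) : Set H)) = 2 * p) (hd : p ∣ Nat.card H) :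
    Nat.card P = p := by
  have hp' := hp.out
  obtain ⟨k, hk⟩ := P.2.exists_card_eq
  have h1 : Nat.card P ∣ 2 * p := by
    rw [← hN]; exact Subgroup.card_dvd_of_le Subgroup.le_normalizer
  have hk' : Nat.card P = p ^ k := hk
  rw [hk'] at h1
  have h2 : k ≤ 1 := by
    by_contra h
    have h3 : p ^ 2 ∣ 2 * p := (pow_dvd_pow p (by omega : 2 ≤ k)).trans h1
    rw [pow_two] at h3
    have h4 := Nat.dvd_of_mul_dvd_mul_right hp'.pos h3
    have := Nat.le_of_dvd (by norm_num) h4
    omega
  have h3 : k ≠ 0 := by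
    rintro rfl
    rw [pow_zero] at hk'
    have h4 : p ∣ Nat.card P := P.dvd_card_of_dvd_card hd
    rw [hk', Nat.dvd_one] at h4
    exact hp'.one_lt.ne' h4
  have h4 : k = 1 := by omega
  rw [hk', h4, pow_one]

theorem card_norm_all {H : Type*} [Group H] [Finite H] {p : ℕ} [hp : Fact p.Prime] (P Q : Sylow p H) :
    Nat.card (Subgroup.normalizer ((P : Subgroup H) : Set H)) =
      Nat.card (Subgroup.normalizer ((Q : Subgroup H) : Set H)) := by
  have h1 : Nat.card (Sylow p H) = (Subgroup.normalizer ((P : Subgroup H) : Set H)).index :=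
    Sylow.card_eq_index_normalizer P
  have h2 : Nat.card (Sylow p H) = (Subgroup.normalizer ((Q : Subgroup H) : Set H)).index :=
    Sylow.card_eq_index_normalizer Q
  have h3 := Subgroup.index_mul_card (Subgroup.normalizer ((P : Subgroup H) : Set H))
  have h4 := Subgroup.index_mul_card (Subgroup.normalizer ((Q : Subgroup H) : Set H))
  rw [← h1] at h3
  rw [← h2, ← h3] at h4
  exact (Nat.eq_of_mul_eq_mul_left Nat.card_pos h4).symm

variable {α : Type*} [Fintype α] [DecidableEq α] {p : ℕ} [hp : Fact p.Prime]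

theorem x_order {G : Subgroup (Equiv.Perm α)} (F : Frame G p) : orderOf (⟨F.x, F.hx⟩ : G) = p := by
  haveI : NeZero p := ⟨hp.out.ne_zero⟩
  apply orderOf_eq_prime
  · apply Subtype.ext
    rw [Subgroup.coe_pow]
    apply Equiv.ext
    intro u
    obtain ⟨⟨j, i⟩, rfl⟩ := F.e.surjective u
    show (F.x ^ p) (F.e (j, i)) = F.e (j, i)
    rw [pow_apply]
    simp
  · intro h
    have h1 : F.x = 1 := congrArg Subtype.val h
    have h2 := F.he 0 0
    rw [h1, Equiv.Perm.one_apply] at h2
    have h3 := F.e.injective h2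
    simp only [Prod.mk.injEq, true_and, zero_add] at h3
    haveI : Fact (1 < p) := ⟨hp.out.one_lt⟩
    exact zero_ne_one h3

theorem exists_dih (G : Subgroup (Equiv.Perm α)) (hp3 : 3 < p) (hα : Fintype.card α = 2 * p)
    (hprim : MulAction.IsPreprimitive G α) (hpG : p ∣ Nat.card G) (P : Sylow p G) (hN : Nat.card (Subgroup.normalizer ((P : Subgroup G) : Set G)) = 2 * p) :
    ∃ t, Dih P t := by
  have hp' := hp.out
  have hP := card_sylow (by omega) P hN hpG
  by_contra hcon
  have hcen : Subgroup.normalizer ((P : Subgroup G) : Set G) ≤ Subgroup.centralizer ((P : Subgroup G) : Set G) := by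
    intro t ht
    by_contra h
    apply hcon
    refine ⟨t, ⟨hp3, hP, hN, ht, ?_⟩⟩
    apply inverting P hP hN ht
    intro h1
    apply h
    rw [Subgroup.mem_centralizer_iff]
    intro x hx
    have h2 := h1 x hx
    rw [mul_inv_eq_iff_eq_mul] at h2
    exact h2.symm
  have h3 := MonoidHom.ker_transferSylow_isComplement' P hcen
  have h4 := MonoidHom.not_dvd_card_ker_transferSylow P hcen
  by_cases hb : (MonoidHom.transferSylow P hcen).ker = ⊥
  · rw [hb] at h3
    have h5 : (P : Subgroup G) = ⊤ := Subgroup.isComplement'_bot_left.mp h3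
    haveI := hprim.toIsPretransitive
    obtain ⟨a⟩ : Nonempty α := by
      rw [← Fintype.card_pos_iff, hα]; have := hp'.pos; omega
    have h6 := MulAction.index_stabilizer_of_transitive G a
    rw [Nat.card_eq_fintype_card, hα] at h6
    have h7 : 2 * p ∣ Nat.card G := (dvd_of_eq h6.symm).trans (Subgroup.index_dvd_card _)
    have h8 : Nat.card G = p := by
      rw [← Subgroup.card_top (G := G), ← h5]; exact hP
    rw [h8] at h7
    have := Nat.le_of_dvd hp'.pos h7
    have := hp'.pos
    omega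
  · apply h4
    have h5 := card_dvd_of_normal hprim _ inferInstance hb
    rw [hα] at h5
    exact (Dvd.intro_left 2 rfl).trans h5

theorem card_G (G : Subgroup (Equiv.Perm α)) (hp3 : 3 < p) (hα : Fintype.card α = 2 * p)
    (hprim : MulAction.IsPreprimitive G α) (hnot2 : ¬ MulAction.IsMultiplyPretransitive G α 2)
    (P : Sylow p G) (hN : Nat.card (Subgroup.normalizer ((P : Subgroup G) : Set G)) = 2 * p) :
    (Nat.card G : ℤ) = p * ((p - 1) * (p - 2)) := by
  classical
  have hp' := hp.out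
  haveI : NeZero p := ⟨hp'.ne_zero⟩
  have := Fintype.ofFinite G
  obtain ⟨F⟩ := (exists_frame hα G hprim).resolve_left hnot2
  obtain ⟨hκ, hcf⟩ := dichotomy' F hprim hnot2
  obtain ⟨r, a, ha, hr0, hr1, hpa, hval, horb, hrA, hrB⟩ := (dichotomy F hprim).resolve_left hnot2
  -- a Sylow subgroup containing `x`
  have hxo := x_order F
  have h1 : IsPGroup p (Subgroup.zpowers (⟨F.x, F.hx⟩ : G)) := by
    apply IsPGroup.of_card (n := 1)
    rw [Nat.card_zpowers, hxo, pow_one]
  obtain ⟨Q, hQ⟩ := h1.exists_le_sylow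
  have hxQ : (⟨F.x, F.hx⟩ : G) ∈ (Q : Subgroup G) := hQ (Subgroup.mem_zpowers _)
  have hNQ : Nat.card (Subgroup.normalizer ((Q : Subgroup G) : Set G)) = 2 * p := by
    rw [card_norm_all Q P, hN]
  have hpG : p ∣ Nat.card G := by
    rw [← hxo]; exact orderOf_dvd_natCard _
  obtain ⟨t, D⟩ := exists_dih G hp3 hα hprim hpG Q hNQ
  -- the integer valued character
  have hchar := ch_isCharacter (EQ_inv F) (EQ_sq F hκ)
  choose n hn using ch_int (EQ_inv F) (EQ_sq F hκ)
  have hnC : (fun g : G => ((n g : ℤ) : ℂ)) = fun g => ((ch (EQ F) g : ℚ) : ℂ) := by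
    funext g
    rw [hn g]; push_cast; rfl
  have hchar' : IsCharacter G (fun g : G => ((n g : ℤ) : ℂ)) := by rw [hnC]; exact hchar
  have h0 : ∀ g, orderOf g = p → n g = 0 := by
    intro g hg
    obtain ⟨k, y, hy, hy1, rfl⟩ := D.exists_conj hg
    have hcl := isClassFunction_of_isCharacter hchar' y k
    have h2 : n (k * y * k⁻¹) = n y := by exact_mod_cast hcl
    rw [h2]
    have hx1 : (⟨F.x, F.hx⟩ : G) ≠ 1 := by
      intro h
      rw [h, orderOf_one] at hxo
      exact hp'.one_lt.ne hxo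
    have h3 := eq_zpowers Q D.hP Q hxQ hx1
    have hy' : y ∈ (Q : Subgroup G) := hy
    rw [h3] at hy'
    obtain ⟨m, rfl⟩ : ∃ m : ℕ, (⟨F.x, F.hx⟩ : G) ^ m = y := mem_powers_iff_mem_zpowers.2 hy'
    have h4 : (m : ZMod p) ≠ 0 := by
      intro h
      rw [ZMod.natCast_eq_zero_iff] at h
      apply hy1
      rw [← orderOf_dvd_iff_pow_eq_one, hxo]
      exact h
    have h5 := EQ_pow F hcf m h4
    rw [hn] at h5
    exact_mod_cast h5
  have hn1 : n 1 = p := by
    have h2 := EQ_one F hα
    rw [hn] at h2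
    exact_mod_cast h2
  obtain ⟨s1, s2⟩ := sum_sq F hα hκ hval horb
  have s1' : ∑ g, n g = Nat.card G := by
    have : ((∑ g, n g : ℤ) : ℚ) = Nat.card G := by
      push_cast
      rw [← s1]
      exact Finset.sum_congr rfl fun g _ => (hn g).symm
    exact_mod_cast this
  have s2' : ∑ g, n g ^ 2 = 2 * Nat.card G := by
    have : ((∑ g, n g ^ 2 : ℤ) : ℚ) = 2 * Nat.card G := by
      push_cast
      rw [← s2]
      exact Finset.sum_congr rfl fun g _ => by rw [hn g]
    exact_mod_cast this
  have hle : ∀ g, n g ≤ p := by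
    intro g
    have h2 := char_norm_le hchar' g
    simp only [hn1] at h2
    rw [Complex.norm_intCast] at h2
    have h3 : ((n g : ℤ) : ℝ) ≤ p := (le_abs_self _).trans (by simpa using h2)
    exact_mod_cast h3
  have hker : ∀ g, g ≠ 1 → n g ≠ p := by
    intro g hg h
    have h2 : kerSub _ hchar' ≠ ⊥ := by
      intro h3
      apply hg
      rw [← Subgroup.mem_bot, ← h3, mem_kerSub, hn1, h]
    have h3 := card_dvd_of_normal hprim _ (kerSub_normal hchar') h2
    rw [hα] at h3
    have h4 : p ∣ Nat.card (kerSub _ hchar') := (Dvd.intro_left 2 rfl).trans h3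
    obtain ⟨⟨w, hw⟩, hwo⟩ := exists_prime_orderOf_dvd_card' p h4
    rw [Subgroup.orderOf_mk] at hwo
    rw [mem_kerSub, hn1, h0 w hwo] at hw
    have : (p : ℤ) = 0 := by exact_mod_cast hw.symm
    exact hp'.ne_zero (by exact_mod_cast this)
  exact D.card_eq n h0 (isGen_of_isCharacter hchar') hn1 s1' s2' hle hker

theorem main (hp3 : 3 < p) (hα : Fintype.card α = 2 * p) (G : Subgroup (Equiv.Perm α))
    (hprim : MulAction.IsPreprimitive G α) (hnot2 : ¬ MulAction.IsMultiplyPretransitive G α 2)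
    (P : Sylow p G) (hN : Nat.card (Subgroup.normalizer ((P : Subgroup G) : Set G)) = 2 * p) :
    p = 5 ∧ Nonempty (G ≃* alternatingGroup (Fin 5)) := by
  classical
  have hp' := hp.out
  have hcard := card_G G hp3 hα hprim hnot2 P hN
  obtain ⟨a₀, b, hab⟩ : ∃ a b : α, b ≠ a := by
    have h1 : 1 < Fintype.card α := by rw [hα]; omega
    obtain ⟨a, b, h⟩ := Fintype.exists_pair_of_one_lt_card h1
    exact ⟨a, b, h.symm⟩
  obtain ⟨-, a, ha, hpa, horb⟩ := (wielandt hp' hα G hprim a₀).resolve_left hnot2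
  haveI := hprim.toIsPretransitive
  have h6 := MulAction.index_stabilizer_of_transitive G a₀
  rw [Nat.card_eq_fintype_card, hα] at h6
  have h7 := Subgroup.index_mul_card (MulAction.stabilizer G a₀)
  rw [h6] at h7
  have hpaZ : (p : ℤ) = 2 * a ^ 2 + 2 * a + 1 := by exact_mod_cast hpa
  have h8 : (Nat.card (MulAction.stabilizer G a₀) : ℤ) = a * (a + 1) * (2 * a ^ 2 + 2 * a - 1) := by
    have h9 : (2 * p : ℤ) * Nat.card (MulAction.stabilizer G a₀) = p * ((p - 1) * (p - 2)) := by
      rw [← hcard, ← h7]; push_cast; ring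
    have hp0 : (2 * p : ℤ) ≠ 0 := mul_ne_zero two_ne_zero (by exact_mod_cast hp'.ne_zero)
    apply mul_left_cancel₀ hp0
    rw [h9, hpaZ]; ring
  have h10 : ((2 * a + 1 : ℕ) : ℤ) ∣ Nat.card (MulAction.stabilizer G a₀) := by
    have h11 : Nat.card (MulAction.orbit (MulAction.stabilizer G a₀) b) ∣ Nat.card (MulAction.stabilizer G a₀) := by
      have h13 := MulAction.index_stabilizer (MulAction.stabilizer G a₀) b
      rw [Nat.card_coe_set_eq, ← h13]
      exact Subgroup.index_dvd_card _
    have h12 : (2 * a + 1) ∣ Nat.card (MulAction.stabilizer G a₀) := by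
      rcases horb b hab with h | h
      · rw [h] at h11; exact (Dvd.intro_left _ rfl).trans h11
      · rw [h] at h11; exact (Dvd.intro_left _ rfl).trans h11
    exact_mod_cast h12
  have ha1 : a = 1 := by
    rw [h8] at h10
    have c1 : IsCoprime ((2 * a + 1 : ℕ) : ℤ) (a : ℤ) := ⟨1, -2, by push_cast; ring⟩
    have c2 : IsCoprime ((2 * a + 1 : ℕ) : ℤ) ((a : ℤ) + 1) := ⟨-1, 2, by push_cast; ring⟩
    have h11 := (IsCoprime.mul_right c1 c2).dvd_of_dvd_mul_left h10
    have h12 : ((2 * a + 1 : ℕ) : ℤ) ∣ (a : ℤ) - 1 := by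
      have h13 : (a : ℤ) - 1 = (2 * a ^ 2 + 2 * a - 1) - ((2 * a + 1 : ℕ) : ℤ) * a := by push_cast; ring
      rw [h13]
      exact dvd_sub h11 (Dvd.intro _ rfl)
    have h14 : (a : ℤ) - 1 = 0 := by
      apply Int.eq_zero_of_abs_lt_dvd h12
      rw [abs_of_nonneg (by omega)]
      push_cast
      omega
    omega
  have hp5 : p = 5 := by rw [hpa, ha1]; norm_num
  refine ⟨hp5, ?_⟩
  have hcard60 : Nat.card G = 60 := by
    have : (Nat.card G : ℤ) = 60 := by
      rw [hcard, hp5]; norm_num
    exact_mod_cast this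
  have hns : ¬ Group.IsSolvable G := by
    intro hs
    haveI : Nontrivial G := by
      rw [← Finite.one_lt_card_iff_nontrivial, hcard60]; norm_num
    obtain ⟨q, hq, hcore⟩ := H1.Hall.exists_pCore_ne_bot hs
    haveI : Fact q.Prime := ⟨hq⟩
    have h1 := card_dvd_of_normal hprim (pCore q G) inferInstance hcore
    obtain ⟨k, hk⟩ := (H1.Cores.isPGroup_pCore (G := G) q).exists_card_eq
    rw [hk, hα, hp5] at h1
    have e2 : 2 ∣ q ^ k := (by norm_num : 2 ∣ 2 * 5).trans h1
    have e5 : 5 ∣ q ^ k := (by norm_num : 5 ∣ 2 * 5).trans h1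
    have f2 := (Nat.prime_dvd_prime_iff_eq Nat.prime_two hq).1 (Nat.prime_two.dvd_of_dvd_pow e2)
    have f5 := (Nat.prime_dvd_prime_iff_eq Nat.prime_five hq).1 (Nat.prime_five.dvd_of_dvd_pow e5)
    omega
  haveI := H60.Ord60.isSimple_of_not_solvable hcard60 hns
  exact H60.Ord60.iso_alt5 hcard60

end H75.N2pDeg
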