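import Cfsg.Agent.Lib.H75.FixCount
import Cfsg.Agent.Lib.H18.CharQuot
import Cfsg.Agent.Lib.H18.CharPerm

set_option autoImplicit false
set_option linter.all false

/-! Groups with a Sylow `p`-subgroup of order `p` whose normalizer is dihedral of order `2p`, and an
integer valued generalized character `1 + ψ` vanishing on the elements of order `p`. -/

namespace H75.N2pGen

open Cfsg H75.FixCount H18.CharBasic H18.CharOrtho H18.CharInd H18.CharQuot
open scoped ComplexConjugate

universe u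

variable {G : Type u} [Group G] [Fintype G] {p : ℕ} [Fact p.Prime]

/-- `P` is a Sylow subgroup of order `p > 3` with dihedral normalizer of order `2p`; `t` inverts it -/
structure Dih (P : Sylow p G) (t : G) : Prop where
  hp : 3 < p
  hP : Nat.card P = p
  hN : Nat.card (Subgroup.normalizer ((P : Subgroup G) : Set G)) = 2 * p
  ht : t ∈ Subgroup.normalizer ((P : Subgroup G) : Set G)
  inv : ∀ x ∈ P, t * x * t⁻¹ = x⁻¹

omit [Fintype G] in
theorem comm_of_card [Finite G] (P : Sylow p G) (hP : Nat.card P = p) {x y : G} (hx : x ∈ P) (hy : y ∈ P) :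
    x * y = y * x := by
  haveI : IsCyclic P := isCyclic_of_prime_card hP
  have := (IsCyclic.commGroup (α := P)).mul_comm ⟨x, hx⟩ ⟨y, hy⟩
  exact congrArg Subtype.val this

omit [Fintype G] in
theorem index_two [Finite G] (P : Sylow p G) (hP : Nat.card P = p)
    (hN : Nat.card (Subgroup.normalizer ((P : Subgroup G) : Set G)) = 2 * p) :
    ((P : Subgroup G).subgroupOf (Subgroup.normalizer ((P : Subgroup G) : Set G))).index = 2 := by
  have hp : p.Prime := Fact.out
  have h1 := Subgroup.card_mul_index ((P : Subgroup G).subgroupOf (Subgroup.normalizer ((P : Subgroup G) : Set G)))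
  rw [Nat.card_congr (Subgroup.subgroupOfEquivOfLe Subgroup.le_normalizer).toEquiv, hN] at h1
  have h2 : p * ((P : Subgroup G).subgroupOf (Subgroup.normalizer ((P : Subgroup G) : Set G))).index = p * 2 := by
    rw [mul_comm p 2, ← h1]
    congr 1
    exact hP.symm
  exact Nat.eq_of_mul_eq_mul_left hp.pos h2

omit [Fintype G] in
theorem mul_mem_iff [Finite G] (P : Sylow p G) (hP : Nat.card P = p)
    (hN : Nat.card (Subgroup.normalizer ((P : Subgroup G) : Set G)) = 2 * p) {a b : G}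
    (ha : a ∈ Subgroup.normalizer ((P : Subgroup G) : Set G))
    (hb : b ∈ Subgroup.normalizer ((P : Subgroup G) : Set G)) :
    a * b ∈ (P : Subgroup G) ↔ (a ∈ (P : Subgroup G) ↔ b ∈ (P : Subgroup G)) := by
  have h1 := Subgroup.mul_mem_iff_of_index_two (index_two P hP hN)
    (a := (⟨a, ha⟩ : Subgroup.normalizer ((P : Subgroup G) : Set G))) (b := ⟨b, hb⟩)
  simpa [Subgroup.mem_subgroupOf] using h1

omit [Fintype G] in
theorem inverting [Finite G] (P : Sylow p G) (hP : Nat.card P = p)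
    (hN : Nat.card (Subgroup.normalizer ((P : Subgroup G) : Set G)) = 2 * p) {t : G}
    (ht : t ∈ Subgroup.normalizer ((P : Subgroup G) : Set G)) (htc : ¬ ∀ x ∈ P, t * x * t⁻¹ = x) :
    ∀ x ∈ P, t * x * t⁻¹ = x⁻¹ := by
  intro x hx
  have htt : t * t ∈ (P : Subgroup G) := (mul_mem_iff P hP hN ht ht).2 Iff.rfl
  have hy : t * x * t⁻¹ ∈ (P : Subgroup G) := (Subgroup.mem_normalizer_iff.1 ht x).1 hx
  have h1 : t * (t * x * t⁻¹) * t⁻¹ = x := by
    have h2 := comm_of_card P hP htt hx
    calc t * (t * x * t⁻¹) * t⁻¹ = (t * t * x) * (t * t)⁻¹ := by group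
      _ = x := by rw [h2]; group
  by_contra hne
  have h3 : x * (t * x * t⁻¹) ≠ 1 := by
    intro h
    exact hne (eq_inv_of_mul_eq_one_right h)
  have h4 : x * (t * x * t⁻¹) ∈ (P : Subgroup G) := mul_mem hx hy
  have h5 := eq_zpowers P hP P h4 h3
  apply htc
  intro z hz
  have hz' : z ∈ (P : Subgroup G) := hz
  rw [h5] at hz'
  obtain ⟨k, rfl⟩ := Subgroup.mem_zpowers_iff.1 hz'
  have h6 : t * (x * (t * x * t⁻¹)) * t⁻¹ = x * (t * x * t⁻¹) := by
    calc t * (x * (t * x * t⁻¹)) * t⁻¹ = (t * x * t⁻¹) * (t * (t * x * t⁻¹) * t⁻¹) := by group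
      _ = (t * x * t⁻¹) * x := by rw [h1]
      _ = _ := comm_of_card P hP hy hx
  rw [← conj_zpow, h6]

section dih

variable {P : Sylow p G} {t : G} (D : Dih P t)

include D

omit [Fintype G] in
theorem Dih.t_notMem [Finite G] : t ∉ (P : Subgroup G) := by
  intro h
  have hp : p.Prime := Fact.out
  obtain ⟨x, hx, hx1⟩ : ∃ x ∈ (P : Subgroup G), x ≠ 1 := by
    apply (Subgroup.bot_or_exists_ne_one (P : Subgroup G)).resolve_left
    intro h1
    have h2 : Nat.card P = 1 := by
      have : Nat.card (P : Subgroup G) = 1 := by rw [h1, Subgroup.card_bot]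
      exact this
    rw [D.hP] at h2
    exact hp.one_lt.ne' h2
  have h1 := D.inv x hx
  rw [comm_of_card P D.hP h hx, mul_assoc, mul_inv_cancel, mul_one] at h1
  have h2 := orderOf_mem P D.hP P hx hx1
  have h3 : orderOf x ∣ 2 := by
    apply orderOf_dvd_of_pow_eq_one
    rw [pow_two]
    nth_rw 1 [h1]
    exact inv_mul_cancel x
  rw [h2] at h3
  have := Nat.le_of_dvd (by norm_num) h3
  have := D.hp
  omega

omit [Fintype G] in
theorem Dih.conj_cases [Finite G] {k : G} (hk : k ∈ Subgroup.normalizer ((P : Subgroup G) : Set G)) {y : G} (hy : y ∈ P) :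
    (k ∈ (P : Subgroup G) ∧ k⁻¹ * y * k = y) ∨ (k ∉ (P : Subgroup G) ∧ k⁻¹ * y * k = y⁻¹) := by
  by_cases h : k ∈ (P : Subgroup G)
  · left
    refine ⟨h, ?_⟩
    rw [mul_assoc, comm_of_card P D.hP hy h]
    group
  · right
    refine ⟨h, ?_⟩
    have h1 : k⁻¹ * t ∈ (P : Subgroup G) := by
      rw [mul_mem_iff P D.hP D.hN (inv_mem hk) D.ht]
      rw [inv_mem_iff]
      exact ⟨fun h' => absurd h' h, fun h' => absurd h' D.t_notMem⟩
    have h2 := D.inv y hy
    have h3 := comm_of_card P D.hP h1 (inv_mem hy)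
    have h4 : t⁻¹ * y * t = y⁻¹ := by
      have h5 := D.inv y⁻¹ (inv_mem hy)
      rw [inv_inv] at h5
      rw [← h5]
      have h6 : y⁻¹ = t⁻¹ * (t * y⁻¹ * t⁻¹) * t := by group
      rw [h5] at h6
      rw [h5, h6]
    calc k⁻¹ * y * k = (k⁻¹ * t) * (t⁻¹ * y * t) * (k⁻¹ * t)⁻¹ := by group
      _ = (k⁻¹ * t) * y⁻¹ * (k⁻¹ * t)⁻¹ := by rw [h4]
      _ = y⁻¹ := by rw [h3]; group

omit [Fintype G] in
theorem Dih.mem_normalizer [Finite G] {k y : G} (hy : y ∈ P) (hy1 : y ≠ 1) (hk : k⁻¹ * y * k ∈ P) :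
    k ∈ Subgroup.normalizer ((P : Subgroup G) : Set G) := by
  have h1 := eq_zpowers P D.hP P hy hy1
  have h2 : k⁻¹ * y * k ≠ 1 := by
    intro h
    apply hy1
    have : y = k * (k⁻¹ * y * k) * k⁻¹ := by group
    rw [this, h]; group
  have h3 := eq_zpowers P D.hP P hk h2
  rw [Subgroup.mem_normalizer_iff]
  intro h
  constructor
  · intro hh
    rw [h3] at hh
    obtain ⟨m, rfl⟩ := Subgroup.mem_zpowers_iff.1 hh
    rw [← conj_zpow]
    apply zpow_mem
    have : k * (k⁻¹ * y * k) * k⁻¹ = y := by group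
    rw [this]
    exact hy
  · intro hh
    rw [h1] at hh
    obtain ⟨m, hm⟩ := Subgroup.mem_zpowers_iff.1 hh
    have : h = (k⁻¹ * y * k) ^ m := by
      have h5 : (k⁻¹ * y * k⁻¹⁻¹) ^ m = k⁻¹ * y ^ m * k⁻¹⁻¹ := conj_zpow
      rw [inv_inv] at h5
      rw [h5, hm]; group
    rw [this]
    exact zpow_mem hk m

/-- the value of an induced class function on `P` -/
theorem Dih.ind_mem (θ : ↥(P : Subgroup G) → ℂ) {y : G} (hy : y ∈ P) (hy1 : y ≠ 1) :
    indFun (P : Subgroup G) θ y = θ ⟨y, hy⟩ + θ ⟨y⁻¹, inv_mem hy⟩ := by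
  classical
  have hp0 : (p : ℂ) ≠ 0 := by exact_mod_cast (Fact.out : p.Prime).ne_zero
  rw [indFun_apply]
  have h1 : ∀ x : G, extendByZero (P : Subgroup G) θ (x⁻¹ * y * x) =
      (if x ∈ (P : Subgroup G) then θ ⟨y, hy⟩ else 0) +
        ((if x ∈ Subgroup.normalizer ((P : Subgroup G) : Set G) then θ ⟨y⁻¹, inv_mem hy⟩ else 0) -
          (if x ∈ (P : Subgroup G) then θ ⟨y⁻¹, inv_mem hy⟩ else 0)) := by
    intro x
    by_cases hx : x ∈ Subgroup.normalizer ((P : Subgroup G) : Set G)
    · rcases D.conj_cases hx hy with ⟨h, h'⟩ | ⟨h, h'⟩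
      · rw [if_pos h, if_pos hx, if_pos h, h', ext_mem _ _ hy]; ring
      · rw [if_neg h, if_pos hx, if_neg h, h', ext_mem _ _ (inv_mem hy)]; ring
    · have hxP : x ∉ (P : Subgroup G) := fun h => hx (Subgroup.le_normalizer h)
      rw [if_neg hxP, if_neg hx, if_neg hxP, ext_notMem _ _ (fun h => hx (D.mem_normalizer hy hy1 h))]
      ring
  rw [Finset.sum_congr rfl fun x _ => h1 x, Finset.sum_add_distrib, Finset.sum_sub_distrib]
  have h2 : ∀ (H : Subgroup G) (c : ℂ), ∑ x : G, (if x ∈ H then c else 0) = Nat.card H * c := by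
    intro H c
    rw [← Finset.sum_filter, Finset.sum_const, nsmul_eq_mul]
    congr 2
    rw [Nat.card_eq_fintype_card, Fintype.card_subtype]
  rw [h2, h2, h2, D.hN]
  have h3 : (Nat.card (P : Subgroup G) : ℂ) = p := by exact_mod_cast D.hP
  rw [h3]
  push_cast
  field_simp
  ring

omit [Fintype G] in
theorem Dih.exists_conj [Finite G] {g : G} (hg : orderOf g = p) :
    ∃ k y : G, y ∈ P ∧ y ≠ 1 ∧ g = k * y * k⁻¹ := by
  have hp : p.Prime := Fact.out
  have h1 : IsPGroup p (Subgroup.zpowers g) := by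
    apply IsPGroup.of_card (n := 1)
    rw [Nat.card_zpowers, hg, pow_one]
  obtain ⟨Q, hQ⟩ := h1.exists_le_sylow
  obtain ⟨k, hk⟩ := MulAction.exists_smul_eq G Q P
  have hgQ : g ∈ (Q : Subgroup G) := hQ (Subgroup.mem_zpowers g)
  refine ⟨k⁻¹, k * g * k⁻¹, ?_, ?_, by group⟩
  · rw [← hk]
    show k * g * k⁻¹ ∈ ((k • Q : Sylow p G) : Subgroup G)
    rw [Sylow.smul_def, Sylow.pointwise_smul_def]
    exact ⟨g, hgQ, by simp⟩
  · intro h
    have : g = k⁻¹ * (k * g * k⁻¹) * k := by group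
    rw [h] at this
    have h2 : g = 1 := by rw [this]; group
    rw [h2, orderOf_one] at hg
    exact hp.one_lt.ne hg

theorem Dih.ind_reg (θ : ↥(P : Subgroup G) → ℂ) (hθ : θ 1 = 0) {g : G} (hg : orderOf g ≠ p) :
    indFun (P : Subgroup G) θ g = 0 := by
  rw [indFun_apply]
  have h1 : ∀ x : G, extendByZero (P : Subgroup G) θ (x⁻¹ * g * x) = 0 := by
    intro x
    by_cases hx : x⁻¹ * g * x ∈ (P : Subgroup G)
    · rw [ext_mem _ _ hx]
      have h2 : x⁻¹ * g * x = 1 := by
        by_contra h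
        apply hg
        have h3 := orderOf_mem P D.hP P hx h
        have h4 : orderOf (x⁻¹ * g * x) = orderOf g := by
          have h6 := MulEquiv.orderOf_eq (MulAut.conj x⁻¹) g
          rw [MulAut.conj_apply, inv_inv] at h6
          exact h6
        rw [← h4]
        exact h3
      have h5 : (⟨x⁻¹ * g * x, hx⟩ : (P : Subgroup G)) = 1 := Subtype.ext h2
      rw [h5, hθ]
    · exact ext_notMem _ _ hx
  rw [Finset.sum_congr rfl fun x _ => h1 x]
  simp

/-- sums of class functions over the elements of order `p` -/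
theorem Dih.sum_order [Fintype (P : Subgroup G)] (h : G → ℂ) (hcl : IsClassFunction G h) :
    (2 * p : ℂ) * ∑ g ∈ Finset.univ.filter (fun g : G => orderOf g = p), h g =
      Nat.card G * (∑ y : (P : Subgroup G), h y - h 1) := by
  classical
  have hp0 : (p : ℂ) ≠ 0 := by exact_mod_cast (Fact.out : p.Prime).ne_zero
  have hG0 : (Nat.card G : ℂ) ≠ 0 := card_ne_zero'
  set θ : ↥(P : Subgroup G) → ℂ := fun y => if y = 1 then 0 else 1 with hθ
  have h1 := sum_indFun_mul (P : Subgroup G) θ hcl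
  have h2 : ∀ g : G, indFun (P : Subgroup G) θ g * h g = if orderOf g = p then 2 * h g else 0 := by
    intro g
    by_cases hg : orderOf g = p
    · rw [if_pos hg]
      congr 1
      obtain ⟨k, y, hy, hy1, rfl⟩ := D.exists_conj hg
      have := isClassFunction_indFun (P : Subgroup G) θ y k
      rw [this, D.ind_mem θ hy hy1, hθ]
      simp only
      rw [if_neg, if_neg]
      · norm_num
      · intro h; apply hy1; rw [← inv_eq_one]; exact congrArg Subtype.val h
      · intro h; exact hy1 (congrArg Subtype.val h)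
    · rw [if_neg hg, D.ind_reg θ (by simp [hθ]) hg, zero_mul]
  rw [Finset.sum_congr rfl fun g _ => h2 g, ← Finset.sum_filter, ← Finset.mul_sum] at h1
  have h3 : ∀ y : (P : Subgroup G), θ y * h y = h y - (if y = 1 then h y else 0) := by
    intro y
    rw [hθ]
    simp only
    split_ifs <;> ring
  rw [Finset.sum_congr rfl fun y _ => h3 y, Finset.sum_sub_distrib] at h1
  simp only [Finset.sum_ite_eq', Finset.mem_univ, if_true] at h1
  have h4 : (Nat.card (P : Subgroup G) : ℂ) = p := by exact_mod_cast D.hP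
  rw [h4] at h1
  have h5 : ((1 : (P : Subgroup G)) : G) = 1 := rfl
  rw [h5] at h1
  field_simp at h1
  linear_combination h1

end dih

end H75.N2pGen
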