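import Cfsg.Agent.Lib.H75.N2pDeg
import Cfsg.Agent.Lib.H60.Ord60
import Cfsg.Agent.Lib.H1.Hall

set_option autoImplicit false
set_option linter.all false

/-! Primitive groups of degree `2p` with a Sylow `p`-normalizer of order `2p`. -/

namespace H75.N2pDeg

open Cfsg H75.FixCount H18.CharBasic H18.CharOrtho H18.CharInd H18.CharQuot H75.D2p Matrix H75.N2pGen
open scoped ComplexConjugate

theorem sum_mul_nat {G : Type*} [Group G] [Fintype G] {f1 f2 : G → ℚ}
    (h1 : IsCharacter G (fun g => ((f1 g : ℚ) : ℂ))) (h2 : IsCharacter G (fun g => ((f2 g : ℚ) : ℂ))) :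
    ∃ N : ℕ, ∑ g, f1 g * f2 g = N * (Nat.card G : ℚ) := by
  obtain ⟨N, hN⟩ := inner_char_natCast h1 h2
  refine ⟨N, ?_⟩
  have hG0 : (Nat.card G : ℂ) ≠ 0 := card_ne_zero'
  have h3 : (Nat.card G : ℂ)⁻¹ * ∑ g, ((f1 g : ℚ) : ℂ) * conj ((f2 g : ℚ) : ℂ) = N := hN
  have h4 : ∀ q : ℚ, conj ((q : ℚ) : ℂ) = (q : ℂ) := fun q => by
    rw [Complex.conj_eq_iff_real]; exact ⟨(q : ℝ), by push_cast; rfl⟩
  simp only [h4] at h3
  have h5 : ∑ g, ((f1 g : ℚ) : ℂ) * ((f2 g : ℚ) : ℂ) = N * (Nat.card G : ℂ) := by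
    rw [← h3]; field_simp
  have h6 : (((∑ g, f1 g * f2 g : ℚ)) : ℂ) = ((N * (Nat.card G : ℚ) : ℚ) : ℂ) := by
    push_cast
    exact h5
  exact_mod_cast h6

variable {α : Type*} [Fintype α] [DecidableEq α] {p : ℕ} [hp : Fact p.Prime]
variable {G : Subgroup (Equiv.Perm α)} (F : Frame G p)

theorem orb2_le {r : ℚ} (hval : ∀ u v, u ≠ v → (T F u v = r ∨ T F u v = -r))
    (horb : ∀ u v w, u ≠ v → u ≠ w → T F u v = T F u w → Orb G u v u w = 1) :
    Nat.card (MulAction.orbitRel.Quotient G (Fin 2 ↪ α)) ≤ 2 := by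
  classical
  let f : MulAction.orbitRel.Quotient G (Fin 2 ↪ α) → Bool :=
    Quotient.lift (fun x : Fin 2 ↪ α => decide (T F (x 0) (x 1) = r)) (by
      intro x y hxy
      obtain ⟨g, hg⟩ := (MulAction.orbitRel_apply.1 hxy : x ∈ MulAction.orbit G y)
      have h0 : g.1 (y 0) = x 0 := congrArg (fun z : Fin 2 ↪ α => z 0) hg
      have h1 : g.1 (y 1) = x 1 := congrArg (fun z : Fin 2 ↪ α => z 1) hg
      have h2 : T F (x 0) (x 1) = T F (y 0) (y 1) := by
        rw [← h0, ← h1]; exact inv_T F g.1 g.2 _ _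
      simp only [h2])
  have hf : ∀ x : Fin 2 ↪ α, f (Quotient.mk'' x) = decide (T F (x 0) (x 1) = r) := fun x => rfl
  have hinj : Function.Injective f := by
    intro a b h
    induction a using Quotient.inductionOn' with | _ x =>
    induction b using Quotient.inductionOn' with | _ y =>
    rw [hf, hf, decide_eq_decide] at h
    apply Quotient.sound'
    rw [MulAction.orbitRel_apply]
    have hx : x 0 ≠ x 1 := fun h => by have := x.injective h; exact absurd this (by decide)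
    have hy : y 0 ≠ y 1 := fun h => by have := y.injective h; exact absurd this (by decide)
    have hT : T F (x 0) (x 1) = T F (y 0) (y 1) := by
      rcases hval _ _ hx with h1 | h1
      · rw [h1, h.1 h1]
      · rcases hval _ _ hy with h2 | h2
        · rw [h2, h.2 h2]
        · rw [h1, h2]
    obtain ⟨g, hg, hgy⟩ := F.tr (y 0) (x 0)
    have h3 : T F (x 0) (g (y 1)) = T F (x 0) (x 1) := by
      rw [hT, ← hgy]; exact inv_T F g hg _ _
    have hne : x 0 ≠ g (y 1) := by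
      rw [← hgy]
      exact fun h => hy (g.injective h)
    obtain ⟨k, hk, hk1, hk2⟩ := Orb_eq_one.1 (horb _ _ _ hne hx h3)
    refine ⟨⟨k * g, G.mul_mem hk hg⟩, ?_⟩
    ext i
    show (k * g) (y i) = x i
    fin_cases i
    · show (k * g) (y 0) = x 0
      rw [Equiv.Perm.mul_apply, hgy, hk1]
    · show (k * g) (y 1) = x 1
      rw [Equiv.Perm.mul_apply, hk2]
  have := Nat.card_le_card_of_injective f hinj
  rwa [Nat.card_eq_fintype_card (α := Bool), Fintype.card_bool] at this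

omit hp in
theorem fx_eq (g : G) : ((fx α g : ℕ) : ℚ) = ∑ u, (1 : Matrix α α ℚ) u (g.1 u) := by
  classical
  rw [fx, Nat.card_eq_fintype_card]
  simp only [Matrix.one_apply]
  rw [Finset.sum_boole]
  congr 1
  rw [Fintype.card_subtype]
  congr 1
  ext u
  simp only [Finset.mem_filter, Finset.mem_univ, true_and, MulAction.mem_fixedBy]
  exact eq_comm

theorem ch_add (g : G) : ch (EQ F) g + ch (EQ' F) g = fx α g := by
  rw [fx_eq, ch, ch, ← Finset.sum_add_distrib]
  refine Finset.sum_congr rfl fun u _ => ?_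
  rw [EQ, EQ', Matrix.sub_apply]
  ring

theorem sum_sq [Fintype G] (hα : Fintype.card α = 2 * p) (hκ : kap F = 2) {r : ℚ}
    (hval : ∀ u v, u ≠ v → (T F u v = r ∨ T F u v = -r))
    (horb : ∀ u v w, u ≠ v → u ≠ w → T F u v = T F u w → Orb G u v u w = 1) :
    ∑ g : G, ch (EQ F) g = Nat.card G ∧ ∑ g : G, ch (EQ F) g ^ 2 = 2 * Nat.card G := by
  classical
  have hp' := hp.out
  have hα0 : (Fintype.card α : ℚ) ≠ 0 := by
    rw [hα]; push_cast
    have : (p : ℚ) ≠ 0 := by exact_mod_cast hp'.ne_zero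
    positivity
  have hG0 : (0 : ℚ) < Nat.card G := by exact_mod_cast Nat.card_pos
  have s1 : ∑ g : G, ch (EQ F) g = Nat.card G := by
    rw [sum_ch F.tr (EQ F) 1 _ hα0, mul_one, Nat.card_eq_fintype_card]
    intro u
    simp only [EQ, Matrix.sub_apply, Matrix.smul_apply, smul_eq_mul]
    rw [Finset.sum_sub_distrib, ← Finset.mul_sum, sum_T]
    simp [Matrix.one_apply]
  have s1' : ∑ g : G, ch (EQ' F) g = 0 := by
    rw [sum_ch F.tr (EQ' F) 0 _ hα0, mul_zero]
    intro u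
    simp only [EQ', Matrix.smul_apply, smul_eq_mul]
    rw [← Finset.mul_sum, sum_T, mul_zero]
  refine ⟨s1, ?_⟩
  -- characters
  have c1 := ch_isCharacter (EQ_inv F) (EQ_sq F hκ)
  have c2 := ch_isCharacter (EQ'_inv F) (EQ'_sq F hκ)
  have c3 : IsCharacter G (fun g => ((ch (EQ F) g - 1 : ℚ) : ℂ)) := by
    have h1 : classInner (fun g : G => ((ch (EQ F) g : ℚ) : ℂ)) (fun _ => 1) ≠ 0 := by
      have hG0' : (Nat.card G : ℂ) ≠ 0 := card_ne_zero'
      have h2 : classInner (fun g : G => ((ch (EQ F) g : ℚ) : ℂ)) (fun _ => 1) = 1 := by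
        show (Nat.card G : ℂ)⁻¹ * ∑ g : G, ((ch (EQ F) g : ℚ) : ℂ) * conj (1 : ℂ) = 1
        simp only [map_one, mul_one]
        rw [← Rat.cast_sum, s1]
        push_cast
        exact inv_mul_cancel₀ hG0'
      rw [h2]; exact one_ne_zero
    have h3 := isCharacter_sub_constituent c1 isIrrCharacter_one h1
    have h4 : ((fun g : G => ((ch (EQ F) g : ℚ) : ℂ)) - (fun _ => 1)) = fun g => ((ch (EQ F) g - 1 : ℚ) : ℂ) := by
      funext g
      simp
    rwa [h4] at h3
  obtain ⟨A, hA⟩ := sum_mul_nat c3 c3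
  obtain ⟨B, hB⟩ := sum_mul_nat c2 c2
  obtain ⟨C, hC⟩ := sum_mul_nat c3 c2
  have hA0 : A ≠ 0 := by
    rintro rfl
    rw [Nat.cast_zero, zero_mul] at hA
    have h1 := (Finset.sum_eq_zero_iff_of_nonneg (fun g _ => mul_self_nonneg _)).1 hA 1 (Finset.mem_univ _)
    have h2 := mul_self_eq_zero.1 h1
    rw [EQ_one F hα, sub_eq_zero] at h2
    have h3 : p = 1 := by exact_mod_cast h2
    exact hp'.one_lt.ne' h3
  have hB0 : B ≠ 0 := by
    rintro rfl
    rw [Nat.cast_zero, zero_mul] at hB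
    have h1 := (Finset.sum_eq_zero_iff_of_nonneg (fun g _ => mul_self_nonneg _)).1 hB 1 (Finset.mem_univ _)
    have h2 := mul_self_eq_zero.1 h1
    rw [EQ'_one F hα] at h2
    exact hp'.ne_zero (by exact_mod_cast h2)
  -- rank
  have hle : (∑ g : G, ((fx α g : ℕ) : ℚ) ^ 2) ≤ 3 * Nat.card G := by
    have e1 := sum_desc (G := G) (α := α) 1
    have e2 := sum_desc (G := G) (α := α) 2
    have z1 : ∑ g : G, ((fx α g : ℕ) : ℚ) = Nat.card G := by
      rw [← s1, ← add_zero (∑ g : G, ch (EQ F) g), ← s1', ← Finset.sum_add_distrib]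
      exact Finset.sum_congr rfl fun g _ => (ch_add F g).symm
    have z2 : ∑ g : G, ((fx α g : ℤ) * (fx α g - 1)) ≤ 2 * Nat.card G := by
      have h1 : ∑ g : G, (((fx α g).descFactorial 2 : ℕ) : ℤ) =
          Nat.card (MulAction.orbitRel.Quotient G (Fin 2 ↪ α)) * Nat.card G := by exact_mod_cast e2
      have h2 : ∑ g : G, ((fx α g : ℤ) * (fx α g - 1)) = ∑ g : G, (((fx α g).descFactorial 2 : ℕ) : ℤ) :=
        Finset.sum_congr rfl fun g _ => (desc_two _).symm
      rw [h2, h1]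
      have h3 := orb2_le F hval horb
      exact mul_le_mul_of_nonneg_right (by exact_mod_cast h3) (by positivity)
    have z3 : ∑ g : G, (((fx α g : ℕ) : ℚ) * (((fx α g : ℕ) : ℚ) - 1)) ≤ 2 * Nat.card G := by
      exact_mod_cast z2
    have h4 : ∀ g : G, ((fx α g : ℕ) : ℚ) ^ 2 = ((fx α g : ℕ) : ℚ) * (((fx α g : ℕ) : ℚ) - 1) + ((fx α g : ℕ) : ℚ) := by
      intro g; ring
    rw [Finset.sum_congr rfl fun g _ => h4 g, Finset.sum_add_distrib, z1]
    linarith
  have hexp : ∑ g : G, ((fx α g : ℕ) : ℚ) ^ 2 = (A + B + 2 * C + 1) * Nat.card G := by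
    have h5 : ∀ g : G, ((fx α g : ℕ) : ℚ) ^ 2 = (ch (EQ F) g - 1) * (ch (EQ F) g - 1) +
        ch (EQ' F) g * ch (EQ' F) g + 2 * ((ch (EQ F) g - 1) * ch (EQ' F) g) + 2 * ch (EQ F) g +
        2 * ch (EQ' F) g - 1 := by
      intro g
      rw [← ch_add F g]; ring
    rw [Finset.sum_congr rfl fun g _ => h5 g, Finset.sum_sub_distrib, Finset.sum_add_distrib,
      Finset.sum_add_distrib, Finset.sum_add_distrib, Finset.sum_add_distrib, ← Finset.mul_sum,
      ← Finset.mul_sum, ← Finset.mul_sum, hA, hB, hC, s1, s1', Finset.sum_const, Finset.card_univ,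
      nsmul_eq_mul, ← Nat.card_eq_fintype_card]
    ring
  rw [hexp] at hle
  have h6 : (A + B + 2 * C + 1 : ℚ) ≤ 3 := le_of_mul_le_mul_right hle hG0
  have h7 : A + B + 2 * C + 1 ≤ 3 := by exact_mod_cast h6
  have h8 : A = 1 := by omega
  rw [h8] at hA
  have h9 : ∀ g : G, ch (EQ F) g ^ 2 = (ch (EQ F) g - 1) * (ch (EQ F) g - 1) + 2 * ch (EQ F) g - 1 := by
    intro g; ring
  rw [Finset.sum_congr rfl fun g _ => h9 g, Finset.sum_sub_distrib, Finset.sum_add_distrib,
    ← Finset.mul_sum, hA, s1, Finset.sum_const, Finset.card_univ, nsmul_eq_mul, ← Nat.card_eq_fintype_card]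
  push_cast; ring

end H75.N2pDeg
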