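import Cfsg.Agent.Lib.H75.N2pCube

set_option autoImplicit false
set_option linter.all false

/-! The group order in the case `F(1) = p`. -/

namespace H75.N2pGen

open Cfsg H75.FixCount H18.CharBasic H18.CharOrtho H18.CharInd H18.CharQuot
open scoped ComplexConjugate

universe u

variable {G : Type u} [Group G] [Fintype G] {p : ℕ} [Fact p.Prime]

section dih

variable {P : Sylow p G} {t : G} (D : Dih P t)

include D

theorem Dih.card_order' : (2 * p : ℤ) * (Finset.univ.filter (fun g : G => orderOf g = p)).card =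
    ((p : ℤ) - 1) * Nat.card G := by
  classical
  have h1 := card_order P D.hP
  rw [D.hN, Nat.card_eq_fintype_card, Fintype.card_subtype] at h1
  have h2 : ((p - 1 : ℕ) : ℤ) = (p : ℤ) - 1 := by
    have := (Fact.out : p.Prime).one_lt
    push_cast [Nat.cast_sub this.le]
    ring
  rw [← h2, mul_comm]
  exact_mod_cast h1

theorem Dih.reg_sum (n : G → ℤ) (h0 : ∀ g, orderOf g = p → n g = 0)
    (s1 : ∑ g, n g = Nat.card G) (s2 : ∑ g, n g ^ 2 = 2 * Nat.card G) (k : ℤ) :
    ∑ g ∈ Finset.univ.filter (fun g : G => orderOf g ≠ p), (n g - 1) * (n g - 2) * (k * p - n g) =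
      (4 + k) * Nat.card G - ∑ g, n g ^ 3 := by
  classical
  have hp0 : (p : ℤ) ≠ 0 := by exact_mod_cast (Fact.out : p.Prime).ne_zero
  have hsplit := Finset.sum_filter_add_sum_filter_not (Finset.univ : Finset G) (fun g => orderOf g ≠ p)
    (fun g => (n g - 1) * (n g - 2) * (k * p - n g))
  have h1 : ∑ g ∈ Finset.univ.filter (fun g : G => ¬ orderOf g ≠ p), (n g - 1) * (n g - 2) * (k * p - n g) =
      (Finset.univ.filter (fun g : G => orderOf g = p)).card * (2 * k * p) := by
    simp only [not_not]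
    rw [Finset.sum_congr rfl (g := fun _ => (2 * k * p : ℤ)), Finset.sum_const, nsmul_eq_mul]
    intro g hg
    rw [h0 g (Finset.mem_filter.1 hg).2]
    ring
  have h2 : ∑ g : G, (n g - 1) * (n g - 2) * (k * p - n g) =
      (k * p + 4) * Nat.card G - ∑ g, n g ^ 3 := by
    have h3 : ∀ g : G, (n g - 1) * (n g - 2) * (k * p - n g) =
        (k * p + 3) * n g ^ 2 - (3 * k * p + 2) * n g + 2 * k * p - n g ^ 3 := by
      intro g; ring
    rw [Finset.sum_congr rfl fun g _ => h3 g, Finset.sum_sub_distrib, Finset.sum_add_distrib,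
      Finset.sum_sub_distrib, ← Finset.mul_sum, ← Finset.mul_sum, s1, s2, Finset.sum_const,
      Finset.card_univ, nsmul_eq_mul, ← Nat.card_eq_fintype_card]
    ring
  rw [h1, h2] at hsplit
  have h4 := D.card_order'
  linear_combination hsplit - k * h4

omit D in
/-- nonnegativity of the summand -/
theorem summand_nonneg {a b : ℤ} (h : a ≤ b) : 0 ≤ (a - 1) * (a - 2) * (b - a) := by
  apply mul_nonneg _ (by omega)
  rcases lt_or_ge a 2 with h5 | h5
  · exact mul_nonneg_of_nonpos_of_nonpos (by omega) (by omega)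
  · exact mul_nonneg (by omega) (by omega)

theorem Dih.reg_cases (n : G → ℤ) (h0 : ∀ g, orderOf g = p → n g = 0)
    (hF : IsGeneralizedCharacter G (fun g => (n g : ℂ))) (h1 : n 1 = p)
    (s1 : ∑ g, n g = Nat.card G) (s2 : ∑ g, n g ^ 2 = 2 * Nat.card G) (hle : ∀ g, n g ≤ p)
    {g : G} (hg : orderOf g ≠ p) : n g = 1 ∨ n g = 2 ∨ n g = p := by
  classical
  have hp3 := D.hp
  have hc := D.cube_ge n h0 hF (by rw [h1]; exact_mod_cast (by omega : 2 < p)) s1 s2
  have hs := D.reg_sum n h0 s1 s2 1
  have hnn : ∀ g ∈ Finset.univ.filter (fun g : G => orderOf g ≠ p),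
      0 ≤ (n g - 1) * (n g - 2) * (1 * p - n g) := fun g _ =>
    summand_nonneg (by rw [one_mul]; exact hle g)
  have hz : ∑ g ∈ Finset.univ.filter (fun g : G => orderOf g ≠ p), (n g - 1) * (n g - 2) * (1 * p - n g) = 0 :=
    le_antisymm (by rw [hs]; linarith) (Finset.sum_nonneg hnn)
  rw [Finset.sum_eq_zero_iff_of_nonneg hnn] at hz
  have h2 := hz g (by simp [hg])
  rcases mul_eq_zero.1 h2 with h3 | h3
  · rcases mul_eq_zero.1 h3 with h4 | h4
    · left; omega
    · right; left; omega
  · right; right; omega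

theorem Dih.card_eq (n : G → ℤ) (h0 : ∀ g, orderOf g = p → n g = 0)
    (hF : IsGeneralizedCharacter G (fun g => (n g : ℂ))) (h1 : n 1 = p)
    (s1 : ∑ g, n g = Nat.card G) (s2 : ∑ g, n g ^ 2 = 2 * Nat.card G) (hle : ∀ g, n g ≤ p)
    (hker : ∀ g, g ≠ 1 → n g ≠ p) :
    (Nat.card G : ℤ) = p * ((p - 1) * (p - 2)) := by
  classical
  have hp0 : (p : ℤ) ≠ 0 := by exact_mod_cast (Fact.out : p.Prime).ne_zero
  have h2 : ∑ g : G, (n g - 1) * (n g - 2) = Nat.card G := by
    have h3 : ∀ g : G, (n g - 1) * (n g - 2) = n g ^ 2 - 3 * n g + 2 := by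
      intro g; ring
    rw [Finset.sum_congr rfl fun g _ => h3 g, Finset.sum_add_distrib,
      Finset.sum_sub_distrib, ← Finset.mul_sum, s1, s2, Finset.sum_const,
      Finset.card_univ, nsmul_eq_mul, ← Nat.card_eq_fintype_card]
    ring
  have h4 : ∀ g : G, (n g - 1) * (n g - 2) = (if orderOf g = p then 2 else 0) +
      (if g = 1 then ((p : ℤ) - 1) * (p - 2) else 0) := by
    intro g
    by_cases hg1 : g = 1
    · subst hg1
      rw [if_neg D.one_order, if_pos rfl, h1]; ring
    · rw [if_neg hg1, add_zero]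
      split_ifs with hg
      · rw [h0 g hg]; norm_num
      · rcases D.reg_cases n h0 hF h1 s1 s2 hle hg with h | h | h
        · rw [h]; ring
        · rw [h]; ring
        · exact absurd h (hker g hg1)
  rw [Finset.sum_congr rfl fun g _ => h4 g, Finset.sum_add_distrib, ← Finset.sum_filter,
    Finset.sum_const, nsmul_eq_mul] at h2
  simp only [Finset.sum_ite_eq', Finset.mem_univ, if_true] at h2
  have h5 := D.card_order'
  have h6 : (p : ℤ) * ((Finset.univ.filter (fun g : G => orderOf g = p)).card * 2 + ((p : ℤ) - 1) * (p - 2)) =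
    p * Nat.card G := by rw [h2]
  linear_combination h5 - h6

end dih

end H75.N2pGen
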