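import Mathlib
import Cfsg.Agent.Lib.H54.RA0

/-! S3330 piece U3 (helper75). -/

set_option autoImplicit false
set_option maxRecDepth 100000

open Equiv Subgroup H54.RA

namespace H75.RU3

/-- kernel of a homomorphism from `Sym(8)` that does not kill some even permutation is trivial -/
theorem inj8 {G : Type*} [Group G] (f : Perm (Fin 8) →* G) (p : Perm (Fin 8)) (hp : Perm.sign p = 1)
    (hfp : f p ≠ 1) : Function.Injective f := by
  rw [← MonoidHom.ker_eq_bot_iff, eq_bot_iff]
  intro g hg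
  have hnorm : (f.ker.subgroupOf (alternatingGroup (Fin 8))).Normal := inferInstance
  have hs : f.ker.subgroupOf (alternatingGroup (Fin 8)) = ⊥ := by
    rcases alternatingGroup.normal_subgroup_eq_bot_or_eq_top (α := Fin 8) (by simp)
      (N := f.ker.subgroupOf (alternatingGroup (Fin 8))) with h | h
    · exact h
    · exfalso
      apply hfp
      have : (⟨p, Equiv.Perm.mem_alternatingGroup.2 hp⟩ : alternatingGroup (Fin 8)) ∈
          f.ker.subgroupOf (alternatingGroup (Fin 8)) := by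
        rw [h]; trivial
      exact Subgroup.mem_subgroupOf.1 this
  have hcom : ∀ q : Perm (Fin 8), g * q = q * g := by
    intro q
    have h1 : g * q * g⁻¹ * q⁻¹ ∈ f.ker := by
      have hg' : f g = 1 := hg
      rw [MonoidHom.mem_ker]
      simp [hg']
    have h2 : Perm.sign (g * q * g⁻¹ * q⁻¹) = 1 := by
      simp only [map_mul, map_inv]
      rw [mul_comm (Perm.sign g) (Perm.sign q)]
      simp [mul_assoc]
    have h3 : (⟨g * q * g⁻¹ * q⁻¹, Equiv.Perm.mem_alternatingGroup.2 h2⟩ : alternatingGroup (Fin 8)) ∈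
        f.ker.subgroupOf (alternatingGroup (Fin 8)) := Subgroup.mem_subgroupOf.2 h1
    rw [hs, Subgroup.mem_bot] at h3
    have h4 : g * q * g⁻¹ * q⁻¹ = 1 := congrArg Subtype.val h3
    have h5 : g * q = q * g := by
      have := mul_inv_eq_one.1 h4
      exact mul_inv_eq_iff_eq_mul.1 this
    exact h5
  rw [Subgroup.mem_bot]
  by_contra hne
  obtain ⟨i, hi⟩ : ∃ i, g i ≠ i := by
    by_contra hcon
    push Not at hcon
    exact hne (Equiv.ext hcon)
  obtain ⟨k, hk1, hk2⟩ : ∃ k : Fin 8, k ≠ i ∧ k ≠ g i := by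
    have : ∀ a b : Fin 8, ∃ k : Fin 8, k ≠ a ∧ k ≠ b := by decide
    exact this i (g i)
  have h1 := congrArg (fun p : Perm (Fin 8) => p k) (hcom (swap i k))
  simp only [Perm.coe_mul, Function.comp_apply, swap_apply_right] at h1
  have h2 : swap i k (g i) = g k := by
    rw [h1, ← Perm.mul_apply, swap_mul_self, Perm.one_apply]
  rw [swap_apply_of_ne_of_ne hi hk2.symm] at h2
  exact hk1 (g.injective h2.symm)

/-- generators of `Sym(3)` -/
theorem gen3 {H : Type*} [Group H] (f g : Perm (Fin 3) →* H) (h0 : f (swap 0 1) = g (swap 0 1))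
    (h1 : f (swap 1 2) = g (swap 1 2)) : f = g := by
  apply MonoidHom.eq_of_eqOn_denseM (Equiv.Perm.mclosure_swap_castSucc_succ 2)
  rintro _ ⟨i, rfl⟩
  fin_cases i
  · exact h0
  · exact h1

/-- generators of `Sym(5)` -/
theorem gen5 {H : Type*} [Group H] (f g : Perm (Fin 5) →* H) (h0 : f (swap 0 4) = g (swap 0 4))
    (h1 : f (swap 4 1) = g (swap 4 1)) (h2 : f (swap 1 2) = g (swap 1 2)) (h3 : f (swap 2 3) = g (swap 2 3)) : f = g := by
  have e0 : (swap 0 1 : Perm (Fin 5)) = swap 0 4 * swap 4 1 * swap 0 4 := by decide +kernel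
  have e3 : (swap 3 4 : Perm (Fin 5)) = swap 2 3 * (swap 1 2 * swap 4 1 * swap 1 2) * swap 2 3 := by decide +kernel
  apply MonoidHom.eq_of_eqOn_denseM (Equiv.Perm.mclosure_swap_castSucc_succ 4)
  rintro _ ⟨i, rfl⟩
  fin_cases i
  · show f (swap 0 1) = g (swap 0 1)
    rw [e0]; simp only [map_mul, h0, h1]
  · exact h2
  · exact h3
  · show f (swap 3 4) = g (swap 3 4)
    rw [e3]; simp only [map_mul, h1, h2, h3]

/-- homomorphisms on `Sym(3) × Sym(5)` -/
theorem genPP {H : Type*} [Group H] (f g : PP →* H) (a0 : f (swap 0 1, 1) = g (swap 0 1, 1))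
    (a1 : f (swap 1 2, 1) = g (swap 1 2, 1)) (h0 : f (1, swap 0 4) = g (1, swap 0 4))
    (h1 : f (1, swap 4 1) = g (1, swap 4 1)) (h2 : f (1, swap 1 2) = g (1, swap 1 2))
    (h3 : f (1, swap 2 3) = g (1, swap 2 3)) (k : PP) : f k = g k := by
  have hA : f.comp (MonoidHom.inl _ _) = g.comp (MonoidHom.inl _ _) := gen3 _ _ a0 a1
  have hB : f.comp (MonoidHom.inr _ _) = g.comp (MonoidHom.inr _ _) := gen5 _ _ h0 h1 h2 h3
  obtain ⟨x, y⟩ := k
  have e : ((x, y) : PP) = (x, 1) * (1, y) := by simp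
  rw [e, map_mul, map_mul]
  have h1 := DFunLike.congr_fun hA x
  have h2 := DFunLike.congr_fun hB y
  simp only [MonoidHom.comp_apply, MonoidHom.inl_apply, MonoidHom.inr_apply] at h1 h2
  rw [h1, h2]

/-- path positions to labels -/
def lab : Perm (Fin 8) where
  toFun := ![0, 1, 2, 3, 7, 4, 5, 6]
  invFun := ![0, 1, 2, 3, 5, 6, 7, 4]
  left_inv := by decide
  right_inv := by decide

theorem u3_of {G : Type*} [Group G] [Finite G] {ψ : PP →* G} {n : G} (h : UD ψ n) {a : G}
    (ha : a = n * ψ (1, swap 3 0) * n⁻¹ ∨ a = n * ψ (1, swap 3 4) * n⁻¹)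
    (hab : a * ψ (1, swap 4 1) = ψ (1, swap 4 1) * a)
    (cox8 : ∀ (x : Fin 7 → G), (∀ i, x i * x i = 1) → (∀ i : Fin 6, (x i.castSucc * x i.succ) ^ 3 = 1) →
      (∀ i j : Fin 7, i.val + 1 < j.val → x i * x j = x j * x i) →
      ∃ f : Perm (Fin 8) →* G, ∀ i : Fin 7, f (swap i.castSucc i.succ) = x i) :
    ∃ f : Perm (Fin 8) →* G, Function.Injective f ∧ ∀ k, f (emb k) = ψ k := by
  have hninv : n⁻¹ = n := inv_eq_of_mul_eq_one_left h.nn
  -- conjugation by n as a function
  let c : G →* G := (MulAut.conj n).toMonoidHom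
  have hc : ∀ g, c g = n * g * n⁻¹ := fun g => rfl
  have hcc : ∀ g, c (c g) = g := by
    intro g; rw [hc, hc, hninv]
    calc n * (n * g * n) * n = (n * n) * g * (n * n) := by group
      _ = g := by rw [h.nn]; simp
  -- images
  have e1 : c (ψ (1, swap 1 2)) = ψ (swap 0 1, 1) := h.n3
  have e2 : c (ψ (1, swap 2 3)) = ψ (swap 1 2, 1) := by
    have e : ((1, swap 2 3) : PP) = (1, swap 1 2) * (1, d5) := by decide +kernel
    have e' : ((swap 1 2, 1) : PP) = (swap 0 1, 1) * (c3, 1) := by decide +kernel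
    rw [e, map_mul, map_mul, e1, e', map_mul]
    congr 1
    exact h.n2
  have e3 : c (ψ (swap 0 1, 1)) = ψ (1, swap 1 2) := by rw [← e1, hcc]
  have e4 : c (ψ (swap 1 2, 1)) = ψ (1, swap 2 3) := by rw [← e2, hcc]
  have e5 : c (ψ (1, swap 0 4)) = ψ (1, swap 0 4) := by
    have := h.nt
    rw [hc]
    exact mul_inv_eq_iff_eq_mul.2 this
  obtain ⟨x, hx, hax⟩ : ∃ x : Fin 5, (x = 0 ∨ x = 4) ∧ a = c (ψ (1, swap 3 x)) := by
    rcases ha with ha | ha
    · exact ⟨0, Or.inl rfl, ha⟩
    · exact ⟨4, Or.inr rfl, ha⟩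
  have hcm : ∀ p q : PP, p * q = q * p → ψ p * ψ q = ψ q * ψ p := by
    intro p q hpq; rw [← map_mul, ← map_mul, hpq]
  have hccm : ∀ p q : PP, p * q = q * p → c (ψ p) * c (ψ q) = c (ψ q) * c (ψ p) := by
    intro p q hpq
    have := congrArg c (hcm p q hpq)
    rwa [map_mul, map_mul] at this
  have h3 : ∀ p q : PP, (p * q) ^ 3 = 1 → (ψ p * ψ q) ^ 3 = 1 := by
    intro p q hpq; rw [← map_mul, ← map_pow, hpq, map_one]
  have hc3 : ∀ p q : PP, (p * q) ^ 3 = 1 → (c (ψ p) * c (ψ q)) ^ 3 = 1 := by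
    intro p q hpq
    have := congrArg c (h3 p q hpq)
    rwa [map_pow, map_mul, map_one] at this
  have hsq : ∀ p : PP, p * p = 1 → ψ p * ψ p = 1 := by
    intro p hp; rw [← map_mul, hp, map_one]
  have hcsq : ∀ p : PP, p * p = 1 → c (ψ p) * c (ψ p) = 1 := by
    intro p hp
    have := congrArg c (hsq p hp)
    rwa [map_mul, map_one] at this
  obtain ⟨f', hf'⟩ := cox8 (![ψ (swap 0 1, 1), ψ (swap 1 2, 1), a, ψ (1, swap 0 4), ψ (1, swap 4 1),
      ψ (1, swap 1 2), ψ (1, swap 2 3)]) (by
    intro i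
    fin_cases i
    · exact hsq _ (by decide +kernel)
    · exact hsq _ (by decide +kernel)
    · show a * a = 1
      rw [hax]
      apply hcsq
      rcases hx with rfl | rfl <;> decide +kernel
    · exact hsq _ (by decide +kernel)
    · exact hsq _ (by decide +kernel)
    · exact hsq _ (by decide +kernel)
    · exact hsq _ (by decide +kernel)) (by
    intro i
    fin_cases i
    · exact h3 _ _ (by decide +kernel)
    · show (ψ (swap 1 2, 1) * a) ^ 3 = 1
      rw [hax, ← e2]
      apply hc3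
      rcases hx with rfl | rfl <;> decide +kernel
    · show (a * ψ (1, swap 0 4)) ^ 3 = 1
      rw [hax, ← e5]
      apply hc3
      rcases hx with rfl | rfl <;> decide +kernel
    · exact h3 _ _ (by decide +kernel)
    · exact h3 _ _ (by decide +kernel)
    · exact h3 _ _ (by decide +kernel)) (by
    have k0 : ψ (swap 0 1, 1) * a = a * ψ (swap 0 1, 1) := by
      rw [hax, ← e1]
      apply hccm
      rcases hx with rfl | rfl <;> decide +kernel
    have k5 : a * ψ (1, swap 1 2) = ψ (1, swap 1 2) * a := by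
      rw [hax, ← e3]
      apply hccm
      rcases hx with rfl | rfl <;> decide +kernel
    have k6 : a * ψ (1, swap 2 3) = ψ (1, swap 2 3) * a := by
      rw [hax, ← e4]
      apply hccm
      rcases hx with rfl | rfl <;> decide +kernel
    intro i j hij
    fin_cases i <;> fin_cases j <;> first
      | (exfalso; revert hij; decide)
      | exact k0
      | exact k5
      | exact k6
      | exact hab
      | exact hcm _ _ (by decide +kernel))
  have g0 := hf' 0
  have g1 := hf' 1
  have g2 := hf' 2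
  have g3 := hf' 3
  have g4 := hf' 4
  have g5 := hf' 5
  have g6 := hf' 6
  -- relabel
  let f : Perm (Fin 8) →* G := f'.comp (MulAut.conj lab⁻¹).toMonoidHom
  have hf : ∀ p, f p = f' (lab⁻¹ * p * lab) := by
    intro p
    show f' (lab⁻¹ * p * lab⁻¹⁻¹) = _
    rw [inv_inv]
  have hfe : ∀ k, f (emb k) = ψ k := by
    intro k
    show (f.comp emb) k = ψ k
    apply genPP
    · show f (emb (swap 0 1, 1)) = _
      rw [hf]
      have : (lab⁻¹ * emb (swap 0 1, 1) * lab : Perm (Fin 8)) = swap (0 : Fin 7).castSucc (0 : Fin 7).succ := by decide +kernel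
      rw [this]; exact g0
    · show f (emb (swap 1 2, 1)) = _
      rw [hf]
      have : (lab⁻¹ * emb (swap 1 2, 1) * lab : Perm (Fin 8)) = swap (1 : Fin 7).castSucc (1 : Fin 7).succ := by decide +kernel
      rw [this]; exact g1
    · show f (emb (1, swap 0 4)) = _
      rw [hf]
      have : (lab⁻¹ * emb (1, swap 0 4) * lab : Perm (Fin 8)) = swap (3 : Fin 7).castSucc (3 : Fin 7).succ := by decide +kernel
      rw [this]; exact g3
    · show f (emb (1, swap 4 1)) = _
      rw [hf]
      have : (lab⁻¹ * emb (1, swap 4 1) * lab : Perm (Fin 8)) = swap (4 : Fin 7).castSucc (4 : Fin 7).succ := by decide +kernel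
      rw [this]; exact g4
    · show f (emb (1, swap 1 2)) = _
      rw [hf]
      have : (lab⁻¹ * emb (1, swap 1 2) * lab : Perm (Fin 8)) = swap (5 : Fin 7).castSucc (5 : Fin 7).succ := by decide +kernel
      rw [this]; exact g5
    · show f (emb (1, swap 2 3)) = _
      rw [hf]
      have : (lab⁻¹ * emb (1, swap 2 3) * lab : Perm (Fin 8)) = swap (6 : Fin 7).castSucc (6 : Fin 7).succ := by decide +kernel
      rw [this]; exact g6
  refine ⟨f, ?_, hfe⟩
  apply inj8 f (emb (c3, 1)) (by decide +kernel)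
  rw [hfe]
  intro h1
  have := h.inj (h1.trans (map_one ψ).symm)
  revert this
  decide +kernel

end H75.RU3
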