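import Cfsg.Agent.Lib.H43.GL2Count
import Cfsg.Agent.Lib.H43.SL2Conj
import Cfsg.Agent.Lib.H45.SL2TorusCard
import Cfsg.Agent.Lib.H6.SL2Tor
import Cfsg.Agent.S0261

set_option linter.all false

/-! Redundant Sylow subgroups of `SL₂(q)`. -/

namespace H75.SL2Red

open Matrix H43.GL2Basic H43.GL2Count

variable {F : Type*} [Field F]

local notation "S2" F => Matrix.SpecialLinearGroup (Fin 2) F

theorem coe_comm {a b : S2 F} (h : a * b = b * a) : a.1 * b.1 = b.1 * a.1 := congrArg Subtype.val h

theorem comm_of_comm {z a b : S2 F} (hz : ¬ IsScal z.1) (ha : a * z = z * a) (hb : b * z = z * b) :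
    a * b = b * a := by
  obtain ⟨x, y, h1⟩ := (commute_iff hz a.1).1 (coe_comm ha.symm)
  obtain ⟨x', y', h2⟩ := (commute_iff hz b.1).1 (coe_comm hb.symm)
  apply Subtype.ext
  change a.1 * b.1 = b.1 * a.1
  rw [h1, h2]
  simp only [add_mul, mul_add, smul_mul_assoc, mul_smul_comm, one_mul, mul_one, smul_smul, smul_add]
  rw [mul_comm x x', mul_comm y y', mul_comm x y', mul_comm y x']
  abel

theorem conj_eq (h2 : (2 : F) ≠ 0) {z g : S2 F} (hz : ¬ IsScal z.1) (ht : z.1.trace ^ 2 ≠ 4)
    (hc : (g * z * g⁻¹) * z = z * (g * z * g⁻¹)) : g * z * g⁻¹ = z ∨ g * z * g⁻¹ = z⁻¹ := by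
  set w := g * z * g⁻¹ with hw
  obtain ⟨x, y, h1⟩ := (commute_iff hz w.1).1 (coe_comm hc.symm)
  have htr : w.1.trace = z.1.trace := by
    have : w.1 = g.1 * z.1 * (g⁻¹ : S2 F).1 := rfl
    rw [this, Matrix.trace_mul_comm, ← mul_assoc]
    have : (g⁻¹ : S2 F).1 * g.1 = 1 := by
      have := congrArg Subtype.val (inv_mul_cancel g)
      exact this
    rw [this, one_mul]
  have hdet : w.1.det = 1 := w.2
  have hzdet : z.1.det = 1 := z.2
  rw [h1, det_poly, hzdet] at hdet
  rw [h1, Matrix.trace_add, Matrix.trace_smul, Matrix.trace_smul, Matrix.trace_one,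
    Fintype.card_fin] at htr
  simp only [smul_eq_mul, Nat.cast_ofNat] at htr
  set t := z.1.trace with htdef
  have key : (t ^ 2 - 4) * (1 - y ^ 2) = 0 := by
    linear_combination 4 * hdet - (2 * x + t * y + t) * htr
  have hy : y ^ 2 = 1 := by
    rcases mul_eq_zero.1 key with h | h
    · exact absurd (by linear_combination h) ht
    · linear_combination -h
  have hy' : y = 1 ∨ y = -1 := by
    rcases mul_eq_zero.1 (show (y - 1) * (y + 1) = 0 by linear_combination hy) with h | h
    · left; linear_combination h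
    · right; linear_combination h
  rcases hy' with h | h
  · left
    apply Subtype.ext
    have hx : x = 0 := by
      apply mul_left_cancel₀ h2
      rw [h] at htr
      linear_combination htr
    rw [h1, hx, h, zero_smul, one_smul, zero_add]
  · right
    have hx : x = t := by
      apply mul_left_cancel₀ h2
      rw [h] at htr
      linear_combination htr
    have hinv : (z⁻¹ : S2 F).1 = t • (1 : Matrix (Fin 2) (Fin 2) F) - z.1 := by
      have e1 := sq_eq z.1
      rw [hzdet, one_smul, ← htdef] at e1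
      have e2 : z.1 * (z⁻¹ : S2 F).1 = 1 := congrArg Subtype.val (mul_inv_cancel z)
      have e4 : (z⁻¹ : S2 F).1 * z.1 = 1 := congrArg Subtype.val (inv_mul_cancel z)
      have e3 : z.1 * (t • (1 : Matrix (Fin 2) (Fin 2) F) - z.1) = 1 := by
        rw [mul_sub, e1, mul_smul_comm, mul_one]; abel
      calc (z⁻¹ : S2 F).1 = (z⁻¹ : S2 F).1 * (z.1 * (t • (1 : Matrix (Fin 2) (Fin 2) F) - z.1)) := by
            rw [e3, mul_one]
        _ = _ := by rw [← mul_assoc, e4, one_mul]
    apply Subtype.ext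
    rw [h1, hx, h, hinv, neg_smul, one_smul, sub_eq_add_neg]

/-- elements of finite order prime to the characteristic -/
theorem trace_sq_ne (h2 : (2 : F) ≠ 0) {z : S2 F} (hz : ¬ IsScal z.1) {n : ℕ} (hn : (n : F) ≠ 0)
    (hzn : z ^ n = 1) : z.1.trace ^ 2 ≠ 4 := by
  intro ht
  set t := z.1.trace with htd
  obtain ⟨e, he, hte⟩ : ∃ e : F, e * e = 1 ∧ t = 2 * e := by
    refine ⟨t / 2, ?_, ?_⟩
    · field_simp
      linear_combination ht
    · field_simp
  set N := z.1 - e • (1 : Matrix (Fin 2) (Fin 2) F) with hN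
  have hsq := sq_eq z.1
  rw [z.2, one_smul, ← htd, hte] at hsq
  have hNN : N * N = 0 := by
    rw [hN, sub_mul, mul_sub, mul_sub, hsq]
    simp only [smul_mul_assoc, mul_smul_comm, one_mul, mul_one, smul_smul, he, one_smul]
    rw [two_mul, add_smul]
    abel
  have hzN : z.1 = e • (1 : Matrix (Fin 2) (Fin 2) F) + N := by rw [hN]; abel
  have hpow : ∀ m : ℕ, z.1 ^ m = e ^ m • (1 : Matrix (Fin 2) (Fin 2) F) + ((m : F) * e ^ (m + 1)) • N := by
    intro m
    induction m with
    | zero => simp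
    | succ m ih =>
      rw [pow_succ, ih]
      conv_lhs => rw [hzN]
      rw [add_mul, mul_add, mul_add]
      simp only [smul_mul_assoc, mul_smul_comm, one_mul, mul_one, smul_smul, hNN, smul_zero,
        add_zero]
      have h3 : e ^ m = e ^ (m + 1 + 1) := by
        rw [pow_succ, pow_succ, mul_assoc, he, mul_one]
      rw [show e * e ^ m = e ^ (m + 1) by rw [pow_succ, mul_comm]]
      rw [add_assoc]
      congr 1
      rw [← add_smul]
      congr 1
      push_cast
      rw [h3]
      ring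
  have h1 : z.1 ^ n = 1 := by
    have := congrArg Subtype.val hzn
    exact this
  rw [hpow] at h1
  apply hz
  rw [isScal_iff]
  have he0 : e ≠ 0 := by rintro rfl; simp at he
  have h5 : (n : F) * e ^ (n + 1) ≠ 0 := mul_ne_zero hn (pow_ne_zero _ he0)
  have h4 : N = (((n : F) * e ^ (n + 1))⁻¹ * (1 - e ^ n)) • (1 : Matrix (Fin 2) (Fin 2) F) := by
    rw [mul_smul, sub_smul, one_smul, eq_inv_smul_iff₀ h5]
    exact eq_sub_of_add_eq' h1
  refine ⟨e + (((n : F) * e ^ (n + 1))⁻¹ * (1 - e ^ n)), ?_⟩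
  rw [add_smul, ← h4, ← hzN]

theorem card_cent [Fintype F] {z : S2 F} (ht : z.1.trace ^ 2 ≠ 4) :
    Nat.card (Subgroup.centralizer ({z} : Set (S2 F))) = Fintype.card F - 1 ∨
    Nat.card (Subgroup.centralizer ({z} : Set (S2 F))) = Fintype.card F + 1 := by
  by_cases h : HasEig (z : Matrix (Fin 2) (Fin 2) F)
  · left
    obtain ⟨c, hc⟩ := (hasEig_iff _).1 h
    rw [show (z : Matrix (Fin 2) (Fin 2) F).det = 1 from z.2] at hc
    refine sl_card_centralizer_split z c ((z : Matrix (Fin 2) (Fin 2) F).trace - c) ?_ (by ring) ?_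
    · intro h1
      apply ht
      have h3 : (z : Matrix (Fin 2) (Fin 2) F).trace = 2 * c := by linear_combination -h1
      change (z : Matrix (Fin 2) (Fin 2) F).trace ^ 2 = 4
      rw [h3] at hc ⊢
      linear_combination -4 * hc
    · linear_combination -hc
  · right
    exact sl_card_centralizer_aniso z h

theorem isScal_eq {z : S2 F} (hz : IsScal z.1) : z = 1 ∨ z = -1 :=
  H43.SL2Conj.eq_one_or_neg_one_of_isScal z hz

theorem scal_comm {z : S2 F} (hz : IsScal z.1) (a : S2 F) : a * z = z * a := by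
  rcases isScal_eq hz with rfl | rfl
  · rw [mul_one, one_mul]
  · rw [mul_neg, neg_mul, mul_one, one_mul]

variable {p : ℕ} [hpF : Fact p.Prime]

/-- a `p`-group containing everything commuting with it -/
theorem mem_of_commute {G : Type*} [Group G] [Finite G] (P : Sylow p G) {g : G} {n : ℕ}
    (hg : g ^ p ^ n = 1) (hc : ∀ x ∈ (P : Subgroup G), x * g = g * x) : g ∈ (P : Subgroup G) := by
  have h2 : IsPGroup p (Subgroup.zpowers g) := by
    have : orderOf g ∣ p ^ n := orderOf_dvd_of_pow_eq_one hg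
    obtain ⟨k, _, hk⟩ := (Nat.dvd_prime_pow hpF.out).1 this
    exact IsPGroup.of_card (by rw [Nat.card_zpowers, hk])
  have h3 : (P : Subgroup G) ≤ Subgroup.normalizer ((Subgroup.zpowers g : Subgroup G) : Set G) := by
    intro x hx
    apply Subgroup.centralizer_le_normalizer
    rw [Subgroup.mem_centralizer_iff]
    intro y hy
    obtain ⟨k, rfl⟩ := Subgroup.mem_zpowers_iff.1 hy
    exact ((show Commute g x from (hc x hx).symm).zpow_left k).eq
  have h4 := IsPGroup.to_sup_of_normal_right' P.isPGroup' h2 h3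
  have h5 := P.is_maximal' h4 le_sup_left
  rw [← h5]
  exact Subgroup.mem_sup_right (Subgroup.mem_zpowers g)

/-- If every nontrivial `p`-element is non-scalar, Sylow subgroups are abelian and TI. -/
theorem not_red_of_nonscal [Fintype F]
    (hns : ∀ z : S2 F, ∀ n : ℕ, z ^ p ^ n = 1 → z ≠ 1 → ¬ IsScal z.1) :
    ¬ ∃ Q : Sylow p (S2 F), ∀ x : S2 F, (∃ k : ℕ, orderOf x = p ^ k) →
      ∃ P : Sylow p (S2 F), P ≠ Q ∧ x ∈ P := by
  classical
  have habel : ∀ P : Sylow p (S2 F), ∀ a ∈ (P : Subgroup (S2 F)), ∀ b ∈ (P : Subgroup (S2 F)),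
      a * b = b * a := by
    intro P a ha b hb
    by_cases hP : Subsingleton (P : Subgroup (S2 F))
    · have := congrArg Subtype.val (Subsingleton.elim (⟨a, ha⟩ : (P : Subgroup (S2 F))) ⟨b, hb⟩)
      simp only at this
      rw [this]
    · rw [not_subsingleton_iff_nontrivial] at hP
      have hc : Nontrivial (Subgroup.center (P : Subgroup (S2 F))) := P.isPGroup'.center_nontrivial
      obtain ⟨⟨z, hz⟩, hz1⟩ := exists_ne (1 : Subgroup.center (P : Subgroup (S2 F)))
      rw [Subgroup.mem_center_iff] at hz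
      have hz1' : (z : S2 F) ≠ 1 := by
        intro h
        apply hz1
        apply Subtype.ext
        apply Subtype.ext
        exact h
      obtain ⟨n, hn⟩ := P.isPGroup' z
      have hnz := hns (z : S2 F) n (by
        have := congrArg Subtype.val hn
        simpa using this) hz1'
      exact comm_of_comm hnz (congrArg Subtype.val (hz ⟨a, ha⟩)) (congrArg Subtype.val (hz ⟨b, hb⟩))
  rintro ⟨Q, hQ⟩
  by_cases hQ1 : ∃ x ∈ (Q : Subgroup (S2 F)), x ≠ 1
  · obtain ⟨x, hx, hx1⟩ := hQ1
    obtain ⟨n, hn⟩ := Q.isPGroup' ⟨x, hx⟩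
    have hn' : x ^ p ^ n = 1 := by
      have := congrArg Subtype.val hn
      simpa using this
    have hord : ∃ k, orderOf x = p ^ k := by
      obtain ⟨k, _, hk⟩ := (Nat.dvd_prime_pow hpF.out).1 (orderOf_dvd_of_pow_eq_one hn')
      exact ⟨k, hk⟩
    obtain ⟨P, hPQ, hxP⟩ := hQ x hord
    apply hPQ
    have hnx := hns x n hn' hx1
    have hle : (Q : Subgroup (S2 F)) ≤ (P : Subgroup (S2 F)) := by
      intro y hy
      obtain ⟨m, hm⟩ := Q.isPGroup' ⟨y, hy⟩
      refine mem_of_commute P (n := m) (by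
        have := congrArg Subtype.val hm
        simpa using this) ?_
      intro a ha
      exact comm_of_comm hnx (habel P a ha x hxP) (habel Q y hy x hx)
    have := Q.is_maximal' P.isPGroup' hle
    exact Sylow.ext this
  · push Not at hQ1
    obtain ⟨P, hPQ, _⟩ := hQ 1 ⟨0, by simp⟩
    apply hPQ
    have h1 : (Q : Subgroup (S2 F)) ≤ (P : Subgroup (S2 F)) := by
      intro x hx
      rw [hQ1 x hx]
      exact one_mem _
    exact Sylow.ext (Q.is_maximal' P.isPGroup' h1)

end H75.SL2Red
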