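import Cfsg.Agent.Lib.H75.SL2Red
import Cfsg.Agent.Lib.H75.GLpMain
import Cfsg.Agent.Lib.H21.SylowTools
import Cfsg.Agent.Lib.H40.SL2Tori

set_option linter.all false

namespace H75.SL2Red

open Matrix H43.GL2Basic H43.GL2Count

variable {F : Type*} [Field F] [Fintype F]

local notation "S2" F => Matrix.SpecialLinearGroup (Fin 2) F

theorem quat_noncomm {k : ℕ} (hk : 1 ≤ k) :
    (QuaternionGroup.a 1 * QuaternionGroup.xa 0 : QuaternionGroup (2 ^ k)) ≠
      QuaternionGroup.xa 0 * QuaternionGroup.a 1 := by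
  rw [QuaternionGroup.a_mul_xa, QuaternionGroup.xa_mul_a]
  intro h
  have h1 := QuaternionGroup.xa.inj h
  have h2 : ((2 : ℕ) : ZMod (2 * 2 ^ k)) = 0 := by
    push_cast
    linear_combination -h1
  rw [ZMod.natCast_eq_zero_iff] at h2
  have h3 := Nat.le_of_dvd (by norm_num) h2
  have h4 : 2 ≤ 2 ^ k := by
    calc 2 = 2 ^ 1 := by norm_num
      _ ≤ 2 ^ k := Nat.pow_le_pow_right (by norm_num) hk
  omega

theorem two_ne {F : Type*} [Field F] [Fintype F] (hF : Odd (Fintype.card F)) : (2 : F) ≠ 0 :=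
  H6.SL2Tor.two_ne_zero_of_odd hF

theorem sylow_data (hF : Odd (Fintype.card F)) (Q : Sylow 2 (S2 F)) :
    ∃ k : ℕ, 1 ≤ k ∧ Nat.card (Q : Subgroup (S2 F)) = 2 ^ (k + 2) ∧
      ∃ x ∈ (Q : Subgroup (S2 F)), ∃ y ∈ (Q : Subgroup (S2 F)), orderOf x = 2 ^ (k + 1) ∧
        x * y ≠ y * x := by
  obtain ⟨k, hk, ⟨e⟩⟩ := Cfsg.Agent.S0261.result hF Q
  have hne : NeZero (2 ^ k) := ⟨by positivity⟩
  refine ⟨k, hk, ?_, (e.symm (QuaternionGroup.a 1) : S2 F), (e.symm (QuaternionGroup.a 1)).2,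
    (e.symm (QuaternionGroup.xa 0) : S2 F), (e.symm (QuaternionGroup.xa 0)).2, ?_, ?_⟩
  · rw [Nat.card_congr e.toEquiv, Nat.card_eq_fintype_card, QuaternionGroup.card]
    rw [pow_add]; ring
  · rw [Subgroup.orderOf_coe, MulEquiv.orderOf_eq, QuaternionGroup.orderOf_a_one, pow_succ]; ring
  · intro h
    have h1 : e.symm (QuaternionGroup.a 1) * e.symm (QuaternionGroup.xa 0) =
        e.symm (QuaternionGroup.xa 0) * e.symm (QuaternionGroup.a 1) := Subtype.ext h
    rw [← map_mul, ← map_mul] at h1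
    exact quat_noncomm hk (e.symm.injective h1)

theorem unique_of_pow (hF : Odd (Fintype.card F)) {m : ℕ} (hm : 2 ≤ m)
    (hq : Fintype.card F + 1 = 2 ^ m ∨ Fintype.card F = 2 ^ m + 1) (Q : Sylow 2 (S2 F)) :
    ∃ x : S2 F, (∃ k : ℕ, orderOf x = 2 ^ k) ∧ ∀ P : Sylow 2 (S2 F), x ∈ P → P = Q := by
  classical
  have h2 := two_ne hF
  obtain ⟨k, hk, hcard, x, hxQ, y, hyQ, hx, hxy⟩ := sylow_data hF Q
  have hm' : 2 ^ m = 2 * 2 ^ (m - 1) := by
    rw [← pow_succ']; congr 1; omega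
  have hm1 : 2 ^ (m - 1) = 2 * 2 ^ (m - 2) := by
    rw [← pow_succ']; congr 1; omega
  have hpos : 1 ≤ 2 ^ (m - 2) := Nat.one_le_two_pow
  have hSL : ∃ r, Nat.card (S2 F) = 2 ^ (m + 1) * r ∧ ¬ 2 ∣ r := by
    rw [H40.SL2Tori.card_SL2]
    rcases hq with hq | hq
    · refine ⟨Fintype.card F * (2 ^ (m - 1) - 1), ?_, ?_⟩
      · have e1 : Fintype.card F - 1 = 2 * (2 ^ (m - 1) - 1) := by omega
        rw [hq, e1, pow_succ]; ring
      · intro h
        rcases (Nat.Prime.dvd_mul Nat.prime_two).1 h with h | h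
        · rw [Nat.odd_iff] at hF; omega
        · omega
    · refine ⟨Fintype.card F * (2 ^ (m - 1) + 1), ?_, ?_⟩
      · have e1 : Fintype.card F - 1 = 2 ^ m := by omega
        have e2 : Fintype.card F + 1 = 2 * (2 ^ (m - 1) + 1) := by omega
        rw [e1, e2, pow_succ]; ring
      · intro h
        rcases (Nat.Prime.dvd_mul Nat.prime_two).1 h with h | h
        · rw [Nat.odd_iff] at hF; omega
        · omega
  obtain ⟨r, hr, hr2⟩ := hSL
  have hcardP : ∀ P : Sylow 2 (S2 F), Nat.card (P : Subgroup (S2 F)) = 2 ^ (m + 1) :=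
    fun P => H21.SylowTools.card_sylow_eq_pow hr hr2 P
  have hkm : k + 1 = m := by
    have := hcard.symm.trans (hcardP Q)
    have := Nat.pow_right_injective (le_refl 2) this
    omega
  rw [hkm] at hx
  have hxs : ¬ IsScal x.1 := by
    intro h
    exact hxy (scal_comm h y).symm
  have hn : ((2 ^ m : ℕ) : F) ≠ 0 := by push_cast; exact pow_ne_zero _ h2
  have htr := trace_sq_ne h2 hxs hn (by rw [← hx, pow_orderOf_eq_one])
  have hxC : x ∈ Subgroup.centralizer ({x} : Set (S2 F)) := by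
    rw [Subgroup.mem_centralizer_singleton_iff]
  have hdvd : 2 ^ m ∣ Nat.card (Subgroup.centralizer ({x} : Set (S2 F))) := by
    rw [← hx]
    have := orderOf_dvd_natCard (⟨x, hxC⟩ : Subgroup.centralizer ({x} : Set (S2 F)))
    rwa [← Subgroup.orderOf_coe] at this
  have hC : Nat.card (Subgroup.centralizer ({x} : Set (S2 F))) = 2 ^ m := by
    rcases card_cent htr with h | h
    · rcases hq with hq | hq
      · exfalso
        rw [h] at hdvd
        have := Nat.le_of_dvd (by omega) hdvd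
        omega
      · rw [h]; omega
    · rcases hq with hq | hq
      · rw [h, hq]
      · exfalso
        rw [h] at hdvd
        have h3 : 2 ^ m ∣ 2 := by
          have : Fintype.card F + 1 = 2 ^ m + 2 := by omega
          rw [this] at hdvd
          exact (Nat.dvd_add_right (dvd_refl _)).1 hdvd
        have := Nat.le_of_dvd (by norm_num) h3
        omega
  have hCz : Subgroup.centralizer ({x} : Set (S2 F)) = Subgroup.zpowers x := by
    symm
    apply Subgroup.eq_of_le_of_card_ge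
    · rw [Subgroup.zpowers_le]; exact hxC
    · rw [hC, Nat.card_zpowers, hx]
  have hconj : ∀ P : Sylow 2 (S2 F), x ∈ P → ∀ y ∈ (P : Subgroup (S2 F)),
      y * x * y⁻¹ = x ∨ y * x * y⁻¹ = x⁻¹ := by
    intro P hxP y hy
    have hidx : ((Subgroup.zpowers x).subgroupOf (P : Subgroup (S2 F))).index = 2 := by
      have hle : Subgroup.zpowers x ≤ (P : Subgroup (S2 F)) := by
        rw [Subgroup.zpowers_le]; exact hxP
      have h1 := ((Subgroup.zpowers x).subgroupOf (P : Subgroup (S2 F))).index_mul_card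
      rw [Nat.card_congr (Subgroup.subgroupOfEquivOfLe hle).toEquiv, Nat.card_zpowers, hx,
        hcardP, pow_succ] at h1
      have : 0 < 2 ^ m := by positivity
      nlinarith
    have hnorm := Subgroup.normal_of_index_eq_two hidx
    have hmem := hnorm.conj_mem ⟨x, hxP⟩ (by
      rw [Subgroup.mem_subgroupOf]; exact Subgroup.mem_zpowers x) ⟨y, hy⟩
    rw [Subgroup.mem_subgroupOf] at hmem
    have hmem' : y * x * y⁻¹ ∈ Subgroup.zpowers x := hmem
    rw [← hCz, Subgroup.mem_centralizer_singleton_iff] at hmem'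
    exact conj_eq h2 hxs htr hmem'
  obtain ⟨y0, hy0, hy0x⟩ : ∃ y0 ∈ (Q : Subgroup (S2 F)), y0 * x * y0⁻¹ = x⁻¹ := by
    by_contra hcon
    push Not at hcon
    have : (Q : Subgroup (S2 F)) ≤ Subgroup.centralizer ({x} : Set (S2 F)) := by
      intro y hy
      have := (hconj Q hxQ y hy).resolve_right (hcon y hy)
      rw [Subgroup.mem_centralizer_singleton_iff]
      rw [mul_inv_eq_iff_eq_mul] at this
      first
        | exact this
        | exact this.symm
    have := Subgroup.card_le_of_le this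
    rw [hcardP, hC, pow_succ] at this
    have : 0 < 2 ^ m := by positivity
    omega
  refine ⟨x, ⟨m, hx⟩, fun P hxP => ?_⟩
  have hle : (P : Subgroup (S2 F)) ≤ (Q : Subgroup (S2 F)) := by
    intro y hy
    have hzQ : Subgroup.zpowers x ≤ (Q : Subgroup (S2 F)) := by
      rw [Subgroup.zpowers_le]; exact hxQ
    rcases hconj P hxP y hy with h | h
    · apply hzQ
      rw [← hCz, Subgroup.mem_centralizer_singleton_iff]
      rw [mul_inv_eq_iff_eq_mul] at h
      first
        | exact h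
        | exact h.symm
    · have h3 : y0⁻¹ * y ∈ Subgroup.zpowers x := by
        rw [← hCz, Subgroup.mem_centralizer_singleton_iff]
        have e1 : (y0⁻¹ * y) * x * (y0⁻¹ * y)⁻¹ = x := by
          have : (y0⁻¹ * y) * x * (y0⁻¹ * y)⁻¹ = y0⁻¹ * (y * x * y⁻¹) * y0 := by group
          rw [this, h, ← hy0x]
          group
        rw [mul_inv_eq_iff_eq_mul] at e1
        first
          | exact e1
          | exact e1.symm
      have h4 := (Q : Subgroup (S2 F)).mul_mem hy0 (hzQ h3)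
      rwa [mul_inv_cancel_left] at h4
  exact (Sylow.ext (P.is_maximal' Q.isPGroup' hle)).symm

theorem red (hF : Odd (Fintype.card F)) (h1 : ¬ ∃ k : ℕ, Fintype.card F + 1 = 2 ^ k)
    (h3 : ¬ ∃ k : ℕ, Fintype.card F = 2 ^ k + 1) (Q : Sylow 2 (S2 F)) (x : S2 F)
    (hx : ∃ k : ℕ, orderOf x = 2 ^ k) : ∃ P : Sylow 2 (S2 F), P ≠ Q ∧ x ∈ P := by
  classical
  by_contra hcon
  have h2 := two_ne hF
  have hcon' : ∀ P : Sylow 2 (S2 F), x ∈ P → P = Q := by
    intro P hP
    by_contra h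
    exact hcon ⟨P, h, hP⟩
  obtain ⟨n, hn⟩ := hx
  have hxn : x ^ 2 ^ n = 1 := by rw [← hn, pow_orderOf_eq_one]
  obtain ⟨k, hk, hcard, a, haQ, b, hbQ, ha, hab⟩ := sylow_data hF Q
  -- nonscalar element in a unique Sylow
  obtain ⟨z, hzQ, hzs, hzu⟩ : ∃ z ∈ (Q : Subgroup (S2 F)), ¬ IsScal z.1 ∧
      ∀ P : Sylow 2 (S2 F), z ∈ P → P = Q := by
    by_cases hxs : IsScal x.1
    · refine ⟨a, haQ, fun h => hab (scal_comm h b).symm, fun P _ => hcon' P ?_⟩
      exact mem_of_commute P hxn fun y _ => scal_comm hxs y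
    · have hpg : IsPGroup 2 (Subgroup.zpowers x) :=
        IsPGroup.of_card (by rw [Nat.card_zpowers, hn])
      obtain ⟨P, hP⟩ := hpg.exists_le_sylow
      have hxP : x ∈ P := hP (Subgroup.mem_zpowers x)
      have := hcon' P hxP
      subst this
      exact ⟨x, hxP, hxs, hcon'⟩
  obtain ⟨l, hl⟩ := Q.isPGroup' ⟨z, hzQ⟩
  have hzl : z ^ 2 ^ l = 1 := by
    have := congrArg Subtype.val hl
    simpa using this
  have htr := trace_sq_ne h2 hzs (n := 2 ^ l) (by push_cast; exact pow_ne_zero _ h2) hzl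
  -- centraliser normalises Q
  have hnorm : ∀ c : S2 F, c * z = z * c → ∀ y ∈ (Q : Subgroup (S2 F)), c * y * c⁻¹ ∈ (Q : Subgroup (S2 F)) := by
    intro c hc y hy
    have hz1 : z ∈ ((c • Q : Sylow 2 (S2 F)) : Subgroup (S2 F)) := by
      apply H75.GLp.mem_conj_sylow
      rw [mul_assoc, ← hc, inv_mul_cancel_left]; exact hzQ
    have h4 := hzu _ hz1
    rw [← h4]
    apply H75.GLp.mem_conj_sylow
    have : c⁻¹ * (c * y * c⁻¹) * c = y := by group
    rw [this]; exact hy
  -- inverting element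
  obtain ⟨y, hyQ, hyz, hyne⟩ : ∃ y ∈ (Q : Subgroup (S2 F)), y * z * y⁻¹ = z⁻¹ ∧ y * z ≠ z * y := by
    set K := (Subgroup.centralizer ({z} : Set (S2 F))).subgroupOf (Q : Subgroup (S2 F)) with hK
    have hKmem : ∀ w : (Q : Subgroup (S2 F)), w ∈ K ↔ (w : S2 F) * z = z * w := by
      intro w
      rw [hK, Subgroup.mem_subgroupOf, Subgroup.mem_centralizer_singleton_iff]
    have hKtop : K ≠ ⊤ := by
      intro h
      apply hab
      have ea : (⟨a, haQ⟩ : (Q : Subgroup (S2 F))) ∈ K := by rw [h]; trivial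
      have eb : (⟨b, hbQ⟩ : (Q : Subgroup (S2 F))) ∈ K := by rw [h]; trivial
      rw [hKmem] at ea eb
      exact comm_of_comm hzs ea eb
    haveI : Group.IsNilpotent (Q : Subgroup (S2 F)) := Q.isPGroup'.isNilpotent
    have hlt := Group.normalizerCondition_of_isNilpotent K (lt_top_iff_ne_top.2 hKtop)
    obtain ⟨y, hy1, hy2⟩ := Set.exists_of_ssubset hlt
    have hzK : (⟨z, hzQ⟩ : (Q : Subgroup (S2 F))) ∈ K := by rw [hKmem]
    have h5 : y * ⟨z, hzQ⟩ * y⁻¹ ∈ K := (Subgroup.mem_normalizer_iff.1 hy1 _).1 hzK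
    rw [hKmem] at h5
    have h6 : ((y : S2 F) * z * (y : S2 F)⁻¹) * z = z * ((y : S2 F) * z * (y : S2 F)⁻¹) := h5
    have hyK : ¬ ((y : S2 F) * z = z * y) := fun h => hy2 ((hKmem y).2 h)
    rcases conj_eq h2 hzs htr h6 with h | h
    · exfalso
      rw [mul_inv_eq_iff_eq_mul] at h
      exact hyK h
    · exact ⟨y, y.2, h, hyK⟩
  -- odd element
  obtain ⟨r, hr, hrd, hrodd⟩ : ∃ r, r.Prime ∧ r ∣ Nat.card (Subgroup.centralizer ({z} : Set (S2 F))) ∧ Odd r := by
    rcases Nat.eq_two_pow_or_exists_odd_prime_and_dvd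
      (Nat.card (Subgroup.centralizer ({z} : Set (S2 F)))) with ⟨k', hk'⟩ | h
    · exfalso
      have hq1 : 1 < Fintype.card F := Fintype.one_lt_card
      rcases card_cent htr with h | h
      · exact h3 ⟨k', by omega⟩
      · exact h1 ⟨k', by omega⟩
    · exact h
  haveI : Fact r.Prime := ⟨hr⟩
  have hrF : (r : F) ≠ 0 := by
    intro h0
    have h4 : ringChar F ∣ r := ringChar.dvd h0
    have hne1 : ringChar F ≠ 1 := CharP.ringChar_ne_one
    have h5 : ringChar F = r := ((Nat.dvd_prime hr).1 h4).resolve_left hne1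
    have h6 : ringChar F ∣ Fintype.card F := ringChar.dvd (Nat.cast_card_eq_zero F)
    rw [h5] at h6
    have hq1 : 1 < Fintype.card F := Fintype.one_lt_card
    rcases card_cent htr with h | h
    · rw [h] at hrd
      have h7 : r ∣ Fintype.card F - (Fintype.card F - 1) := Nat.dvd_sub h6 hrd
      have : Fintype.card F - (Fintype.card F - 1) = 1 := by omega
      rw [this] at h7
      exact hr.one_lt.ne' (Nat.dvd_one.1 h7)
    · rw [h] at hrd
      have h7 := (Nat.dvd_add_right h6).1 hrd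
      exact hr.one_lt.ne' (Nat.dvd_one.1 h7)
  obtain ⟨⟨g, hgC⟩, hg⟩ := exists_prime_orderOf_dvd_card' r hrd
  rw [← Subgroup.orderOf_coe] at hg
  change orderOf g = r at hg
  have hgz : g * z = z * g := by
    rw [Subgroup.mem_centralizer_singleton_iff] at hgC
    first
      | exact hgC
      | exact hgC.symm
  have hgr : g ^ r = 1 := by rw [← hg, pow_orderOf_eq_one]
  have hgs : ¬ IsScal g.1 := by
    intro h
    have hg2 : g ^ 2 = 1 := by
      rcases isScal_eq h with rfl | rfl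
      · simp
      · simp
    have := orderOf_dvd_of_pow_eq_one hg2
    rw [hg] at this
    have h8 := (Nat.prime_dvd_prime_iff_eq hr Nat.prime_two).1 this
    rw [h8] at hrodd
    exact absurd hrodd (by decide)
  have htrg := trace_sq_ne h2 hgs hrF hgr
  have hc1 : (y * g * y⁻¹) * z = z * (y * g * y⁻¹) := by
    have e1 : (y * g * y⁻¹) * (y * z * y⁻¹) = (y * z * y⁻¹) * (y * g * y⁻¹) := by
      have l1 : (y * g * y⁻¹) * (y * z * y⁻¹) = y * (g * z) * y⁻¹ := by group
      have l2 : (y * z * y⁻¹) * (y * g * y⁻¹) = y * (z * g) * y⁻¹ := by group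
      rw [l1, l2, hgz]
    rw [hyz] at e1
    have e2 : Commute (y * g * y⁻¹) z⁻¹ := e1
    exact ((Commute.inv_right_iff).1 e2).eq
  have hc2 : (y * g * y⁻¹) * g = g * (y * g * y⁻¹) := comm_of_comm hzs hc1 hgz
  rcases conj_eq h2 hgs htrg hc2 with h | h
  · rw [mul_inv_eq_iff_eq_mul] at h
    exact hyne (comm_of_comm hgs h hgz.symm)
  · have h9 := hnorm g hgz y hyQ
    have h10 := (Q : Subgroup (S2 F)).mul_mem h9 ((Q : Subgroup (S2 F)).inv_mem hyQ)
    have h11 : g * y * g⁻¹ * y⁻¹ = g * (y * g * y⁻¹)⁻¹ := by group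
    rw [h11, h, inv_inv] at h10
    obtain ⟨t, ht⟩ := Q.isPGroup' ⟨g * g, h10⟩
    have ht' : (g * g) ^ 2 ^ t = 1 := by
      have := congrArg Subtype.val ht
      simpa using this
    rw [← pow_two, ← pow_mul, ← pow_succ'] at ht'
    have h12 := orderOf_dvd_of_pow_eq_one ht'
    rw [hg] at h12
    have h13 := hr.dvd_of_dvd_pow h12
    have h8 := (Nat.prime_dvd_prime_iff_eq hr Nat.prime_two).1 h13
    rw [h8] at hrodd
    exact absurd hrodd (by decide)

end H75.SL2Red
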