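import Cfsg.Agent.Lib.H75.SL2Red2

set_option linter.all false

namespace H75.SL2Red

open Matrix H43.GL2Basic

theorem sl_main {F : Type*} [Field F] [Fintype F] (p : ℕ) [hpF : Fact p.Prime] :
    (∃ Q : Sylow p (Matrix.SpecialLinearGroup (Fin 2) F), ∀ x : Matrix.SpecialLinearGroup (Fin 2) F,
        (∃ k : ℕ, orderOf x = p ^ k) → ∃ P : Sylow p (Matrix.SpecialLinearGroup (Fin 2) F), P ≠ Q ∧ x ∈ P) ↔
      (p = 2 ∧ (¬ ∃ k : ℕ, Fintype.card F + 1 = 2 ^ k) ∧ (¬ ∃ k : ℕ, Fintype.card F = 2 ^ k) ∧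
        ¬ ∃ k : ℕ, Fintype.card F = 2 ^ k + 1) := by
  classical
  have hq1 : 1 < Fintype.card F := Fintype.one_lt_card
  have hodd_iff : Odd (Fintype.card F) ∨ (2 : F) = 0 := by
    by_cases h : (2 : F) = 0
    · exact Or.inr h
    · left
      obtain ⟨n, hp, hn⟩ := FiniteField.card F (ringChar F)
      rw [hn]
      have h2 : ringChar F ≠ 2 := by
        intro h2
        apply h
        have := ringChar.Nat.cast_ringChar (R := F)
        rw [h2] at this
        exact_mod_cast this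
      exact (hp.odd_of_ne_two h2).pow
  have hneg : (2 : F) = 0 → (-1 : Matrix.SpecialLinearGroup (Fin 2) F) = 1 := by
    intro h2
    apply Subtype.ext
    have h3 : (-1 : F) = 1 := by linear_combination -h2
    ext i j
    rw [Matrix.SpecialLinearGroup.coe_neg, Matrix.neg_apply]
    have : ((1 : Matrix.SpecialLinearGroup (Fin 2) F) : Matrix (Fin 2) (Fin 2) F) i j = 0 ∨
        ((1 : Matrix.SpecialLinearGroup (Fin 2) F) : Matrix (Fin 2) (Fin 2) F) i j = 1 := by
      rw [Matrix.SpecialLinearGroup.coe_one, Matrix.one_apply]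
      split_ifs
      · exact Or.inr rfl
      · exact Or.inl rfl
    rcases this with h | h
    · rw [h, neg_zero]
    · rw [h, h3]
  constructor
  · intro hred
    have hp2 : p = 2 ∧ (2 : F) ≠ 0 := by
      by_contra hcon
      refine not_red_of_nonscal (F := F) (p := p) ?_ hred
      intro z n hzn hz1 hs
      rcases isScal_eq hs with h | h
      · exact hz1 h
      · by_cases h2 : (2 : F) = 0
        · exact hz1 (by rw [h, hneg h2])
        · have hp : p ≠ 2 := fun hp => hcon ⟨hp, h2⟩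
          have hodd : Odd (p ^ n) := (hpF.out.odd_of_ne_two hp).pow
          rw [h, hodd.neg_one_pow] at hzn
          exact hz1 (by rw [h, hzn])
    obtain ⟨rfl, h2⟩ := hp2
    have hF : Odd (Fintype.card F) := hodd_iff.resolve_right h2
    have hcontra : ∀ m : ℕ, 2 ≤ m → (Fintype.card F + 1 = 2 ^ m ∨ Fintype.card F = 2 ^ m + 1) → False := by
      intro m hm hq
      obtain ⟨Q, hQ⟩ := hred
      obtain ⟨x, hx, hxu⟩ := unique_of_pow hF hm hq Q
      obtain ⟨P, hP, hxP⟩ := hQ x hx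
      exact hP (hxu P hxP)
    rw [Nat.odd_iff] at hF
    refine ⟨rfl, ?_, ?_, ?_⟩
    · rintro ⟨k, hk⟩
      refine hcontra k ?_ (Or.inl hk)
      by_contra hlt
      have : k = 0 ∨ k = 1 := by omega
      rcases this with rfl | rfl
      · norm_num at hk
      · norm_num at hk; omega
    · rintro ⟨k, hk⟩
      rcases Nat.eq_zero_or_pos k with rfl | hk0
      · norm_num at hk; omega
      · have : 2 ∣ 2 ^ k := dvd_pow_self 2 hk0.ne'
        omega
    · rintro ⟨k, hk⟩
      rcases Nat.lt_or_ge k 2 with hk2 | hk2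
      · have : k = 0 ∨ k = 1 := by omega
        rcases this with rfl | rfl
        · norm_num at hk; omega
        · exact hcontra 2 le_rfl (Or.inl (by norm_num at hk ⊢; omega))
      · exact hcontra k hk2 (Or.inr hk)
  · rintro ⟨rfl, h1, hpow, h3⟩
    have hF : Odd (Fintype.card F) := by
      refine hodd_iff.resolve_right fun h2 => hpow ?_
      obtain ⟨n, hp, hn⟩ := FiniteField.card F (ringChar F)
      have h4 : ringChar F ∣ 2 := ringChar.dvd (by exact_mod_cast h2)
      have h5 := (Nat.prime_dvd_prime_iff_eq hp Nat.prime_two).1 h4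
      exact ⟨n, by rw [hn, h5]⟩
    obtain ⟨Q⟩ : Nonempty (Sylow 2 (Matrix.SpecialLinearGroup (Fin 2) F)) := inferInstance
    exact ⟨Q, fun x hx => red hF h1 h3 Q x hx⟩

variable {p : ℕ} [hpF : Fact p.Prime]

theorem mem_of_map {G : Type*} [Group G] [Finite G] (P : Sylow p G) {x : G} {n : ℕ}
    (hx : x ^ p ^ n = 1)
    (h : (QuotientGroup.mk' (Subgroup.center G)) x ∈
      (P : Subgroup G).map (QuotientGroup.mk' (Subgroup.center G))) : x ∈ (P : Subgroup G) := by
  obtain ⟨y, hy, hyx⟩ := h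
  have hz : y⁻¹ * x ∈ Subgroup.center G := by
    rw [← QuotientGroup.eq]
    exact hyx
  obtain ⟨m, hm⟩ := P.isPGroup' ⟨y, hy⟩
  have hm' : y ^ p ^ m = 1 := by
    have := congrArg Subtype.val hm
    simpa using this
  have hzc := Subgroup.mem_center_iff.1 hz
  have hxy : Commute y⁻¹ x := by
    have h1 := hzc y
    -- y * (y⁻¹ * x) = (y⁻¹ * x) * y
    rw [mul_inv_cancel_left] at h1
    have h2 : y * x = x * y := by
      have : y * x = y * (y⁻¹ * x * y) := by rw [← h1]
      rw [this]; group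
    exact (show Commute y x from h2).inv_left
  have hzp : (y⁻¹ * x) ^ p ^ (m + n) = 1 := by
    rw [hxy.mul_pow, pow_add, pow_mul, inv_pow, hm', inv_one, one_pow, one_mul, mul_comm, pow_mul,
      hx, one_pow]
  have h3 : y⁻¹ * x ∈ (P : Subgroup G) := mem_of_commute P hzp fun a _ => hzc a
  have h4 := (P : Subgroup G).mul_mem hy h3
  rwa [mul_inv_cancel_left] at h4

theorem red_quot {G : Type*} [Group G] [Finite G] :
    (∃ Q : Sylow p (G ⧸ Subgroup.center G), ∀ x : G ⧸ Subgroup.center G,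
        (∃ k : ℕ, orderOf x = p ^ k) → ∃ P : Sylow p (G ⧸ Subgroup.center G), P ≠ Q ∧ x ∈ P) ↔
    (∃ Q : Sylow p G, ∀ x : G,
        (∃ k : ℕ, orderOf x = p ^ k) → ∃ P : Sylow p G, P ≠ Q ∧ x ∈ P) := by
  classical
  set π := QuotientGroup.mk' (Subgroup.center G) with hπ
  have hsurj : Function.Surjective π := QuotientGroup.mk'_surjective _
  have hmapsurj := Sylow.mapSurjective_surjective (p := p) hsurj
  have hcoe : ∀ P : Sylow p G, ((P.mapSurjective hsurj : Sylow p (G ⧸ Subgroup.center G)) :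
      Subgroup (G ⧸ Subgroup.center G)) = (P : Subgroup G).map π := fun P => rfl
  have hinj : ∀ P P' : Sylow p G, P.mapSurjective hsurj = P'.mapSurjective hsurj → P = P' := by
    intro P P' h
    have hle : (P : Subgroup G) ≤ (P' : Subgroup G) := by
      intro x hx
      obtain ⟨m, hm⟩ := P.isPGroup' ⟨x, hx⟩
      refine mem_of_map P' (n := m) (by
        have := congrArg Subtype.val hm
        simpa using this) ?_
      rw [← hcoe P', ← h, hcoe P]
      exact Subgroup.mem_map_of_mem _ hx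
    exact (Sylow.ext (P.is_maximal' P'.isPGroup' hle)).symm
  constructor
  · rintro ⟨Q', hQ'⟩
    obtain ⟨Q, rfl⟩ := hmapsurj Q'
    refine ⟨Q, fun x hx => ?_⟩
    obtain ⟨k, hk⟩ := hx
    have hxk : x ^ p ^ k = 1 := by rw [← hk, pow_orderOf_eq_one]
    have h1 : ∃ k, orderOf (π x) = p ^ k := by
      have : orderOf (π x) ∣ p ^ k := orderOf_dvd_of_pow_eq_one (by rw [← map_pow, hxk, map_one])
      obtain ⟨l, _, hl⟩ := (Nat.dvd_prime_pow hpF.out).1 this
      exact ⟨l, hl⟩
    obtain ⟨P', hne, hmem⟩ := hQ' (π x) h1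
    obtain ⟨P, rfl⟩ := hmapsurj P'
    refine ⟨P, fun h => hne (by rw [h]), mem_of_map P hxk hmem⟩
  · rintro ⟨Q, hQ⟩
    refine ⟨Q.mapSurjective hsurj, fun x hx => ?_⟩
    obtain ⟨k, hk⟩ := hx
    have hpg : IsPGroup p (Subgroup.zpowers x) :=
      IsPGroup.of_card (by rw [Nat.card_zpowers, hk])
    obtain ⟨R', hR'⟩ := hpg.exists_le_sylow
    obtain ⟨R, rfl⟩ := hmapsurj R'
    obtain ⟨y, hy, hyx⟩ : ∃ y ∈ (R : Subgroup G), π y = x := hR' (Subgroup.mem_zpowers x)
    obtain ⟨m, hm⟩ := R.isPGroup' ⟨y, hy⟩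
    have hm' : y ^ p ^ m = 1 := by
      have := congrArg Subtype.val hm
      simpa using this
    obtain ⟨l, _, hl⟩ := (Nat.dvd_prime_pow hpF.out).1 (orderOf_dvd_of_pow_eq_one hm')
    obtain ⟨P, hne, hyP⟩ := hQ y ⟨l, hl⟩
    refine ⟨P.mapSurjective hsurj, fun h => hne (hinj _ _ h), ?_⟩
    rw [← hyx]
    exact Subgroup.mem_map_of_mem π hyP

theorem psl_main {F : Type*} [Field F] [Fintype F] (p : ℕ) [Fact p.Prime] :
    (∃ Q : Sylow p (Matrix.ProjectiveSpecialLinearGroup (Fin 2) F), ∀ x : Matrix.ProjectiveSpecialLinearGroup (Fin 2) F,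
        (∃ k : ℕ, orderOf x = p ^ k) → ∃ P : Sylow p (Matrix.ProjectiveSpecialLinearGroup (Fin 2) F), P ≠ Q ∧ x ∈ P) ↔
      (p = 2 ∧ (¬ ∃ k : ℕ, Fintype.card F + 1 = 2 ^ k) ∧ (¬ ∃ k : ℕ, Fintype.card F = 2 ^ k) ∧
        ¬ ∃ k : ℕ, Fintype.card F = 2 ^ k + 1) := by
  rw [← sl_main p]
  exact red_quot (G := Matrix.SpecialLinearGroup (Fin 2) F)

end H75.SL2Red
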