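import Mathlib
set_option linter.all false
set_option autoImplicit false

/-! Elements of 2-power order in a unique Sylow 2-subgroup of a symmetric group: forward direction -/

namespace H75.US

open Equiv Equiv.Perm

section general

variable {G : Type*} [Group G] [Finite G]

theorem isPGroup_zpowers {g : G} (hg : ∃ k, orderOf g = 2 ^ k) : IsPGroup 2 (Subgroup.zpowers g) := by
  obtain ⟨k, hk⟩ := hg
  exact IsPGroup.of_card (n := k) (by rw [Nat.card_zpowers, hk])

theorem mem_of_comm {x : G} (hx : ∃ k, orderOf x = 2 ^ k) {P : Sylow 2 G}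
    (huniq : ∀ Q : Sylow 2 G, x ∈ Q → Q = P) {g : G} (hg : ∃ k, orderOf g = 2 ^ k)
    (hc : g * x = x * g) : g ∈ P := by
  have h1 : IsPGroup 2 (Subgroup.zpowers g ⊔ Subgroup.zpowers x : Subgroup G) := by
    refine IsPGroup.to_sup_of_normal_right' (isPGroup_zpowers hg) (isPGroup_zpowers hx) ?_
    rw [Subgroup.zpowers_le]
    have hcom : ∀ y ∈ Subgroup.zpowers x, g * y * g⁻¹ = y := by
      intro y hy
      obtain ⟨n, rfl⟩ := Subgroup.mem_zpowers_iff.mp hy
      have : Commute g x := hc
      rw [(this.zpow_right n).eq, mul_inv_cancel_right]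
    rw [Subgroup.mem_normalizer_iff]
    intro y
    constructor
    · intro hy; rw [hcom y hy]; exact hy
    · intro hy
      have := hcom _ hy
      have h2 : g * y * g⁻¹ = y := by
        have h3 : g * (g * y * g⁻¹) * g⁻¹ = g * y * g⁻¹ := this
        have h4 : g * y * g⁻¹ = y := by
          have h5 := mul_left_cancel (mul_right_cancel h3)
          exact h5
        exact h4
      rw [h2] at hy; exact hy
  obtain ⟨Q, hQ⟩ := h1.exists_le_sylow
  have hxQ : x ∈ Q := hQ (Subgroup.mem_sup_right (Subgroup.mem_zpowers x))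
  have := huniq Q hxQ
  rw [← this]
  exact hQ (Subgroup.mem_sup_left (Subgroup.mem_zpowers g))

theorem mem_of_conj {x : G} {P : Sylow 2 G}
    (huniq : ∀ Q : Sylow 2 G, x ∈ Q → Q = P) {g : G} (hg : ∃ k, orderOf g = 2 ^ k)
    (hc : g * x * g⁻¹ ∈ P) : g ∈ P := by
  have h1 : g⁻¹ • P = P := by
    apply huniq
    change x ∈ ((g⁻¹ • P : Sylow 2 G) : Subgroup G)
    rw [Sylow.coe_subgroup_smul, Subgroup.mem_pointwise_smul_iff_inv_smul_mem]
    have : (MulAut.conj g⁻¹)⁻¹ • x = g * x * g⁻¹ := by
      rw [← map_inv, inv_inv]; simp [MulAut.smul_def, MulAut.conj_apply]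
    rw [this]; exact hc
  have h2 : g ∈ Subgroup.normalizer ((P : Subgroup G) : Set G) := by
    have := Sylow.smul_eq_iff_mem_normalizer.mp h1
    simpa using this
  have h3 : IsPGroup 2 (Subgroup.zpowers g ⊔ (P : Subgroup G) : Subgroup G) := by
    refine IsPGroup.to_sup_of_normal_right' (isPGroup_zpowers hg) P.isPGroup' ?_
    rw [Subgroup.zpowers_le]; exact h2
  have h4 := P.is_maximal' h3 le_sup_right
  have : g ∈ (Subgroup.zpowers g ⊔ (P : Subgroup G) : Subgroup G) :=
    Subgroup.mem_sup_left (Subgroup.mem_zpowers g)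
  rw [h4] at this
  exact this

theorem no_three {P : Sylow 2 G} {g : G} (hg : g ∈ P) (h3 : orderOf g = 3) : False := by
  have h := P.isPGroup'
  obtain ⟨k, hk⟩ := (IsPGroup.iff_orderOf.mp h) ⟨g, hg⟩
  rw [Subgroup.orderOf_mk, h3] at hk
  have h2 : (3:ℕ) % 2 = 2 ^ k % 2 := by rw [hk]
  rcases k with _ | k
  · norm_num at hk
  · rw [pow_succ] at h2; omega

end general

section model

variable (l : ℕ) (hl : 2 ∣ l)

/-- shift -/
def xs : Perm (ZMod l × Bool) := Equiv.prodCongr (Equiv.addRight 1) (Equiv.refl _)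

@[simp] theorem xs_apply (i : ZMod l) (s : Bool) : xs l (i, s) = (i + 1, s) := rfl

/-- swap -/
def zf (k : ZMod l) : ZMod l × Bool → ZMod l × Bool
  | (i, false) => (i + k, true)
  | (i, true) => (i - k, false)

theorem zf_inv (k : ZMod l) : Function.Involutive (zf l k) := by
  rintro ⟨i, s⟩
  cases s <;> simp [zf]

def zs (k : ZMod l) : Perm (ZMod l × Bool) := (zf_inv l k).toPerm

/-- half swap -/
def gf (π : ZMod l →+* ZMod 2) (k : ZMod l) : ZMod l × Bool → ZMod l × Bool
  | (i, false) => if π i = 1 then (i + k, true) else (i, false)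
  | (i, true) => if π (i - k) = 1 then (i - k, false) else (i, true)

theorem gf_inv (π : ZMod l →+* ZMod 2) (k : ZMod l) : Function.Involutive (gf l π k) := by
  rintro ⟨i, s⟩
  cases s
  · by_cases h : π i = 1
    · simp [gf, h]
    · simp [gf, h]
  · by_cases h : π (i - k) = 1
    · simp only [gf, h, if_true]; simp
    · simp only [gf, h, if_false]

def gs (π : ZMod l →+* ZMod 2) (k : ZMod l) : Perm (ZMod l × Bool) := (gf_inv l π k).toPerm

theorem zmod2 (a : ZMod 2) : a = 0 ∨ a = 1 := by
  revert a; decide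

theorem gf_f1 (π : ZMod l →+* ZMod 2) (k : ZMod l) {i : ZMod l} (h : π i = 1) :
    gf l π k (i, false) = (i + k, true) := by simp [gf, h]

theorem gf_f0 (π : ZMod l →+* ZMod 2) (k : ZMod l) {i : ZMod l} (h : π i = 0) :
    gf l π k (i, false) = (i, false) := by simp [gf, h]

theorem gf_t1 (π : ZMod l →+* ZMod 2) (k : ZMod l) {i : ZMod l} (h : π (i - k) = 1) :
    gf l π k (i, true) = (i - k, false) := by simp only [gf, h, if_true]

theorem gf_t0 (π : ZMod l →+* ZMod 2) (k : ZMod l) {i : ZMod l} (h : π (i - k) = 0) :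
    gf l π k (i, true) = (i, true) := by
  simp only [gf, h]; simp

theorem gxg (π : ZMod l →+* ZMod 2) (k : ZMod l) :
    gs l π k * xs l * gs l π k = xs l * zs l k := by
  ext1 ⟨i, s⟩
  simp only [Perm.mul_apply]
  show gf l π k (xs l (gf l π k (i, s))) = xs l (zf l k (i, s))
  cases s
  · show _ = (i + k + 1, true)
    rcases zmod2 (π i) with h | h
    · rw [gf_f0 l π k h, xs_apply, gf_f1 l π k (by rw [map_add, h, map_one, zero_add])]
      congr 1; ring
    · rw [gf_f1 l π k h, xs_apply, gf_t0 l π k (by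
        rw [show i + k + 1 - k = i + 1 by ring, map_add, h, map_one]; decide)]
  · show _ = (i - k + 1, false)
    rcases zmod2 (π (i - k)) with h | h
    · rw [gf_t0 l π k h, xs_apply, gf_t1 l π k (by
        rw [show i + 1 - k = (i - k) + 1 by ring, map_add, h, map_one, zero_add])]
      congr 1; ring
    · rw [gf_t1 l π k h, xs_apply, gf_f0 l π k (by rw [map_add, h, map_one]; decide)]

theorem zs_comm (k : ZMod l) : zs l k * xs l = xs l * zs l k := by
  ext1 ⟨i, s⟩
  simp only [Perm.mul_apply]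
  show zf l k (xs l (i, s)) = xs l (zf l k (i, s))
  cases s
  · show (i + 1 + k, true) = (i + k + 1, true); congr 1; ring
  · show (i + 1 - k, false) = (i - k + 1, false); congr 1; ring

theorem gs_sq (π : ZMod l →+* ZMod 2) (k : ZMod l) : gs l π k * gs l π k = 1 := by
  ext1 y; exact gf_inv l π k y

theorem zs_sq (k : ZMod l) : zs l k * zs l k = 1 := by
  ext1 y; exact zf_inv l k y

theorem w_cube (π : ZMod l →+* ZMod 2) : (gs l π 0 * gs l π 1) ^ 3 = 1 := by
  have key : ∀ i : ZMod l, π i = 1 → (gs l π 0 * gs l π 1) (i, false) = (i + 1, true) ∧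
      (gs l π 0 * gs l π 1) (i + 1, true) = (i, true) ∧ (gs l π 0 * gs l π 1) (i, true) = (i, false) := by
    intro i h
    refine ⟨?_, ?_, ?_⟩
    · show gf l π 0 (gf l π 1 (i, false)) = _
      rw [gf_f1 l π 1 h, gf_t0 l π 0 (by rw [sub_zero, map_add, h, map_one]; decide)]
    · show gf l π 0 (gf l π 1 (i + 1, true)) = _
      rw [gf_t1 l π 1 (by rw [add_sub_cancel_right]; exact h), add_sub_cancel_right, gf_f1 l π 0 h, add_zero]
    · show gf l π 0 (gf l π 1 (i, true)) = _
      rw [gf_t0 l π 1 (by rw [map_sub, h, map_one]; decide), gf_t1 l π 0 (by rw [sub_zero]; exact h), sub_zero]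
  have key0 : ∀ i : ZMod l, π i = 0 → (gs l π 0 * gs l π 1) (i, false) = (i, false) := by
    intro i h
    show gf l π 0 (gf l π 1 (i, false)) = _
    rw [gf_f0 l π 1 h, gf_f0 l π 0 h]
  set w := gs l π 0 * gs l π 1 with hw
  have hpow : ∀ y, (w ^ 3) y = w (w (w y)) := by
    intro y; simp [pow_succ, Perm.mul_apply]
  ext1 ⟨i, s⟩
  rw [hpow, Perm.one_apply]
  cases s
  · rcases zmod2 (π i) with h | h
    · rw [key0 i h, key0 i h, key0 i h]
    · rw [(key i h).1, (key i h).2.1, (key i h).2.2]
  · rcases zmod2 (π i) with h | h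
    · obtain ⟨j, rfl⟩ : ∃ j, i = j + 1 := ⟨i - 1, by ring⟩
      have hj : π j = 1 := by
        rcases zmod2 (π j) with h' | h'
        · exfalso; rw [map_add, map_one, h'] at h; revert h; decide
        · exact h'
      rw [(key j hj).2.1, (key j hj).2.2, (key j hj).1]
    · rw [(key i h).2.2, (key i h).1, (key i h).2.1]

theorem w_ne (π : ZMod l →+* ZMod 2) : gs l π 0 * gs l π 1 ≠ 1 := by
  intro h
  have h1 : (gs l π 0 * gs l π 1) (1, false) = (1, false) := by rw [h]; rfl
  have h2 : (gs l π 0 * gs l π 1) (1, false) = (1 + 1, true) := by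
    show gf l π 0 (gf l π 1 (1, false)) = _
    rw [gf_f1 l π 1 (map_one π), gf_t0 l π 0 (by rw [sub_zero, map_add, map_one]; decide)]
  rw [h2] at h1
  simp at h1

end model

section embed

variable {β α : Type*}

theorem conj_via (x : Perm α) (x' : Perm β) (ι : β ↪ α) (h : ∀ y, x (ι y) = ι (x' y)) (g : Perm β) :
    x * g.viaEmbedding ι * x⁻¹ = (x' * g * x'⁻¹).viaEmbedding ι := by
  have hinv : ∀ y, x⁻¹ (ι y) = ι (x'⁻¹ y) := by
    intro y
    rw [Perm.inv_eq_iff_eq, h]; simp
  ext1 y
  by_cases hy : y ∈ Set.range ι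
  · obtain ⟨w, rfl⟩ := hy
    rw [viaEmbedding_apply]
    simp only [Perm.mul_apply]
    rw [hinv, viaEmbedding_apply, h]
  · have hy' : x⁻¹ y ∉ Set.range ι := by
      rintro ⟨w, hw⟩
      apply hy
      refine ⟨x' w, ?_⟩
      rw [← h, hw]; simp
    rw [viaEmbedding_apply_of_notMem _ _ _ hy]
    simp only [Perm.mul_apply]
    rw [viaEmbedding_apply_of_notMem _ _ _ hy']; simp

theorem via_mul (ι : β ↪ α) (g h : Perm β) : (g * h).viaEmbedding ι = g.viaEmbedding ι * h.viaEmbedding ι := by
  have := map_mul (viaEmbeddingHom ι) g h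
  exact this

theorem via_one (ι : β ↪ α) : (1 : Perm β).viaEmbedding ι = 1 := map_one (viaEmbeddingHom ι)

theorem order_two {G : Type*} [Group G] {g : G} (h : g * g = 1) : ∃ k, orderOf g = 2 ^ k := by
  have h2 : g ^ 2 = 1 := by rw [sq]; exact h
  have := orderOf_dvd_of_pow_eq_one h2
  rcases (Nat.dvd_prime Nat.prime_two).mp this with h3 | h3
  · exact ⟨0, by simpa using h3⟩
  · exact ⟨1, by simpa using h3⟩

end embed

section fwd

variable {α : Type*} [Finite α]

theorem two_cycles (x : Perm α) (hx : ∃ k, orderOf x = 2 ^ k) (P : Sylow 2 (Perm α))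
    (huniq : ∀ Q : Sylow 2 (Perm α), x ∈ Q → Q = P) (hxP : x ∈ P) (l : ℕ) (hl : 2 ∣ l)
    (ι : ZMod l × Bool ↪ α) (hι : ∀ y, x (ι y) = ι (xs l y)) : False := by
  have π : ZMod l →+* ZMod 2 := ZMod.castHom hl (ZMod 2)
  have hz : ∀ k, (zs l k).viaEmbedding ι ∈ P := by
    intro k
    apply mem_of_comm hx huniq
    · exact order_two (by rw [← via_mul, zs_sq, via_one])
    · have := conj_via x (xs l) ι hι (zs l k)
      rw [show xs l * zs l k * (xs l)⁻¹ = zs l k by rw [← zs_comm]; group] at this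
      rw [mul_inv_eq_iff_eq_mul] at this
      exact this.symm
  have hg : ∀ k, (gs l π k).viaEmbedding ι ∈ P := by
    intro k
    apply mem_of_conj huniq
    · exact order_two (by rw [← via_mul, gs_sq, via_one])
    · have h1 := conj_via x (xs l) ι hι ((xs l)⁻¹ * gs l π k * xs l)
      have h2 : xs l * ((xs l)⁻¹ * gs l π k * xs l) * (xs l)⁻¹ = gs l π k := by group
      rw [h2] at h1
      have hgi : ((gs l π k).viaEmbedding ι)⁻¹ = (gs l π k).viaEmbedding ι := by
        rw [inv_eq_iff_mul_eq_one, ← via_mul, gs_sq, via_one]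
      rw [← h1, h1, hgi]
      have h3 : (gs l π k).viaEmbedding ι * x * (gs l π k).viaEmbedding ι = x * (zs l k).viaEmbedding ι := by
        conv_lhs => rw [← h1]
        rw [show x * ((xs l)⁻¹ * gs l π k * xs l).viaEmbedding ι * x⁻¹ * x * (x * ((xs l)⁻¹ * gs l π k * xs l).viaEmbedding ι * x⁻¹)
          = x * ((((xs l)⁻¹ * gs l π k * xs l).viaEmbedding ι) * (x * ((xs l)⁻¹ * gs l π k * xs l).viaEmbedding ι * x⁻¹)) by group]
        rw [h1, ← via_mul]
        congr 2
        have := gxg l π k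
        calc (xs l)⁻¹ * gs l π k * xs l * gs l π k = (xs l)⁻¹ * (gs l π k * xs l * gs l π k) := by group
          _ = zs l k := by rw [this]; group
      rw [h3]
      exact mul_mem hxP (hz k)
  have hw : (gs l π 0 * gs l π 1).viaEmbedding ι ∈ P := by
    rw [via_mul]; exact mul_mem (hg 0) (hg 1)
  refine no_three hw ?_
  apply orderOf_eq_prime
  · have := map_pow (viaEmbeddingHom ι) (gs l π 0 * gs l π 1) 3
    rw [w_cube, map_one] at this
    exact this.symm
  · intro h
    apply w_ne l π
    exact viaEmbeddingHom_injective ι (by rw [map_one]; exact h)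

/-- three fixed points -/
theorem three_fixed [DecidableEq α] (x : Perm α) (hx : ∃ k, orderOf x = 2 ^ k) (P : Sylow 2 (Perm α))
    (huniq : ∀ Q : Sylow 2 (Perm α), x ∈ Q → Q = P) {a b c : α} (ha : x a = a) (hb : x b = b) (hc : x c = c)
    (hab : a ≠ b) (hbc : b ≠ c) (hac : a ≠ c) : False := by
  have h1 : ∀ {u v : α}, x u = u → x v = v → swap u v ∈ P := by
    intro u v hu hv
    apply mem_of_comm hx huniq
    · exact order_two (Equiv.swap_mul_self u v)
    · rw [Equiv.mul_swap_eq_swap_mul, hu, hv]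
  have h2 : swap a b * swap a c ∈ P := mul_mem (h1 ha hb) (h1 ha hc)
  refine no_three h2 ?_
  haveI := Fintype.ofFinite α
  apply Equiv.Perm.IsThreeCycle.orderOf
  exact isThreeCycle_swap_mul_swap_same hab hac hbc

/-- orbit lengths condition -/
def C1 (x : Perm α) : Prop := ∀ a b, Function.minimalPeriod x a = Function.minimalPeriod x b →
  Function.minimalPeriod x a ≠ 1 → x.SameCycle a b

def C2 (x : Perm α) : Prop := ∀ a b c, x a = a → x b = b → x c = c → a = b ∨ b = c ∨ a = c

theorem period_pos (x : Perm α) (a : α) : 0 < Function.minimalPeriod x a := by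
  apply Function.minimalPeriod_pos_of_mem_periodicPts
  exact ⟨orderOf x, orderOf_pos x, by
    show (⇑x)^[orderOf x] a = a
    rw [Equiv.Perm.iterate_eq_pow, pow_orderOf_eq_one]; rfl⟩

theorem period_dvd_iff (x : Perm α) (a : α) (n : ℕ) : Function.minimalPeriod x a ∣ n ↔ (x ^ n) a = a := by
  rw [← Function.isPeriodicPt_iff_minimalPeriod_dvd]
  show (⇑x)^[n] a = a ↔ _
  rw [Equiv.Perm.iterate_eq_pow]

theorem period_two_pow (x : Perm α) (hx : ∃ k, orderOf x = 2 ^ k) (a : α) :
    ∃ j, Function.minimalPeriod x a = 2 ^ j := by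
  obtain ⟨k, hk⟩ := hx
  have : Function.minimalPeriod x a ∣ 2 ^ k := by
    rw [period_dvd_iff, ← hk, pow_orderOf_eq_one]; rfl
  obtain ⟨j, _, hj⟩ := (Nat.dvd_prime_pow Nat.prime_two).mp this
  exact ⟨j, hj⟩

theorem period_eq_one_iff (x : Perm α) (a : α) : Function.minimalPeriod x a = 1 ↔ x a = a := by
  rw [← Nat.dvd_one, period_dvd_iff, pow_one]

/-- embedding of a cycle -/
def cyc (x : Perm α) (a : α) (l : ℕ) (i : ZMod l) : α := (⇑x)^[i.val] a

theorem cyc_succ (x : Perm α) (a : α) (l : ℕ) [NeZero l] (h : Function.minimalPeriod x a = l) (i : ZMod l) :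
    x (cyc x a l i) = cyc x a l (i + 1) := by
  unfold cyc
  have : (i + 1).val = (i.val + 1) % l := by
    rw [ZMod.val_add, ZMod.val_one_eq_one_mod, Nat.add_mod_mod]
  rw [this]
  have h2 := Function.iterate_mod_minimalPeriod_eq (f := ⇑x) (x := a) (n := i.val + 1)
  rw [h] at h2
  rw [h2, Function.iterate_succ_apply']

theorem cyc_inj (x : Perm α) (a : α) (l : ℕ) [NeZero l] (h : Function.minimalPeriod x a = l) {i j : ZMod l}
    (hij : cyc x a l i = cyc x a l j) : i = j := by
  have := Function.iterate_injOn_Iio_minimalPeriod (f := ⇑x) (x := a)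
    (show i.val < Function.minimalPeriod x a by rw [h]; exact i.val_lt)
    (show j.val < Function.minimalPeriod x a by rw [h]; exact j.val_lt) hij
  exact ZMod.val_injective l this

theorem cyc_sameCycle (x : Perm α) (a b : α) (l : ℕ) {i j : ZMod l}
    (hij : cyc x a l i = cyc x b l j) : x.SameCycle a b := by
  unfold cyc at hij
  rw [Equiv.Perm.iterate_eq_pow, Equiv.Perm.iterate_eq_pow] at hij
  refine ⟨(-(j.val : ℤ)) + (i.val : ℤ), ?_⟩
  rw [zpow_add, Perm.mul_apply, zpow_natCast, hij, zpow_neg, zpow_natCast]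
  simp

theorem forward (x : Perm α) (hx : ∃ k, orderOf x = 2 ^ k) (P : Sylow 2 (Perm α)) (hxP : x ∈ P)
    (huniq : ∀ Q : Sylow 2 (Perm α), x ∈ Q → Q = P) : C1 x ∧ C2 x := by
  classical
  constructor
  · intro a b hab h1
    by_contra hne
    obtain ⟨j, hj⟩ := period_two_pow x hx a
    set l := Function.minimalPeriod x a with hl
    have hl0 : 0 < l := period_pos x a
    haveI : NeZero l := ⟨hl0.ne'⟩
    have h2 : 2 ∣ l := by
      rw [hj]
      rcases j with _ | j
      · exact absurd (by rw [hj]; rfl) h1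
      · exact dvd_pow_self 2 (Nat.succ_ne_zero j)
    refine two_cycles x hx P huniq hxP l h2
      ⟨fun y => match y with
        | (i, false) => cyc x a l i
        | (i, true) => cyc x b l i, ?_⟩ ?_
    · rintro ⟨i, s⟩ ⟨j, t⟩ h
      cases s <;> cases t
      · rw [cyc_inj x a l hl.symm h]
      · exact absurd (cyc_sameCycle x a b l h) hne
      · exact absurd (cyc_sameCycle x b a l h).symm hne
      · rw [cyc_inj x b l hab.symm h]
    · rintro ⟨i, s⟩
      cases s
      · exact cyc_succ x a l hl.symm i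
      · exact cyc_succ x b l hab.symm i
  · intro a b c ha hb hc
    by_contra hne
    push_neg at hne
    exact three_fixed x hx P huniq ha hb hc hne.1 hne.2.1 hne.2.2

end fwd

end H75.US
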