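import Mathlib
import Cfsg.Agent.Lib.H75.US1
set_option linter.all false
set_option autoImplicit false

/-! Elements of 2-power order in a unique Sylow 2-subgroup of a symmetric group: tools for the backward direction -/

namespace H75.US

open Equiv Equiv.Perm Nat

/-- reduction along a subgroup and a surjection with 2-group kernel -/
theorem red {G K : Type*} [Group G] [Finite G] [Group K] (H : Subgroup G) (ff : H →* K)
    (hff : Function.Surjective ff) (hker : IsPGroup 2 ff.ker) (x : G) (hxH : x ∈ H)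
    (huniq : ∀ P Q : Sylow 2 K, ff ⟨x, hxH⟩ ∈ P → ff ⟨x, hxH⟩ ∈ Q → P = Q)
    (P Q : Sylow 2 G) (hP : (P : Subgroup G) ≤ H) (hQ : (Q : Subgroup G) ≤ H) (hxP : x ∈ P) (hxQ : x ∈ Q) : P = Q := by
  haveI : Finite K := Finite.of_surjective ff hff
  have key : ∀ R : Sylow 2 H, ((R : Subgroup H).map ff).comap ff = R := by
    intro R
    rw [Subgroup.comap_map_eq]
    have h1 : IsPGroup 2 ((R : Subgroup H) ⊔ ff.ker : Subgroup H) :=
      IsPGroup.to_sup_of_normal_right R.isPGroup' hker
    exact R.is_maximal' h1 le_sup_left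
  have h2 := huniq ((P.subtype hP).mapSurjective hff) ((Q.subtype hQ).mapSurjective hff)
    ⟨⟨x, hxH⟩, hxP, rfl⟩ ⟨⟨x, hxH⟩, hxQ, rfl⟩
  have h3 : ((P.subtype hP : Sylow 2 H) : Subgroup H).map ff = ((Q.subtype hQ : Sylow 2 H) : Subgroup H).map ff := by
    have := congrArg (fun R : Sylow 2 K => (R : Subgroup K)) h2
    exact this
  have h4 : ((P.subtype hP : Sylow 2 H) : Subgroup H) = (Q.subtype hQ : Sylow 2 H) := by
    rw [← key (P.subtype hP), ← key (Q.subtype hQ), h3]
  apply Sylow.ext
  have h5 : (P : Subgroup G).subgroupOf H = (Q : Subgroup G).subgroupOf H := h4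
  ext y
  constructor
  · intro hy
    have : (⟨y, hP hy⟩ : H) ∈ (P : Subgroup G).subgroupOf H := hy
    rw [h5] at this; exact this
  · intro hy
    have : (⟨y, hQ hy⟩ : H) ∈ (Q : Subgroup G).subgroupOf H := hy
    rw [← h5] at this; exact this

theorem odd_df (k : ℕ) : Odd ((2 * k + 1)‼) := by
  induction k with
  | zero => simp
  | succ k ih =>
    have : (2 * (k + 1) + 1)‼ = (2 * k + 3) * (2 * k + 1)‼ := by
      rw [show 2 * (k + 1) + 1 = (2 * k + 1) + 2 by ring, Nat.doubleFactorial_add_two]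
    rw [this]
    exact Odd.mul ⟨k + 1, by ring⟩ ih

/-- every Sylow 2-subgroup of a symmetric group of even degree centralizes a fixed point free involution -/
theorem exists_central {α : Type*} [Fintype α] [DecidableEq α] {M : ℕ} (hM : 0 < M) (hc : Fintype.card α = 2 * M)
    (P : Sylow 2 (Perm α)) : ∃ z : Perm α, z * z = 1 ∧ (∀ y, z y ≠ y) ∧ ∀ g ∈ P, g * z = z * g := by
  have h1 := card_of_cycleType_mul_eq (α := α) (Multiset.replicate M 2)
  have hif : ((Multiset.replicate M 2).sum ≤ Fintype.card α ∧ ∀ a ∈ Multiset.replicate M 2, 2 ≤ a) := by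
    constructor
    · rw [Multiset.sum_replicate, hc, smul_eq_mul]; omega
    · intro a ha; rw [Multiset.eq_of_mem_replicate ha]
  rw [if_pos hif, Multiset.sum_replicate, hc, smul_eq_mul, mul_comm M 2, Nat.sub_self, Nat.factorial_zero, one_mul,
    Multiset.prod_replicate, Multiset.toFinset_replicate, if_neg hM.ne', Finset.prod_singleton,
    Multiset.count_replicate_self] at h1
  obtain ⟨k, rfl⟩ : ∃ k, M = k + 1 := ⟨M - 1, by omega⟩
  have h2 : (2 * (k + 1))! = (2 * k + 1)‼ * (2 ^ (k + 1) * (k + 1)!) := by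
    rw [show 2 * (k + 1) = (2 * k + 1) + 1 by ring, Nat.factorial_eq_mul_doubleFactorial,
      show (2 * k + 1) + 1 = 2 * (k + 1) by ring, Nat.doubleFactorial_two_mul, mul_comm]
  rw [h2] at h1
  have h3 : (Finset.univ.filter (fun g : Perm α => g.cycleType = Multiset.replicate (k + 1) 2)).card = (2 * k + 1)‼ := by
    apply Nat.eq_of_mul_eq_mul_right (show 0 < 2 ^ (k + 1) * (k + 1)! by positivity)
    exact h1
  -- action on the set
  let X := {g : Perm α // g.cycleType = Multiset.replicate (k + 1) 2}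
  letI : MulAction P X :=
    { smul := fun h g => ⟨(h : Perm α) * g.1 * (h : Perm α)⁻¹, by rw [cycleType_conj]; exact g.2⟩
      one_smul := by
        intro g; apply Subtype.ext
        show ((1 : P) : Perm α) * g.1 * ((1 : P) : Perm α)⁻¹ = g.1
        simp
      mul_smul := by
        intro a b g; apply Subtype.ext
        show ((a * b : P) : Perm α) * g.1 * ((a * b : P) : Perm α)⁻¹ = (a : Perm α) * ((b : Perm α) * g.1 * (b : Perm α)⁻¹) * (a : Perm α)⁻¹
        simp [mul_assoc] }
  have hX : ¬ 2 ∣ Nat.card X := by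
    have : Nat.card X = (2 * k + 1)‼ := by
      rw [← h3, Nat.card_eq_fintype_card, Fintype.card_subtype]
    rw [this]
    have := odd_df k
    rw [← Nat.not_even_iff_odd] at this
    rwa [even_iff_two_dvd] at this
  obtain ⟨z, hz⟩ := P.isPGroup'.nonempty_fixed_point_of_prime_not_dvd_card X hX
  refine ⟨z.1, ?_, ?_, ?_⟩
  · have h4 : orderOf z.1 ∣ 2 := by
      rw [← lcm_cycleType, z.2, Multiset.lcm_dvd]
      intro b hb; rw [Multiset.eq_of_mem_replicate hb]
    rw [← sq]; exact orderOf_dvd_iff_pow_eq_one.mp h4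
  · intro y
    have h4 := sum_cycleType z.1
    rw [z.2, Multiset.sum_replicate, smul_eq_mul, mul_comm, ← hc] at h4
    have h5 : z.1.support = Finset.univ := (Finset.card_eq_iff_eq_univ _).mp h4.symm
    have : y ∈ z.1.support := by rw [h5]; exact Finset.mem_univ y
    exact mem_support.mp this
  · intro g hg
    have h4 := hz ⟨g, hg⟩
    have h5 : g * z.1 * g⁻¹ = z.1 := congrArg Subtype.val h4
    rw [mul_inv_eq_iff_eq_mul] at h5
    exact h5

section zz

variable {α : Type*} [Finite α]

theorem sameCycle_nat {x : Perm α} {a b : α} (h : x.SameCycle a b) : ∃ k : ℕ, (x ^ k) a = b := by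
  obtain ⟨i, hi⟩ := h
  have hpos : (0 : ℤ) < orderOf x := by exact_mod_cast orderOf_pos x
  have h1 : (0 : ℤ) ≤ i % (orderOf x : ℤ) := Int.emod_nonneg _ hpos.ne'
  refine ⟨(i % (orderOf x : ℤ)).toNat, ?_⟩
  have h2 : x ^ (i % (orderOf x : ℤ)).toNat = x ^ i := by
    rw [← zpow_natCast, Int.toNat_of_nonneg h1, zpow_mod_orderOf]
  rw [h2]; exact hi

/-- action of a commuting fixed point free involution -/
theorem z_eq {x z : Perm α} (h1 : C1 x) (hzz : z * z = 1) (hf : ∀ y, z y ≠ y) (hc : x * z = z * x)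
    (y : α) (l' : ℕ) (hl : Function.minimalPeriod x y = 2 * l') (hl1 : Function.minimalPeriod x y ≠ 1) :
    z y = (x ^ l') y := by
  have hpow : ∀ (k : ℕ) (w : α), (x ^ k) (z w) = z ((x ^ k) w) := by
    intro k w
    have : Commute x z := hc
    have h2 := (this.pow_left k).eq
    have := congrArg (fun f : Perm α => f w) h2
    simpa [Perm.mul_apply] using this
  have hper : Function.minimalPeriod x (z y) = Function.minimalPeriod x y := by
    apply Nat.dvd_antisymm
    · rw [period_dvd_iff, hpow, (period_dvd_iff x y _).mp dvd_rfl]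
    · rw [period_dvd_iff]
      have h3 := (period_dvd_iff x (z y) _).mp dvd_rfl
      rw [hpow] at h3
      exact z.injective h3
  obtain ⟨k, hk⟩ := sameCycle_nat (h1 y (z y) hper.symm hl1)
  have hzzy : z (z y) = y := by
    have := congrArg (fun f : Perm α => f y) hzz
    simpa [Perm.mul_apply] using this
  have h2k : (x ^ (2 * k)) y = y := by
    rw [two_mul, pow_add, Perm.mul_apply, hk, hpow, hk, hzzy]
  have hd : 2 * l' ∣ 2 * k := by rw [← hl, period_dvd_iff]; exact h2k
  have hd' : l' ∣ k := (Nat.mul_dvd_mul_iff_left (by norm_num)).mp hd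
  have hnd : ¬ 2 * l' ∣ k := by
    rw [← hl, period_dvd_iff, hk]; exact hf y
  obtain ⟨c, rfl⟩ := hd'
  have hodd : ¬ 2 ∣ c := by
    rintro ⟨d, rfl⟩
    exact hnd ⟨d, by ring⟩
  obtain ⟨d, rfl⟩ : ∃ d, c = 2 * d + 1 := ⟨c / 2, by omega⟩
  rw [← hk, show l' * (2 * d + 1) = l' + 2 * l' * d by ring, pow_add, Perm.mul_apply]
  congr 1
  rw [← period_dvd_iff, hl]
  exact Dvd.intro d rfl

theorem z_unique {x z z' : Perm α} (hx : ∃ k, orderOf x = 2 ^ k) (h1 : C1 x) (h2 : C2 x)
    (hzz : z * z = 1) (hf : ∀ y, z y ≠ y) (hc : x * z = z * x)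
    (hzz' : z' * z' = 1) (hf' : ∀ y, z' y ≠ y) (hc' : x * z' = z' * x) : z = z' := by
  ext1 y
  by_cases hl : Function.minimalPeriod x y = 1
  · have hy := (period_eq_one_iff x y).mp hl
    have e1 : x (z y) = z y := by
      have := congrArg (fun f : Perm α => f y) hc
      simp only [Perm.mul_apply, hy] at this; exact this
    have e2 : x (z' y) = z' y := by
      have := congrArg (fun f : Perm α => f y) hc'
      simp only [Perm.mul_apply, hy] at this; exact this
    rcases h2 y (z y) (z' y) hy e1 e2 with h | h | h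
    · exact absurd h.symm (hf y)
    · exact h
    · exact absurd h.symm (hf' y)
  · obtain ⟨j, hj⟩ := period_two_pow x hx y
    rcases j with _ | j
    · exact absurd (by rw [hj]; rfl) hl
    · have hl2 : Function.minimalPeriod x y = 2 * 2 ^ j := by rw [hj, pow_succ]; ring
      rw [z_eq h1 hzz hf hc y _ hl2 hl, z_eq h1 hzz' hf' hc' y _ hl2 hl]

end zz

end H75.US
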