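import Mathlib
import Cfsg.Agent.Lib.H75.US2
set_option linter.all false
set_option autoImplicit false

/-! Elements of 2-power order in a unique Sylow 2-subgroup of a symmetric group: backward direction -/

namespace H75.US

open Equiv Equiv.Perm

section stab

variable {α : Type*}

/-- restriction from a point stabilizer -/
def resA (a : α) : (MulAction.stabilizer (Perm α) a) →* Perm {y // y ≠ a} where
  toFun g := (g : Perm α).subtypePerm (by
    intro y
    have hg : (g : Perm α) a = a := g.2
    constructor
    · intro h e; apply h; rw [e, hg]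
    · intro h e; apply h; exact (g : Perm α).injective (by rw [e, hg]))
  map_one' := by ext y; rfl
  map_mul' := by intro g h; ext y; rfl

theorem resA_apply (a : α) (g : MulAction.stabilizer (Perm α) a) (y : {y // y ≠ a}) :
    ((resA a g) y : α) = (g : Perm α) y := rfl

theorem resA_surj (a : α) [DecidableEq α] : Function.Surjective (resA a) := by
  intro p
  refine ⟨⟨ofSubtype p, ?_⟩, ?_⟩
  · show ofSubtype p a = a
    exact ofSubtype_apply_of_not_mem p (by simp)
  · ext y
    rw [resA_apply]
    show (ofSubtype p) (y : α) = p y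
    exact ofSubtype_apply_coe p y

theorem resA_ker (a : α) : IsPGroup 2 (resA a).ker := by
  have : (resA a).ker = ⊥ := by
    rw [eq_bot_iff]
    intro g hg
    rw [MonoidHom.mem_ker] at hg
    rw [Subgroup.mem_bot]
    apply Subtype.ext
    ext1 y
    by_cases hy : y = a
    · rw [hy]; exact g.2
    · have := congrArg (fun p : Perm {y // y ≠ a} => ((p ⟨y, hy⟩ : {y // y ≠ a}) : α)) hg
      exact this
  rw [this]; exact IsPGroup.of_bot

variable [Finite α]

theorem resA_pow (a : α) (g : MulAction.stabilizer (Perm α) a) (n : ℕ) (y : {y // y ≠ a}) :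
    (((resA a g) ^ n) y : α) = ((g : Perm α) ^ n) y := by
  rw [← map_pow, resA_apply]; rfl

theorem resA_period (a : α) (g : MulAction.stabilizer (Perm α) a) (y : {y // y ≠ a}) :
    Function.minimalPeriod (resA a g) y = Function.minimalPeriod (g : Perm α) y := by
  haveI : Finite {y // y ≠ a} := inferInstance
  have key : ∀ n, (((resA a g) ^ n) y = y) ↔ (((g : Perm α) ^ n) y = y) := by
    intro n
    rw [← resA_pow, Subtype.ext_iff]
  apply Nat.dvd_antisymm
  · rw [period_dvd_iff, key, ← period_dvd_iff]
  · rw [period_dvd_iff, ← key, ← period_dvd_iff]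

theorem resA_C1 (a : α) (g : MulAction.stabilizer (Perm α) a) (h : C1 (g : Perm α)) : C1 (resA a g) := by
  intro y w h1 h2
  rw [resA_period, resA_period] at h1
  rw [resA_period] at h2
  obtain ⟨k, hk⟩ := sameCycle_nat (h _ _ h1 h2)
  refine ⟨k, ?_⟩
  rw [zpow_natCast]
  apply Subtype.ext
  rw [resA_pow]; exact hk

theorem resA_C2 (a : α) (g : MulAction.stabilizer (Perm α) a) (h : C2 (g : Perm α)) : C2 (resA a g) := by
  intro u v w hu hv hw
  rcases h u v w (by rw [← resA_apply, hu]) (by rw [← resA_apply, hv]) (by rw [← resA_apply, hw]) with e | e | e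
  · exact Or.inl (Subtype.ext e)
  · exact Or.inr (Or.inl (Subtype.ext e))
  · exact Or.inr (Or.inr (Subtype.ext e))

end stab

section pairs

variable {α : Type*}

/-- orbits of an involution -/
def pr (z : Perm α) (hzz : z * z = 1) : Setoid α where
  r y w := w = y ∨ w = z y
  iseqv := by
    have hz : ∀ y, z (z y) = y := by
      intro y
      have := congrArg (fun f : Perm α => f y) hzz
      simpa [Perm.mul_apply] using this
    constructor
    · intro y; exact Or.inl rfl
    · rintro y w (h | h)
      · exact Or.inl h.symm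
      · right; rw [h, hz]
    · rintro y w v (h | h) (h' | h')
      · left; rw [h', h]
      · right; rw [h', h]
      · right; rw [h', h]
      · left; rw [h', h, hz]

variable (z : Perm α) (hzz : z * z = 1)

theorem mk_eq (y w : α) : (Quotient.mk (pr z hzz) y = Quotient.mk (pr z hzz) w) ↔ (w = y ∨ w = z y) :=
  Quotient.eq

/-- the action of the centralizer on pairs -/
def resB : (Subgroup.centralizer ({z} : Set (Perm α))) →* Perm (Quotient (pr z hzz)) where
  toFun g := Quotient.congr (g : Perm α) (by
    intro y w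
    have hg : ∀ y, (g : Perm α) (z y) = z ((g : Perm α) y) := by
      intro y
      have := Subgroup.mem_centralizer_iff.mp g.2 z rfl
      have := congrArg (fun f : Perm α => f y) this
      simpa [Perm.mul_apply] using this.symm
    show (w = y ∨ w = z y) ↔ ((g : Perm α) w = (g : Perm α) y ∨ (g : Perm α) w = z ((g : Perm α) y))
    rw [← hg, (g : Perm α).injective.eq_iff, (g : Perm α).injective.eq_iff])
  map_one' := by ext y; induction y using Quotient.ind; rfl
  map_mul' := by intro g h; ext y; induction y using Quotient.ind; rfl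

theorem resB_mk (g : Subgroup.centralizer ({z} : Set (Perm α))) (y : α) :
    resB z hzz g (Quotient.mk _ y) = Quotient.mk _ ((g : Perm α) y) := rfl

theorem resB_surj [Finite α] (hf : ∀ y, z y ≠ y) : Function.Surjective (resB z hzz) := by
  classical
  have hz : ∀ y, z (z y) = y := by
    intro y
    have := congrArg (fun f : Perm α => f y) hzz
    simpa [Perm.mul_apply] using this
  intro p
  let s : Quotient (pr z hzz) → α := Quotient.out
  let q : α → Quotient (pr z hzz) := Quotient.mk _
  have hqs : ∀ b, q (s b) = b := fun b => Quotient.out_eq b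
  have hcase : ∀ y, y = s (q y) ∨ y = z (s (q y)) := by
    intro y
    have : q (s (q y)) = q y := hqs _
    exact (mk_eq z hzz _ _).mp this
  have hqz : ∀ y, q (z y) = q y := by
    intro y
    apply (mk_eq z hzz _ _).mpr
    right; rw [hz]
  let g : α → α := fun y => if y = s (q y) then s (p (q y)) else z (s (p (q y)))
  have hg1 : ∀ y, y = s (q y) → g y = s (p (q y)) := fun y h => by simp only [g]; rw [if_pos h]
  have hg2 : ∀ y, y = z (s (q y)) → g y = z (s (p (q y))) := fun y h => by
    simp only [g]; rw [if_neg]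
    intro h'
    exact hf (s (q y)) (h.symm.trans h')
  have hqg : ∀ y, q (g y) = p (q y) := by
    intro y
    rcases hcase y with h | h
    · rw [hg1 y h, hqs]
    · rw [hg2 y h, hqz, hqs]
  have hinj : Function.Injective g := by
    intro y w h
    have h1 : q y = q w := by
      apply p.injective
      rw [← hqg, ← hqg, h]
    rcases hcase y with hy | hy <;> rcases hcase w with hw | hw
    · rw [hy, hw, h1]
    · exfalso
      rw [hg1 y hy, hg2 w hw, h1] at h
      exact hf _ h.symm
    · exfalso
      rw [hg2 y hy, hg1 w hw, h1] at h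
      exact hf _ h
    · rw [hy, hw, h1]
  have hcomm : ∀ y, g (z y) = z (g y) := by
    intro y
    rcases hcase y with hy | hy
    · rw [hg1 y hy, hg2 (z y) (by rw [hqz]; exact congrArg z hy), hqz]
    · rw [hg2 y hy, hz, hg1 (z y) (by rw [hqz]; conv_lhs => rw [hy, hz]), hqz]
  let gp : Perm α := Equiv.ofBijective g (Finite.injective_iff_bijective.mp hinj)
  refine ⟨⟨gp, ?_⟩, ?_⟩
  · rw [Subgroup.mem_centralizer_iff]
    rintro _ rfl
    ext1 y
    exact (hcomm y).symm
  · ext b
    induction b using Quotient.ind with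
    | _ y => exact hqg y

theorem resB_ker [Finite α] : IsPGroup 2 (resB z hzz).ker := by
  rintro ⟨g, hg⟩
  refine ⟨1, ?_⟩
  apply Subtype.ext
  apply Subtype.ext
  show ((g : Perm α)) ^ (2 ^ 1) = 1
  rw [pow_one, sq]
  have hz : ∀ y, z (z y) = y := by
    intro y
    have := congrArg (fun f : Perm α => f y) hzz
    simpa [Perm.mul_apply] using this
  have hgz : ∀ y, (g : Perm α) (z y) = z ((g : Perm α) y) := by
    intro y
    have := Subgroup.mem_centralizer_iff.mp g.2 z rfl
    have := congrArg (fun f : Perm α => f y) this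
    simpa [Perm.mul_apply] using this.symm
  ext1 y
  rw [Perm.mul_apply, Perm.one_apply]
  rw [MonoidHom.mem_ker] at hg
  have h1 : ∀ y, (y = (g : Perm α) y ∨ y = z ((g : Perm α) y)) := by
    intro y
    have := congrArg (fun f : Perm (Quotient (pr z hzz)) => f (Quotient.mk _ y)) hg
    exact (mk_eq z hzz _ _).mp this
  rcases h1 y with h | h
  · rw [← h, ← h]
  · have h2 : (g : Perm α) y = z y := by rw [← hz ((g : Perm α) y), ← h]
    rw [h2, hgz, h2, hz]

theorem resB_pow (g : Subgroup.centralizer ({z} : Set (Perm α))) (n : ℕ) (y : α) :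
    ((resB z hzz g) ^ n) (Quotient.mk _ y) = Quotient.mk _ (((g : Perm α) ^ n) y) := by
  rw [← map_pow, resB_mk]; rfl

variable [Finite α]

theorem resB_period (hf : ∀ y, z y ≠ y) (g : Subgroup.centralizer ({z} : Set (Perm α)))
    (hg : ∃ k, orderOf (g : Perm α) = 2 ^ k) (h1 : C1 (g : Perm α)) (y : α)
    (hl : Function.minimalPeriod (g : Perm α) y ≠ 1) :
    2 * Function.minimalPeriod (resB z hzz g) (Quotient.mk _ y) = Function.minimalPeriod (g : Perm α) y := by
  haveI : Finite (Quotient (pr z hzz)) := inferInstance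
  obtain ⟨j, hj⟩ := period_two_pow (g : Perm α) hg y
  rcases j with _ | j
  · exact absurd (by rw [hj]; rfl) hl
  have hl2 : Function.minimalPeriod (g : Perm α) y = 2 * 2 ^ j := by rw [hj, pow_succ]; ring
  have hgc : (g : Perm α) * z = z * (g : Perm α) := (Subgroup.mem_centralizer_iff.mp g.2 z rfl).symm
  have hzy := z_eq h1 hzz hf hgc y _ hl2 hl
  have hzz' : ∀ y, z (z y) = y := by
    intro y
    have := congrArg (fun f : Perm α => f y) hzz
    simpa [Perm.mul_apply] using this
  have hpow : ∀ (k : ℕ) (w : α), ((g : Perm α) ^ k) (z w) = z (((g : Perm α) ^ k) w) := by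
    intro k w
    have : Commute (g : Perm α) z := hgc
    have h2 := (this.pow_left k).eq
    have := congrArg (fun f : Perm α => f w) h2
    simpa [Perm.mul_apply] using this
  have key : ∀ n, (((resB z hzz g) ^ n) (Quotient.mk _ y) = Quotient.mk _ y) ↔ 2 ^ j ∣ n := by
    intro n
    rw [resB_pow, mk_eq]
    constructor
    · rintro (h | h)
      · have := (period_dvd_iff (g : Perm α) y n).mpr h.symm
        rw [hl2] at this
        exact dvd_trans (Dvd.intro_left 2 rfl) this
      · have h3 : ((g : Perm α) ^ (2 * n)) y = y := by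
          have h4 : ((g : Perm α) ^ n) y = z y := by
            rw [← hzz' (((g : Perm α) ^ n) y), ← h]
          rw [two_mul, pow_add, Perm.mul_apply, h4, hpow, h4, hzz']
        have := (period_dvd_iff (g : Perm α) y _).mpr h3
        rw [hl2] at this
        exact (Nat.mul_dvd_mul_iff_left (by norm_num)).mp this
    · rintro ⟨t, rfl⟩
      rcases Nat.even_or_odd t with ⟨s, hs⟩ | ⟨s, hs⟩
      · left
        have : Function.minimalPeriod (g : Perm α) y ∣ 2 ^ j * t := by
          rw [hl2, hs]; exact ⟨s, by ring⟩
        exact ((period_dvd_iff _ _ _).mp this).symm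
      · right
        have h3 : ((g : Perm α) ^ (2 * 2 ^ j * s)) y = y := by
          apply (period_dvd_iff _ _ _).mp
          rw [hl2]; exact Dvd.intro s rfl
        have : ((g : Perm α) ^ (2 ^ j * t)) y = z y := by
          rw [hs, show 2 ^ j * (2 * s + 1) = 2 ^ j + 2 * 2 ^ j * s by ring, pow_add, Perm.mul_apply, h3, ← hzy]
        rw [this, hzz']
  have hper : Function.minimalPeriod (resB z hzz g) (Quotient.mk _ y) = 2 ^ j := by
    apply Nat.dvd_antisymm
    · rw [period_dvd_iff, key]
    · rw [← key, ← period_dvd_iff]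
  rw [hper, hl2]

theorem resB_C1 (hf : ∀ y, z y ≠ y) (g : Subgroup.centralizer ({z} : Set (Perm α)))
    (hg : ∃ k, orderOf (g : Perm α) = 2 ^ k) (h1 : C1 (g : Perm α)) : C1 (resB z hzz g) := by
  intro b c
  induction b using Quotient.ind with
  | _ y =>
  induction c using Quotient.ind with
  | _ w =>
  intro hper hne
  have hone : ∀ y, Function.minimalPeriod (g : Perm α) y = 1 →
      Function.minimalPeriod (resB z hzz g) (Quotient.mk _ y) = 1 := by
    intro y hy
    rw [period_eq_one_iff] at hy ⊢
    rw [resB_mk, hy]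
  have hy : Function.minimalPeriod (g : Perm α) y ≠ 1 := fun h => hne (hone y h)
  have hw : Function.minimalPeriod (g : Perm α) w ≠ 1 := fun h => hne (by rw [hper]; exact hone w h)
  have e : Function.minimalPeriod (g : Perm α) y = Function.minimalPeriod (g : Perm α) w := by
    rw [← resB_period z hzz hf g hg h1 y hy, ← resB_period z hzz hf g hg h1 w hw, hper]
  obtain ⟨k, hk⟩ := sameCycle_nat (h1 y w e hy)
  refine ⟨k, ?_⟩
  rw [zpow_natCast, resB_pow, hk]

theorem resB_C2 (hf : ∀ y, z y ≠ y) (g : Subgroup.centralizer ({z} : Set (Perm α)))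
    (hg : ∃ k, orderOf (g : Perm α) = 2 ^ k) (h1 : C1 (g : Perm α)) (h2 : C2 (g : Perm α)) : C2 (resB z hzz g) := by
  have hgz : ∀ y, (g : Perm α) (z y) = z ((g : Perm α) y) := by
    intro y
    have := Subgroup.mem_centralizer_iff.mp g.2 z rfl
    have := congrArg (fun f : Perm α => f y) this
    simpa [Perm.mul_apply] using this.symm
  -- fixed classes have period 1 or 2
  have hper : ∀ y, resB z hzz g (Quotient.mk _ y) = Quotient.mk _ y →
      Function.minimalPeriod (g : Perm α) y ≠ 1 → Function.minimalPeriod (g : Perm α) y = 2 := by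
    intro y hy hne
    rw [← resB_period z hzz hf g hg h1 y hne, (period_eq_one_iff _ _).mpr hy]
  have hone : ∀ u v, Function.minimalPeriod (g : Perm α) u = 1 → Function.minimalPeriod (g : Perm α) v = 1 →
      Quotient.mk (pr z hzz) u = Quotient.mk _ v := by
    intro u v hu hv
    rw [period_eq_one_iff] at hu hv
    rcases h2 u (z u) v hu (by rw [hgz, hu]) hv with e | e | e
    · exact absurd e.symm (hf u)
    · exact (mk_eq z hzz _ _).mpr (Or.inr e.symm)
    · rw [e]
  have htwo : ∀ u v, resB z hzz g (Quotient.mk _ u) = Quotient.mk _ u →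
      Function.minimalPeriod (g : Perm α) u = 2 → Function.minimalPeriod (g : Perm α) v = 2 →
      Quotient.mk (pr z hzz) u = Quotient.mk _ v := by
    intro u v hfix hu hv
    obtain ⟨k, hk⟩ := sameCycle_nat (h1 u v (by rw [hu, hv]) (by rw [hu]; norm_num))
    rw [← hk, ← resB_pow]
    symm
    rw [← period_dvd_iff, (period_eq_one_iff _ _).mpr hfix]
    exact one_dvd k
  intro a b c
  induction a using Quotient.ind with
  | _ u =>
  induction b using Quotient.ind with
  | _ v =>
  induction c using Quotient.ind with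
  | _ w =>
  intro hu hv hw
  by_cases hu1 : Function.minimalPeriod (g : Perm α) u = 1
  · by_cases hv1 : Function.minimalPeriod (g : Perm α) v = 1
    · exact Or.inl (hone u v hu1 hv1)
    · by_cases hw1 : Function.minimalPeriod (g : Perm α) w = 1
      · exact Or.inr (Or.inr (hone u w hu1 hw1))
      · exact Or.inr (Or.inl (htwo v w hv (hper v hv hv1) (hper w hw hw1)))
  · by_cases hv1 : Function.minimalPeriod (g : Perm α) v = 1
    · by_cases hw1 : Function.minimalPeriod (g : Perm α) w = 1
      · exact Or.inr (Or.inl (hone v w hv1 hw1))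
      · exact Or.inr (Or.inr (htwo u w hu (hper u hu hu1) (hper w hw hw1)))
    · exact Or.inl (htwo u v hu (hper u hu hu1) (hper v hv hv1))

end pairs

theorem order_map {G K : Type*} [Group G] [Group K] [Finite G] (f : G →* K) {g : G} (h : ∃ k, orderOf g = 2 ^ k) :
    ∃ k, orderOf (f g) = 2 ^ k := by
  obtain ⟨k, hk⟩ := h
  have : orderOf (f g) ∣ 2 ^ k := by rw [← hk]; exact orderOf_map_dvd f g
  obtain ⟨j, _, hj⟩ := (Nat.dvd_prime_pow Nat.prime_two).mp this
  exact ⟨j, hj⟩

/-- uniqueness -/
theorem uniq : ∀ (n : ℕ) (α : Type) [Fintype α] [DecidableEq α], Fintype.card α = n → ∀ x : Perm α,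
    (∃ k, orderOf x = 2 ^ k) → C1 x → C2 x → ∀ P Q : Sylow 2 (Perm α), x ∈ P → x ∈ Q → P = Q := by
  intro n
  induction n using Nat.strong_induction_on with
  | _ n ih =>
  intro α _ _ hn x hx h1 h2 P Q hxP hxQ
  rcases Nat.eq_zero_or_pos n with h0 | hpos
  · have : IsEmpty α := Fintype.card_eq_zero_iff.mp (by rw [hn, h0])
    apply Sylow.ext
    exact Subsingleton.elim _ _
  rcases Nat.even_or_odd n with ⟨M, hM⟩ | hodd
  · -- even
    have hM' : Fintype.card α = 2 * M := by omega
    have hM0 : 0 < M := by omega
    obtain ⟨z, hzz, hf, hzP⟩ := exists_central hM0 hM' P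
    obtain ⟨z', hzz', hf', hzQ⟩ := exists_central hM0 hM' Q
    have hz : z = z' := z_unique hx h1 h2 hzz hf (hzP x hxP) hzz' hf' (hzQ x hxQ)
    subst hz
    have hPH : (P : Subgroup (Perm α)) ≤ Subgroup.centralizer ({z} : Set (Perm α)) := by
      intro g hg
      rw [Subgroup.mem_centralizer_iff]
      rintro _ rfl
      exact (hzP g hg).symm
    have hQH : (Q : Subgroup (Perm α)) ≤ Subgroup.centralizer ({z} : Set (Perm α)) := by
      intro g hg
      rw [Subgroup.mem_centralizer_iff]
      rintro _ rfl
      exact (hzQ g hg).symm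
    refine red _ (resB z hzz) (resB_surj z hzz hf) (resB_ker z hzz) x (hPH hxP) ?_ P Q hPH hQH hxP hxQ
    intro P' Q' hP' hQ'
    classical
    haveI : Fintype (Quotient (pr z hzz)) := Fintype.ofFinite _
    have hlt : Fintype.card (Quotient (pr z hzz)) < n := by
      rw [← hn]
      apply Fintype.card_lt_of_surjective_not_injective (Quotient.mk (pr z hzz)) Quotient.mk_surjective
      intro hinj
      haveI : Nonempty α := Fintype.card_pos_iff.mp (by omega)
      let y : α := Classical.arbitrary α
      have : Quotient.mk (pr z hzz) y = Quotient.mk _ (z y) := (mk_eq z hzz _ _).mpr (Or.inr rfl)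
      exact hf y (hinj this).symm
    exact ih _ hlt (Quotient (pr z hzz)) rfl _ (order_map (resB z hzz) (by
        obtain ⟨k, hk⟩ := hx
        exact ⟨k, by rw [← hk]; exact Subgroup.orderOf_mk _ _⟩))
      (resB_C1 z hzz hf _ hx h1) (resB_C2 z hzz hf _ hx h1 h2) P' Q' hP' hQ'
  · -- odd
    have hnd : ¬ 2 ∣ Nat.card α := by
      rw [Nat.card_eq_fintype_card, hn]
      rw [← Nat.not_even_iff_odd, even_iff_two_dvd] at hodd
      exact hodd
    obtain ⟨a, ha⟩ := P.isPGroup'.nonempty_fixed_point_of_prime_not_dvd_card α hnd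
    obtain ⟨b, hb⟩ := Q.isPGroup'.nonempty_fixed_point_of_prime_not_dvd_card α hnd
    have ha' : ∀ g ∈ P, g a = a := fun g hg => ha ⟨g, hg⟩
    have hb' : ∀ g ∈ Q, g b = b := fun g hg => hb ⟨g, hg⟩
    have hab : a = b := by
      by_contra hne
      have hxa := ha' x hxP
      have hxb := hb' x hxQ
      obtain ⟨k, hk⟩ := hx
      have hpg : IsPGroup 2 (Subgroup.zpowers x) := isPGroup_zpowers ⟨k, hk⟩
      have hmod := hpg.card_modEq_card_fixedPoints α
      have hset : (MulAction.fixedPoints (Subgroup.zpowers x) α) = {a, b} := by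
        ext w
        constructor
        · intro hw
          have hxw : x w = w := hw ⟨x, Subgroup.mem_zpowers x⟩
          rcases h2 a b w hxa hxb hxw with e | e | e
          · exact absurd e hne
          · right; exact e.symm
          · left; exact e.symm
        · rintro (rfl | rfl)
          · rintro ⟨g, hg⟩
            obtain ⟨i, rfl⟩ := Subgroup.mem_zpowers_iff.mp hg
            exact Equiv.Perm.zpow_apply_eq_self_of_apply_eq_self hxa i
          · rintro ⟨g, hg⟩
            obtain ⟨i, rfl⟩ := Subgroup.mem_zpowers_iff.mp hg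
            exact Equiv.Perm.zpow_apply_eq_self_of_apply_eq_self hxb i
      rw [hset] at hmod
      have hc2 : Nat.card ({a, b} : Set α) = 2 := by
        rw [Nat.card_coe_set_eq, Set.ncard_pair hne]
      rw [hc2, Nat.card_eq_fintype_card, hn] at hmod
      obtain ⟨t, ht⟩ := hodd
      have : n % 2 = 2 % 2 := hmod
      omega
    subst hab
    have hPH : (P : Subgroup (Perm α)) ≤ MulAction.stabilizer (Perm α) a := fun g hg => ha' g hg
    have hQH : (Q : Subgroup (Perm α)) ≤ MulAction.stabilizer (Perm α) a := fun g hg => hb' g hg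
    refine red _ (resA a) (resA_surj a) (resA_ker a) x (hPH hxP) ?_ P Q hPH hQH hxP hxQ
    intro P' Q' hP' hQ'
    have hlt : Fintype.card {y // y ≠ a} < n := by
      rw [← hn]
      exact Fintype.card_subtype_lt (x := a) (by simp)
    exact ih _ hlt {y // y ≠ a} rfl _ (order_map (resA a) (by
        obtain ⟨k, hk⟩ := hx
        exact ⟨k, by rw [← hk]; exact Subgroup.orderOf_mk _ _⟩))
      (resA_C1 a _ h1) (resA_C2 a _ h2) P' Q' hP' hQ'

end H75.US
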