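import Mathlib
import Cfsg.Agent.Lib.H75.US3
set_option linter.all false
set_option autoImplicit false

/-! Elements of 2-power order in a unique Sylow 2-subgroup of a symmetric group: final statement -/

namespace H75.US

open Equiv Equiv.Perm

variable {α : Type*} [Fintype α] [DecidableEq α]

theorem card_cycleOf (x : Perm α) (y : α) (hy : y ∈ x.support) :
    (x.cycleOf y).support.card = Function.minimalPeriod x y := by
  have hcyc : (x.cycleOf y).IsCycle := isCycle_cycleOf x (mem_support.mp hy)
  rw [← hcyc.orderOf]
  have key : ∀ n, orderOf (x.cycleOf y) ∣ n ↔ (x ^ n) y = y := by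
    intro n
    rw [orderOf_dvd_iff_pow_eq_one, hcyc.pow_eq_one_iff]
    constructor
    · rintro ⟨w, hw, hw2⟩
      have hs : x.SameCycle y w := by
        have : w ∈ (x.cycleOf y).support := mem_support.mpr hw
        rw [mem_support_cycleOf_iff] at this
        exact this.1
      obtain ⟨i, rfl⟩ := hs
      have h1 : ∀ m : ℕ, ((x.cycleOf y) ^ m) ((x ^ i) y) = (x ^ m) ((x ^ i) y) := by
        intro m
        have h2 : (x ^ i) y = ((x.cycleOf y) ^ i) y := (cycleOf_zpow_apply_self x y i).symm
        rw [h2, ← zpow_natCast, ← zpow_natCast, ← Perm.mul_apply, ← zpow_add, cycleOf_zpow_apply_self,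
          cycleOf_zpow_apply_self, ← Perm.mul_apply, ← zpow_add]
      rw [h1] at hw2
      have h3 : (x ^ i) ((x ^ n) y) = (x ^ i) y := by
        rw [← Perm.mul_apply, ← zpow_natCast, ← zpow_add, add_comm, zpow_add, Perm.mul_apply, zpow_natCast]
        exact hw2
      exact (x ^ i).injective h3
    · intro h
      refine ⟨y, ?_, ?_⟩
      · rw [cycleOf_apply_self]; exact mem_support.mp hy
      · rw [cycleOf_pow_apply_self, h]
  apply Nat.dvd_antisymm
  · rw [key]; exact (period_dvd_iff x y _).mp dvd_rfl
  · rw [period_dvd_iff, ← key]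

theorem nodup_iff (x : Perm α) : x.cycleType.Nodup ↔ C1 x := by
  rw [cycleType_def]
  have hn : x.cycleFactorsFinset.val.Nodup := x.cycleFactorsFinset.nodup
  rw [Multiset.nodup_map_iff_inj_on hn]
  constructor
  · intro h a b hab hne
    have ha : a ∈ x.support := by
      rw [mem_support]; intro e; exact hne ((period_eq_one_iff x a).mpr e)
    have hb : b ∈ x.support := by
      rw [mem_support]; intro e; exact hne (by rw [hab]; exact (period_eq_one_iff x b).mpr e)
    have h1 := h (x.cycleOf a) (cycleOf_mem_cycleFactorsFinset_iff.mpr ha)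
      (x.cycleOf b) (cycleOf_mem_cycleFactorsFinset_iff.mpr hb)
      (by
        show (x.cycleOf a).support.card = (x.cycleOf b).support.card
        rw [card_cycleOf x a ha, card_cycleOf x b hb, hab])
    have h2 : b ∈ (x.cycleOf b).support := by
      rw [mem_support_cycleOf_iff]; exact ⟨SameCycle.refl x b, hb⟩
    rw [← h1, mem_support_cycleOf_iff] at h2
    exact h2.1
  · intro h c hc d hd hcd
    have hc' := mem_cycleFactorsFinset_iff.mp hc
    have hd' := mem_cycleFactorsFinset_iff.mp hd
    obtain ⟨a, ha, -⟩ := hc'.1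
    obtain ⟨b, hb, -⟩ := hd'.1
    have hca : c = x.cycleOf a := cycle_is_cycleOf (mem_support.mpr ha) hc
    have hdb : d = x.cycleOf b := cycle_is_cycleOf (mem_support.mpr hb) hd
    have hax : a ∈ x.support := mem_cycleFactorsFinset_support_le hc (mem_support.mpr ha)
    have hbx : b ∈ x.support := mem_cycleFactorsFinset_support_le hd (mem_support.mpr hb)
    have e : Function.minimalPeriod x a = Function.minimalPeriod x b := by
      rw [← card_cycleOf x a hax, ← card_cycleOf x b hbx, ← hca, ← hdb]; exact hcd
    have := h a b e (by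
      intro h1; exact mem_support.mp hax ((period_eq_one_iff x a).mp h1))
    rw [hca, hdb]
    exact this.cycleOf_eq

theorem C2_iff (x : Perm α) : (Fintype.card α ≤ x.support.card + 2) ↔ C2 x := by
  have h1 : (Finset.univ.filter (fun y => x y = y)).card + x.support.card = Fintype.card α := by
    rw [← Finset.card_univ, ← Finset.card_filter_add_card_filter_not (s := Finset.univ) (p := fun y => x y = y)]
    rfl
  rw [← h1]
  have h2 : (Finset.univ.filter (fun y => x y = y)).card ≤ 2 ↔ C2 x := by
    constructor
    · intro h a b c ha hb hc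
      by_contra hne
      push_neg at hne
      have : ({a, b, c} : Finset α) ⊆ Finset.univ.filter (fun y => x y = y) := by
        intro w hw
        simp only [Finset.mem_insert, Finset.mem_singleton] at hw
        rw [Finset.mem_filter]
        refine ⟨Finset.mem_univ _, ?_⟩
        rcases hw with rfl | rfl | rfl <;> assumption
      have h3 := Finset.card_le_card this
      rw [Finset.card_eq_three.mpr ⟨a, b, c, hne.1, hne.2.2, hne.2.1, rfl⟩] at h3
      omega
    · intro h
      by_contra hlt
      push_neg at hlt
      obtain ⟨a, ha, b, hb, c, hc, hab, hac, hbc⟩ := Finset.two_lt_card.mp hlt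
      rw [Finset.mem_filter] at ha hb hc
      rcases h a b c ha.2 hb.2 hc.2 with e | e | e
      · exact hab e
      · exact hbc e
      · exact hac e
  rw [← h2]
  constructor <;> intro h <;> omega

theorem main (n : ℕ) (x : Perm (Fin n)) (hx : ∃ k : ℕ, orderOf x = 2 ^ k) :
    (∃! P : Sylow 2 (Perm (Fin n)), x ∈ P) ↔ (n ≤ x.support.card + 2 ∧ x.cycleType.Nodup) := by
  have e : (n ≤ x.support.card + 2) ↔ C2 x := by
    rw [← C2_iff, Fintype.card_fin]
  rw [e, nodup_iff]
  constructor
  · rintro ⟨P, hP, huniq⟩
    have := forward x hx P hP huniq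
    exact ⟨this.2, this.1⟩
  · rintro ⟨h2, h1⟩
    obtain ⟨P, hP⟩ := (isPGroup_zpowers hx).exists_le_sylow
    have hxP : x ∈ P := hP (Subgroup.mem_zpowers x)
    exact ⟨P, hxP, fun Q hQ => uniq n (Fin n) (Fintype.card_fin n) x hx h1 h2 Q P hQ hxP⟩

end H75.US
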